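import Cfsg.Agent.H86.SymEight.Five

/-!
The normalised three-local setting.
-/

set_option autoImplicit false

namespace Cfsg.Agent.H86.SymEight

open Equiv

variable {G : Type*} [Group G]

/-- The normalised data extracted from the hypotheses. -/
structure Setting (G : Type*) [Group G] where
  /-- The element of order three. -/
  z : G
  /-- An involution inverting `z`. -/
  w : G
  /-- An involution exchanging `z` and `ψ c3`. -/
  t : G
  /-- The component of the centraliser. -/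
  ψ : Perm (Fin 5) →* G
  inj : Function.Injective ψ
  z3 : z * z * z = 1
  z_notin : z ∉ ψ.range
  w2 : w * w = 1
  wz : w * z * w = z⁻¹
  z_comm : ∀ σ, Commute z (ψ σ)
  w_comm : ∀ σ, Commute w (ψ σ)
  cz : ∀ g, Commute g z → ∃ i : Fin 3, ∃ σ, g = z ^ (i : ℕ) * ψ σ
  cz_card : Nat.card (Subgroup.centralizer ({z} : Set G)) = 360
  t2 : t * t = 1
  tz : t * z * t = ψ c3
  ttau : Commute t (ψ tau)
  twt : t * w * t = ψ uu ∨ t * w * t = ψ (uu * tau)
  /-- A Sylow subgroup. -/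
  P : Sylow 3 G
  P_eq : (P : Subgroup G) = Subgroup.closure {z, ψ c3}
  cy_card : ∀ d, (d = z * ψ c3 ∨ d = z * (ψ c3)⁻¹) →
    Nat.card (Subgroup.centralizer ({d} : Set G)) = 36
  cy_norm : ∀ d, (d = z * ψ c3 ∨ d = z * (ψ c3)⁻¹) → ∀ g, Commute g d →
    ∀ x ∈ Subgroup.closure {z, ψ c3}, g * x * g⁻¹ ∈ Subgroup.closure {z, ψ c3}

namespace Setting

variable (S : Setting G)

/-- The image of `(0 1 2)`. -/
def r : G := S.ψ c3

/-- The image of `(3 4)`. -/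
def τ0 : G := S.ψ tau

/-- The subgroup of order nine. -/
def D : Subgroup G := Subgroup.closure {S.z, S.r}

theorem t_inv : S.t⁻¹ = S.t := inv_eq_of_mul_eq_one_right S.t2

theorem w_inv : S.w⁻¹ = S.w := inv_eq_of_mul_eq_one_right S.w2

/-- The component of the centraliser of `r`. -/
def φ : Perm (Fin 5) →* G := (MulAut.conj S.t).toMonoidHom.comp S.ψ

theorem φ_apply (σ : Perm (Fin 5)) : S.φ σ = S.t * S.ψ σ * S.t := by
  show S.t * S.ψ σ * S.t⁻¹ = _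
  rw [t_inv]

theorem φ_inj : Function.Injective S.φ := (MulAut.conj S.t).injective.comp S.inj

theorem tt_conj (g : G) : S.t * (S.t * g * S.t) * S.t = g := by
  rw [show S.t * (S.t * g * S.t) * S.t = (S.t * S.t) * g * (S.t * S.t) by group, S.t2, one_mul,
    mul_one]

theorem t_conj_mul (a b : G) : S.t * (a * b) * S.t = (S.t * a * S.t) * (S.t * b * S.t) := by
  rw [show (S.t * a * S.t) * (S.t * b * S.t) = S.t * a * (S.t * S.t) * b * S.t by group, S.t2,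
    mul_one]
  group

theorem t_conj_pow (a : G) (n : ℕ) : S.t * a ^ n * S.t = (S.t * a * S.t) ^ n := by
  have h := conj_pow (i := n) (a := S.t) (b := a)
  rw [t_inv] at h
  exact h.symm

theorem tr : S.t * S.r * S.t = S.z := by
  show S.t * S.ψ c3 * S.t = S.z
  rw [← S.tz, S.tt_conj]

theorem φ_c3 : S.φ c3 = S.z := (S.φ_apply c3).trans S.tr

theorem φ_tau : S.φ tau = S.τ0 := by
  rw [S.φ_apply, S.ttau.eq, mul_assoc, S.t2, mul_one]
  rfl

theorem w_cases : S.w = S.φ uu ∨ S.w = S.φ (uu * tau) := by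
  rcases S.twt with h | h
  · left; rw [S.φ_apply, ← h, S.tt_conj]
  · right; rw [S.φ_apply, ← h, S.tt_conj]

theorem z_ne : S.z ≠ 1 := fun h => S.z_notin (h ▸ one_mem _)

theorem z_pow3 : S.z ^ 3 = 1 := by rw [pow_succ, pow_two, S.z3]

theorem z_inv : S.z⁻¹ = S.z * S.z :=
  inv_eq_of_mul_eq_one_right (by rw [← mul_assoc, S.z3])

theorem r3 : S.r * S.r * S.r = 1 := by
  show S.ψ c3 * S.ψ c3 * S.ψ c3 = 1
  rw [← map_mul, ← map_mul, c3_cube, map_one]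

theorem r_pow3 : S.r ^ 3 = 1 := by rw [pow_succ, pow_two, S.r3]

theorem r_ne : S.r ≠ 1 := fun h => c3_ne (S.inj (h.trans (map_one S.ψ).symm))

theorem r_inv : S.r⁻¹ = S.r * S.r :=
  inv_eq_of_mul_eq_one_right (by rw [← mul_assoc, S.r3])

theorem τ0_sq : S.τ0 * S.τ0 = 1 := by
  show S.ψ tau * S.ψ tau = 1
  rw [← map_mul, tau_sq, map_one]

theorem τ0_ne : S.τ0 ≠ 1 := fun h => tau_ne (S.inj (h.trans (map_one S.ψ).symm))

theorem zr : Commute S.z S.r := S.z_comm c3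

theorem zτ : Commute S.z S.τ0 := S.z_comm tau

theorem rτ : Commute S.r S.τ0 := (show Commute c3 tau from tau_c3.symm).map S.ψ

theorem tτ : Commute S.t S.τ0 := S.ttau

theorem wτ : Commute S.w S.τ0 := S.w_comm tau

theorem wr : Commute S.w S.r := S.w_comm c3

/-- Uniqueness of the decomposition in the centraliser of `z`. -/
theorem sep {i j : Fin 3} {σ ρ : Perm (Fin 5)}
    (h : S.z ^ (i : ℕ) * S.ψ σ = S.z ^ (j : ℕ) * S.ψ ρ) : i = j ∧ σ = ρ := by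
  have key : ∀ k : ℕ, k < 3 → ∀ π, S.z ^ k = S.ψ π → k = 0 := by
    intro k hk π hπ
    interval_cases k
    · rfl
    · exact absurd ⟨π, by rw [← hπ, pow_one]⟩ S.z_notin
    · refine absurd ⟨π * π, ?_⟩ S.z_notin
      rw [map_mul, ← hπ, ← pow_add, pow_succ, S.z_pow3, one_mul]
  have hmod : ∀ k : ℕ, S.z ^ k = S.z ^ (k % 3) := fun k => pow_eq_pow_mod k S.z_pow3
  have h2 : S.z ^ ((i : ℕ) + (3 - (j : ℕ))) = S.ψ (ρ * σ⁻¹) := by
    have hc : S.z ^ (3 - (j : ℕ)) * S.z ^ (j : ℕ) = 1 := by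
      rw [← pow_add, show 3 - (j : ℕ) + j = 3 by omega, S.z_pow3]
    calc S.z ^ ((i : ℕ) + (3 - (j : ℕ))) = S.z ^ (3 - (j : ℕ)) * S.z ^ (i : ℕ) := by
          rw [← pow_add, add_comm]
      _ = S.z ^ (3 - (j : ℕ)) * (S.z ^ (i : ℕ) * S.ψ σ) * (S.ψ σ)⁻¹ := by group
      _ = S.z ^ (3 - (j : ℕ)) * S.z ^ (j : ℕ) * S.ψ ρ * (S.ψ σ)⁻¹ := by rw [h]; group
      _ = _ := by rw [hc, one_mul, map_mul, map_inv]
  rw [hmod] at h2
  have h0 := key _ (Nat.mod_lt _ (by norm_num)) _ h2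
  have hij : i = j := Fin.ext (by omega)
  subst hij
  exact ⟨rfl, S.inj (mul_left_cancel h)⟩

/-- The centraliser of `r`. -/
theorem cr (g : G) (hg : Commute g S.r) : ∃ i : Fin 3, ∃ σ, g = S.r ^ (i : ℕ) * S.φ σ := by
  have h : Commute (S.t * g * S.t) S.z := by
    have h := hg.map (MulAut.conj S.t).toMonoidHom
    simpa [S.t_inv, S.tr] using h
  obtain ⟨i, σ, hσ⟩ := S.cz _ h
  refine ⟨i, σ, ?_⟩
  have := congrArg (fun x => S.t * x * S.t) hσ
  simp only [S.tt_conj, S.t_conj_mul, S.t_conj_pow, S.tz] at this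
  rw [S.φ_apply]
  exact this

theorem r_φ (σ : Perm (Fin 5)) : Commute S.r (S.φ σ) := by
  have h := (S.z_comm σ).map (MulAut.conj S.t).toMonoidHom
  simpa [S.t_inv, S.tz, φ_apply, r] using h

theorem sep_r {i j : Fin 3} {σ ρ : Perm (Fin 5)}
    (h : S.r ^ (i : ℕ) * S.φ σ = S.r ^ (j : ℕ) * S.φ ρ) : i = j ∧ σ = ρ := by
  refine S.sep ?_
  have := congrArg (fun x => S.t * x * S.t) h
  rw [S.t_conj_mul, S.t_conj_mul, S.t_conj_pow, S.t_conj_pow, S.tr, S.φ_apply, S.φ_apply, S.tt_conj,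
    S.tt_conj] at this
  exact this

theorem mem_D {d : G} : d ∈ S.D ↔ ∃ i j : Fin 3, d = S.z ^ (i : ℕ) * S.r ^ (j : ℕ) := by
  have red : ∀ a b : ℕ, ∃ i j : Fin 3, S.z ^ a * S.r ^ b = S.z ^ (i : ℕ) * S.r ^ (j : ℕ) :=
    fun a b => ⟨⟨a % 3, Nat.mod_lt _ (by norm_num)⟩, ⟨b % 3, Nat.mod_lt _ (by norm_num)⟩, by
      rw [← pow_eq_pow_mod a S.z_pow3, ← pow_eq_pow_mod b S.r_pow3]⟩
  refine ⟨fun hd => ?_, ?_⟩
  · refine Subgroup.closure_induction (fun x hx => ?_) ?_ ?_ ?_ hd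
    · rcases hx with rfl | hx
      · exact ⟨1, 0, by simp⟩
      · rw [Set.mem_singleton_iff.mp hx]
        exact ⟨0, 1, by simp⟩
    · exact ⟨0, 0, by simp⟩
    · rintro x y - - ⟨i, j, rfl⟩ ⟨k, l, rfl⟩
      obtain ⟨a, b, h⟩ := red ((i : ℕ) + k) ((j : ℕ) + l)
      refine ⟨a, b, ?_⟩
      rw [← h, pow_add, pow_add]
      rw [show S.z ^ (i : ℕ) * S.r ^ (j : ℕ) * (S.z ^ (k : ℕ) * S.r ^ (l : ℕ))
        = S.z ^ (i : ℕ) * (S.r ^ (j : ℕ) * S.z ^ (k : ℕ)) * S.r ^ (l : ℕ) by group,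
        ((S.zr.pow_pow (k : ℕ) (j : ℕ)).symm).eq]
      group
    · rintro x - ⟨i, j, rfl⟩
      obtain ⟨a, b, h⟩ := red (2 * (i : ℕ)) (2 * (j : ℕ))
      refine ⟨a, b, ?_⟩
      rw [← h, inv_eq_iff_mul_eq_one]
      rw [show S.z ^ (i : ℕ) * S.r ^ (j : ℕ) * (S.z ^ (2 * (i : ℕ)) * S.r ^ (2 * (j : ℕ)))
        = S.z ^ (i : ℕ) * (S.r ^ (j : ℕ) * S.z ^ (2 * (i : ℕ))) * S.r ^ (2 * (j : ℕ)) by group,
        ((S.zr.pow_pow (2 * (i : ℕ)) (j : ℕ)).symm).eq]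
      calc _ = S.z ^ ((i : ℕ) * 3) * S.r ^ ((j : ℕ) * 3) := by group
        _ = 1 := by rw [mul_comm (i : ℕ), mul_comm (j : ℕ), pow_mul, pow_mul, S.z_pow3, S.r_pow3,
            one_pow, one_pow, one_mul]
  · rintro ⟨i, j, rfl⟩
    exact mul_mem (pow_mem (Subgroup.subset_closure (by simp)) _)
      (pow_mem (Subgroup.subset_closure (by simp)) _)

theorem z_mem_D : S.z ∈ S.D := Subgroup.subset_closure (by simp)

theorem r_mem_D : S.r ∈ S.D := Subgroup.subset_closure (by simp)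

theorem card_D : Nat.card S.D = 9 := by
  let f : Fin 3 × Fin 3 → S.D := fun p =>
    ⟨S.z ^ (p.1 : ℕ) * S.r ^ (p.2 : ℕ), S.mem_D.2 ⟨p.1, p.2, rfl⟩⟩
  have hf : Function.Bijective f := by
    refine ⟨fun p q h => ?_, fun d => ?_⟩
    · have h' : S.z ^ (p.1 : ℕ) * S.ψ (c3 ^ (p.2 : ℕ)) = S.z ^ (q.1 : ℕ) * S.ψ (c3 ^ (q.2 : ℕ)) := by
        simpa [f, r, map_pow] using congrArg Subtype.val h
      obtain ⟨h1, h2⟩ := S.sep h'
      refine Prod.ext h1 ?_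
      revert h2
      generalize p.2 = a
      generalize q.2 = b
      revert a b
      decide
    · obtain ⟨i, j, h⟩ := S.mem_D.1 d.2
      exact ⟨(i, j), Subtype.ext h.symm⟩
  rw [← Nat.card_congr (Equiv.ofBijective f hf)]
  simp

theorem D_eq_P : (S.P : Subgroup G) = S.D := S.P_eq

/-- The centraliser of the subgroup of order nine. -/
theorem cent_D (g : G) (h1 : Commute g S.z) (h2 : Commute g S.r) :
    ∃ i j : Fin 3, ∃ k : Fin 2, g = S.z ^ (i : ℕ) * S.r ^ (j : ℕ) * S.τ0 ^ (k : ℕ) := by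
  obtain ⟨i, σ, rfl⟩ := S.cz g h1
  have h : Commute (S.ψ σ) (S.ψ c3) := by
    have := ((S.zr.pow_left (i : ℕ)).inv_left).mul_left h2
    rwa [inv_mul_cancel_left] at this
  have h' : σ * c3 * σ⁻¹ = c3 := by
    refine S.inj ?_
    rw [map_mul, map_mul, map_inv, h.eq, mul_inv_cancel_right]
  obtain ⟨j, k, rfl⟩ := cent_c3 σ h'
  exact ⟨i, j, k, by simp [r, τ0, mul_assoc, map_pow]⟩

end Setting

end Cfsg.Agent.H86.SymEight
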