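import Mathlib
import Cfsg.Agent.H99.AltCarmichael

/-!
Homomorphisms from symmetric groups given by Carmichael generators and an inverting involution.
-/

set_option autoImplicit false
set_option linter.style.haveILetI false

namespace Cfsg.Agent.H86.SymEight

open Equiv Equiv.Perm Cfsg.Agent.H99.BoundedPres

variable {I : Type} [Fintype I] [DecidableEq I] {P : Type*} [Group P]

/-- The relations of Carmichael. -/
def carmRels (I : Type) : Set (FreeGroup I) :=
  {x | (∃ i, x = FreeGroup.of i ^ 3) ∨ ∃ i j, i ≠ j ∧ x = (FreeGroup.of i * FreeGroup.of j) ^ 2}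

/-- A family satisfying the relations of Carmichael defines a homomorphism. -/
theorem exists_alt_hom (g : I → P) (h3 : ∀ i, g i ^ 3 = 1)
    (h2 : ∀ i j, i ≠ j → (g i * g j) ^ 2 = 1) :
    ∃ f : alternatingGroup (Fin 2 ⊕ I) →* P, ∀ i, f (zA i) = g i := by
  classical
  let C := PresentedGroup (carmRels I)
  let c : I → C := PresentedGroup.of
  have hrel : ∀ x ∈ carmRels I, PresentedGroup.mk (carmRels I) x = 1 := fun x hx =>
    PresentedGroup.one_of_mem hx
  have hc3 : ∀ i, c i ^ 3 = 1 := fun i => by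
    have := hrel _ (Or.inl ⟨i, rfl⟩)
    simpa [c, PresentedGroup.of] using this
  have hc2 : ∀ i j, i ≠ j → (c i * c j) ^ 2 = 1 := fun i j hij => by
    have := hrel _ (Or.inr ⟨i, j, hij, rfl⟩)
    simpa [c, PresentedGroup.of] using this
  obtain ⟨hfin, hcard⟩ := card_le_carmichael' c hc3 hc2 (PresentedGroup.closure_range_of _)
  have hA : ∀ x ∈ carmRels I, FreeGroup.lift (zA (I := I)) x = 1 := by
    rintro x (⟨i, rfl⟩ | ⟨i, j, hij, rfl⟩)
    · simpa using zA_cube i
    · simpa using zA_pair i j hij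
  have hP : ∀ x ∈ carmRels I, FreeGroup.lift g x = 1 := by
    rintro x (⟨i, rfl⟩ | ⟨i, j, hij, rfl⟩)
    · simpa using h3 i
    · simpa using h2 i j hij
  set θ : C →* alternatingGroup (Fin 2 ⊕ I) := PresentedGroup.toGroup hA with hθ
  have hθs : Function.Surjective θ := by
    rw [← MonoidHom.range_eq_top, eq_top_iff, ← zA_gen, Subgroup.closure_le]
    rintro _ ⟨i, rfl⟩
    exact ⟨c i, PresentedGroup.toGroup.of hA⟩
  have hθb : Function.Bijective θ := by
    refine (Nat.bijective_iff_surjective_and_card θ).mpr ⟨hθs, le_antisymm ?_ ?_⟩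
    · have := two_mul_card (I := I)
      omega
    · exact Nat.card_le_card_of_surjective θ hθs
  set e := MulEquiv.ofBijective θ hθb
  refine ⟨(PresentedGroup.toGroup hP).comp e.symm.toMonoidHom, fun i => ?_⟩
  have he : e.symm (zA i) = c i := by
    rw [MulEquiv.symm_apply_eq]
    exact (PresentedGroup.toGroup.of hA).symm
  show PresentedGroup.toGroup hP (e.symm (zA i)) = g i
  rw [he]
  exact PresentedGroup.toGroup.of hP

omit [Fintype I] in
theorem sab_conj_alt [Fintype I] (x : alternatingGroup (Fin 2 ⊕ I)) :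
    (sab : Perm (Fin 2 ⊕ I)) * (x : Perm (Fin 2 ⊕ I)) * sab ∈ alternatingGroup (Fin 2 ⊕ I) := by
  rw [mem_alternatingGroup, Perm.sign_mul, Perm.sign_mul, mem_alternatingGroup.mp x.2, mul_one]
  exact Int.units_mul_self _

local notation "Alt" => alternatingGroup (Fin 2 ⊕ I)

/-- A family satisfying the relations of Carmichael, inverted by an involution, defines a
homomorphism on the symmetric group. -/
theorem exists_perm_hom (g : I → P) (w : P) (h3 : ∀ i, g i ^ 3 = 1)
    (h2 : ∀ i j, i ≠ j → (g i * g j) ^ 2 = 1) (hw : w * w = 1) (hinv : ∀ i, w * g i * w = (g i)⁻¹) :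
    ∃ F : Perm (Fin 2 ⊕ I) →* P, (∀ i, F (zPerm i) = g i) ∧ F sab = w := by
  classical
  obtain ⟨f, hf⟩ := exists_alt_hom g h3 h2
  have hsgn : sign (sab : Perm (Fin 2 ⊕ I)) = -1 := sign_swap (by simp)
  have hswap : ∀ x : Alt, f ⟨sab * (x : Perm (Fin 2 ⊕ I)) * sab, sab_conj_alt x⟩ = w * f x * w := by
    have hwi : w⁻¹ = w := inv_eq_of_mul_eq_one_right hw
    let f1 : Alt →* P := MonoidHom.mk' (fun x => f ⟨sab * (x : Perm (Fin 2 ⊕ I)) * sab, sab_conj_alt x⟩) fun x y => by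
      rw [← map_mul]
      congr 1
      refine Subtype.ext ?_
      show sab * ((x : Perm (Fin 2 ⊕ I)) * (y : Perm (Fin 2 ⊕ I))) * sab = sab * (x : Perm (Fin 2 ⊕ I)) * sab * (sab * (y : Perm (Fin 2 ⊕ I)) * sab)
      calc sab * ((x : Perm (Fin 2 ⊕ I)) * (y : Perm (Fin 2 ⊕ I))) * sab = sab * (x : Perm (Fin 2 ⊕ I)) * (sab * sab) * (y : Perm (Fin 2 ⊕ I)) * sab := by
            rw [sab_mul_self, mul_one, ← mul_assoc]
        _ = _ := by group
    let f2 : Alt →* P := (MulAut.conj w).toMonoidHom.comp f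
    have : f1 = f2 := by
      refine MonoidHom.eq_of_eqOn_dense zA_gen ?_
      rintro _ ⟨i, rfl⟩
      show f ⟨sab * zPerm i * sab, _⟩ = w * f (zA i) * w⁻¹
      rw [hwi, hf, hinv, ← hf, ← map_inv]
      congr 1
      exact Subtype.ext (sab_zPerm i)
    intro x
    have h := DFunLike.congr_fun this x
    simpa [f1, f2, hwi] using h
  have hodd : ∀ σ : Perm (Fin 2 ⊕ I), σ ∉ Alt → σ * sab ∈ Alt := by
    intro σ hσ
    rw [mem_alternatingGroup] at hσ ⊢
    rw [Perm.sign_mul, hsgn, (Int.units_eq_one_or (sign σ)).resolve_left hσ]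
    rfl
  have heven : ∀ σ : Perm (Fin 2 ⊕ I), σ ∈ Alt → σ * sab ∉ Alt := by
    intro σ hσ h
    rw [mem_alternatingGroup] at hσ h
    rw [Perm.sign_mul, hsgn, hσ] at h
    exact absurd h (by decide)
  let F0 : Perm (Fin 2 ⊕ I) → P := fun σ =>
    if h : σ ∈ Alt then f ⟨σ, h⟩ else f ⟨σ * sab, hodd σ h⟩ * w
  have hF1 : ∀ (σ : Perm (Fin 2 ⊕ I)) (h : σ ∈ Alt), F0 σ = f ⟨σ, h⟩ := fun σ h => dif_pos h
  have hF2 : ∀ (σ : Perm (Fin 2 ⊕ I)) (h : σ * sab ∈ Alt), F0 σ = f ⟨σ * sab, h⟩ * w := fun σ h => by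
    have hn : σ ∉ Alt := fun hσ => heven σ hσ h
    exact dif_neg hn
  have hmul : ∀ σ τ, F0 (σ * τ) = F0 σ * F0 τ := by
    intro σ τ
    by_cases hσ : σ ∈ Alt <;> by_cases hτ : τ ∈ Alt
    · rw [hF1 σ hσ, hF1 τ hτ, hF1 _ (mul_mem hσ hτ), ← map_mul]; rfl
    · have hτ' := hodd τ hτ
      have hm : σ * τ * sab ∈ Alt := by rw [mul_assoc]; exact mul_mem hσ hτ'
      rw [hF1 σ hσ, hF2 τ hτ', hF2 _ hm, ← mul_assoc, ← map_mul]
      congr 2
    · have hσ' := hodd σ hσ
      have hc := sab_conj_alt (⟨τ, hτ⟩ : Alt)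
      have hm : σ * τ * sab ∈ Alt := by
        rw [show σ * τ * sab = σ * sab * (sab * τ * sab) by
          calc σ * τ * sab = σ * (sab * sab) * τ * sab := by rw [sab_mul_self, mul_one]
            _ = _ := by group]
        exact mul_mem hσ' hc
      rw [hF2 σ hσ', hF1 τ hτ, hF2 _ hm]
      have e : (⟨σ * τ * sab, hm⟩ : Alt) = ⟨σ * sab, hσ'⟩ * ⟨sab * τ * sab, hc⟩ := Subtype.ext (by
        calc σ * τ * sab = σ * (sab * sab) * τ * sab := by rw [sab_mul_self, mul_one]
          _ = σ * sab * (sab * τ * sab) := by group)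
      rw [e, map_mul, hswap ⟨τ, hτ⟩]
      calc f ⟨σ * sab, hσ'⟩ * (w * f ⟨τ, hτ⟩ * w) * w
          = f ⟨σ * sab, hσ'⟩ * w * f ⟨τ, hτ⟩ * (w * w) := by group
        _ = _ := by rw [hw, mul_one]
    · have hσ' := hodd σ hσ
      have hτ' := hodd τ hτ
      have hτ'' : sab * τ ∈ Alt := by
        have hc := sab_conj_alt (⟨τ * sab, hτ'⟩ : Alt)
        have e : sab * (τ * sab) * sab = sab * τ := by
          rw [mul_assoc, mul_assoc, sab_mul_self, mul_one]
        rw [← e]; exact hc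
      have hm : σ * τ ∈ Alt := by
        rw [show σ * τ = σ * sab * (sab * τ) by
          calc σ * τ = σ * (sab * sab) * τ := by rw [sab_mul_self, mul_one]
            _ = _ := by group]
        exact mul_mem hσ' hτ''
      rw [hF2 σ hσ', hF2 τ hτ', hF1 _ hm]
      have e : (⟨σ * τ, hm⟩ : Alt)
          = ⟨σ * sab, hσ'⟩ * ⟨sab * (τ * sab) * sab, sab_conj_alt (⟨τ * sab, hτ'⟩ : Alt)⟩ :=
        Subtype.ext (by
          show σ * τ = σ * sab * (sab * (τ * sab) * sab)
          calc σ * τ = σ * (sab * sab) * τ * (sab * sab) := by rw [sab_mul_self, mul_one, mul_one]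
            _ = _ := by group)
      rw [e, map_mul, hswap ⟨τ * sab, hτ'⟩]
      group
  refine ⟨MonoidHom.mk' F0 hmul, fun i => ?_, ?_⟩
  · show F0 (zPerm i) = g i
    rw [hF1 _ (zPerm_mem i), ← hf i]; rfl
  · show F0 sab = w
    have h1 : (sab : Perm (Fin 2 ⊕ I)) * sab ∈ Alt := by rw [sab_mul_self]; exact one_mem _
    rw [hF2 _ h1, show (⟨sab * sab, h1⟩ : Alt) = 1 from Subtype.ext sab_mul_self, map_one, one_mul]

/-- A homomorphism of a symmetric group nontrivial on some Carmichael generator is injective. -/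
theorem perm_hom_injective (F : Perm (Fin 2 ⊕ I) →* P) (i : I) (hi : F (zPerm i) ≠ 1)
    (hI : 3 ≤ Fintype.card I) : Function.Injective F := by
  classical
  have hcard : 5 ≤ Nat.card (Fin 2 ⊕ I) := by
    rw [Nat.card_eq_fintype_card, Fintype.card_sum, Fintype.card_fin]; omega
  haveI := alternatingGroup.isSimpleGroup hcard
  have hn : ((F.comp (alternatingGroup (Fin 2 ⊕ I)).subtype).ker).Normal := MonoidHom.normal_ker _
  have hbot : (F.comp (alternatingGroup (Fin 2 ⊕ I)).subtype).ker = ⊥ := by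
    refine hn.eq_bot_or_eq_top.resolve_right fun h => hi ?_
    exact (h.symm ▸ Subgroup.mem_top (zA i) :
      zA i ∈ (F.comp (alternatingGroup (Fin 2 ⊕ I)).subtype).ker)
  rw [injective_iff_map_eq_one]
  intro σ hσ
  have hcomm : ∀ τ ∈ alternatingGroup (Fin 2 ⊕ I), σ * τ = τ * σ := by
    intro τ hτ
    have hm : σ * τ * σ⁻¹ * τ⁻¹ ∈ alternatingGroup (Fin 2 ⊕ I) := by
      rw [mem_alternatingGroup, Perm.sign_mul, Perm.sign_mul, Perm.sign_mul, sign_inv, sign_inv,
        mem_alternatingGroup.mp hτ]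
      simp
    have h1 : (⟨_, hm⟩ : alternatingGroup (Fin 2 ⊕ I)) ∈
        (F.comp (alternatingGroup (Fin 2 ⊕ I)).subtype).ker := by
      show F (σ * τ * σ⁻¹ * τ⁻¹) = 1
      simp [hσ]
    rw [hbot, Subgroup.mem_bot] at h1
    exact mul_inv_eq_iff_eq_mul.mp (mul_inv_eq_one.mp (congrArg Subtype.val h1))
  refine Equiv.ext fun x => ?_
  by_contra hx
  rw [Perm.one_apply] at hx
  have huniv : Fintype.card (Fin 2 ⊕ I) = Nat.card (Fin 2 ⊕ I) := Nat.card_eq_fintype_card.symm
  have hle : ({x, σ x} : Finset (Fin 2 ⊕ I)).card ≤ 2 := Finset.card_le_two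
  have htwo : 2 ≤ (Finset.univ \ ({x, σ x} : Finset (Fin 2 ⊕ I))).card := by
    rw [Finset.card_sdiff, Finset.card_univ, Finset.inter_univ]
    omega
  obtain ⟨a, ha, b, hb, hab⟩ := Finset.one_lt_card.mp htwo
  simp only [Finset.mem_sdiff, Finset.mem_univ, Finset.mem_insert, Finset.mem_singleton,
    true_and, not_or] at ha hb
  have h := congrArg (fun p : Perm (Fin 2 ⊕ I) => p x)
    (hcomm (swap (σ x) a * swap a b) (by
      rw [mem_alternatingGroup, Perm.sign_mul, sign_swap (Ne.symm ha.2), sign_swap hab]; rfl))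
  simp only [Perm.mul_apply] at h
  rw [swap_apply_of_ne_of_ne (Ne.symm ha.1) (Ne.symm hb.1),
    swap_apply_of_ne_of_ne (Ne.symm hx) (Ne.symm ha.1),
    swap_apply_of_ne_of_ne (Ne.symm ha.2) (Ne.symm hb.2), swap_apply_left] at h
  exact ha.2 h.symm

end Cfsg.Agent.H86.SymEight
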