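import Cfsg.Agent.H86.SymEight.SetupMain
import Cfsg.Agent.Linear.Order
import Cfsg.Agent.S2119
import Cfsg.Agent.S3331

/-!
General facts on quotients of order three or six, and automorphisms of the alternating group of
degree five.
-/

set_option autoImplicit false
set_option synthInstance.maxSize 4000
set_option linter.style.haveILetI false
set_option linter.unusedSectionVars false

namespace Cfsg.Agent.H86.SymEight

open Equiv

theorem card_PSL_seven :
    Nat.card (Matrix.ProjectiveSpecialLinearGroup (Fin 2) (ZMod 7)) = 168 := by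
  haveI : Fact (Nat.Prime 7) := ⟨by norm_num⟩
  have h := Cfsg.Agent.Linear.card_PSL_two_mul (F := ZMod 7)
  rw [ZMod.card] at h
  rw [show Nat.gcd 2 (7 - 1) = 2 from rfl, show 7 * (7 ^ 2 - 1) = 336 from rfl] at h
  omega

theorem perm_three_aux : ∀ x : Perm (Fin 3), x ≠ 1 → x * x * x ≠ 1 →
    ∃ g, (x * (g * x * g⁻¹)) * (x * (g * x * g⁻¹)) * (x * (g * x * g⁻¹)) = 1 ∧
      x * (g * x * g⁻¹) ≠ 1 := by
  decide +kernel

theorem alt_five_conj : ∀ a s : Perm (Fin 5), a * a * a = 1 → a ≠ 1 → s * s * s = 1 →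
    s * a = a * s → s = 1 ∨ s = a ∨ s = a * a := by
  decide +kernel

variable {B : Type*} [Group B] [Finite B]

theorem card_comap_surj {Q : Type*} [Group Q] (ρ : B →* Q) (hρ : Function.Surjective ρ)
    (N : Subgroup Q) : Nat.card (N.comap ρ) = Nat.card ρ.ker * Nat.card N := by
  have h1 : (N.comap ρ).index = N.index := Subgroup.index_comap_of_surjective N hρ
  have h2 := (N.comap ρ).index_mul_card
  have h3 := N.index_mul_card
  have h4 : Nat.card B = Nat.card Q * Nat.card ρ.ker := by
    rw [Subgroup.card_eq_card_quotient_mul_card_subgroup ρ.ker,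
      Nat.card_congr (QuotientGroup.quotientKerEquivOfSurjective ρ hρ).toEquiv]
  haveI : Finite Q := Finite.of_surjective ρ hρ
  rw [h1, h4, ← h3] at h2
  exact Nat.eq_of_mul_eq_mul_left (Nat.pos_of_ne_zero Subgroup.index_ne_zero_of_finite)
    (by rw [h2]; ring)

/-- A normal subgroup of order prime to three lies in the kernel of a map onto a group of order
three or onto the symmetric group of degree three. -/
theorem le_of_quot_three {N M : Subgroup B} [N.Normal] [M.Normal]
    (hM : (Nat.card M).Coprime 3)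
    (hQ : Nat.card (B ⧸ N) = 3 ∨ Nonempty (B ⧸ N ≃* Perm (Fin 3))) : M ≤ N := by
  have h3 : ∀ x ∈ M, x ^ 3 ∈ N → x ∈ N := by
    intro x hx hx3
    have h1 : (QuotientGroup.mk' N x) ^ Nat.card M = 1 := by
      rw [← map_pow]
      have : x ^ Nat.card M = 1 := by
        have := pow_card_eq_one' (x := (⟨x, hx⟩ : M))
        exact congrArg Subtype.val this
      rw [this, map_one]
    have h2 : (QuotientGroup.mk' N x) ^ 3 = 1 := by
      rw [← map_pow]
      exact (QuotientGroup.eq_one_iff _).mpr hx3
    have := pow_gcd_eq_one.mpr ⟨h1, h2⟩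
    rw [Nat.Coprime.gcd_eq_one hM, pow_one] at this
    exact (QuotientGroup.eq_one_iff _).mp this
  rcases hQ with h | ⟨⟨e⟩⟩
  · intro x hx
    refine h3 x hx ((QuotientGroup.eq_one_iff _).mp ?_)
    show (QuotientGroup.mk' N) (x ^ 3) = 1
    rw [map_pow, ← h]
    exact pow_card_eq_one'
  · intro x hx
    by_contra hxN
    set f : B →* Perm (Fin 3) := e.toMonoidHom.comp (QuotientGroup.mk' N) with hf
    have hf1 : ∀ y, f y = 1 ↔ y ∈ N := fun y => by simp [hf]
    have hfs : Function.Surjective f := e.surjective.comp (QuotientGroup.mk'_surjective N)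
    by_cases hc : f x * f x * f x = 1
    · apply hxN
      refine h3 x hx ((hf1 _).mp ?_)
      rw [pow_succ, pow_two, map_mul, map_mul, hc]
    · obtain ⟨g, hg1, hg2⟩ := perm_three_aux (f x) (fun h => hxN ((hf1 x).mp h)) hc
      obtain ⟨g, rfl⟩ := hfs g
      have hy : x * (g * x * g⁻¹) ∈ M := mul_mem hx (Subgroup.Normal.conj_mem inferInstance x hx g)
      have hy3 : (x * (g * x * g⁻¹)) ^ 3 ∈ N := (hf1 _).mp (by
        rw [pow_succ, pow_two]; simpa [map_mul, map_inv] using hg1)
      exact hg2 (by simpa [map_mul, map_inv] using (hf1 _).mpr (h3 _ hy hy3))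

/-- A normal two-subgroup lies in the kernel of a map onto the alternating group of degree five. -/
theorem le_of_quot_alt_five {N M : Subgroup B} [N.Normal] [M.Normal] (hM : IsPGroup 2 M)
    (e : B ⧸ N ≃* alternatingGroup (Fin 5)) : M ≤ N := by
  set f : B →* alternatingGroup (Fin 5) := e.toMonoidHom.comp (QuotientGroup.mk' N) with hf
  have hfs : Function.Surjective f := e.surjective.comp (QuotientGroup.mk'_surjective N)
  have hn : (M.map f).Normal := Subgroup.Normal.map inferInstance f hfs
  rcases hn.eq_bot_or_eq_top with h | h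
  · intro x hx
    have : f x ∈ M.map f := ⟨x, hx, rfl⟩
    rw [h, Subgroup.mem_bot] at this
    simpa [hf] using this
  · exfalso
    have hp : IsPGroup 2 (M.map f) := hM.map f
    rw [h] at hp
    haveI : Fact (Nat.Prime 2) := ⟨Nat.prime_two⟩
    obtain ⟨n, hn⟩ := hp.exists_card_eq
    rw [Subgroup.card_top] at hn
    have h5 : Nat.card (alternatingGroup (Fin 5)) = 60 := by
      rw [nat_card_alternatingGroup, Nat.card_eq_fintype_card, Fintype.card_fin]; rfl
    rw [h5] at hn
    have : 3 ∣ 2 ^ n := hn ▸ (by norm_num : (3 : ℕ) ∣ 60)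
    exact absurd (Nat.prime_three.dvd_of_dvd_pow this) (by norm_num)

/-- An automorphism of order dividing three fixing an element of order three is a power of the
inner automorphism. -/
theorem aut_alt_five (β : MulAut (alternatingGroup (Fin 5))) (a : alternatingGroup (Fin 5))
    (ha : a * a * a = 1) (ha1 : a ≠ 1) (hβ : β * β * β = 1) (hfix : β a = a) :
    ∃ i : ℕ, i < 3 ∧ ∀ x, β x = a ^ i * x * (a ^ i)⁻¹ := by
  have hb := Cfsg.Agent.S2119.result 5 (by norm_num) (by norm_num)
  obtain ⟨σ, rfl⟩ := hb.2 β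
  have h3 : σ * σ * σ = 1 := hb.1 (by rw [map_mul, map_mul, map_one, hβ])
  have hc : σ * (a : Perm (Fin 5)) = (a : Perm (Fin 5)) * σ := by
    have := congrArg Subtype.val hfix
    rw [MulAut.conjNormal_apply] at this
    exact mul_inv_eq_iff_eq_mul.mp this
  have key : ∀ i : ℕ, σ = (a : Perm (Fin 5)) ^ i →
      ∀ x, MulAut.conjNormal σ x = a ^ i * x * (a ^ i)⁻¹ := fun i hi x => by
    apply Subtype.ext
    rw [MulAut.conjNormal_apply, hi]
    simp
  rcases alt_five_conj (a : Perm (Fin 5)) σ (by simpa using congrArg Subtype.val ha)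
    (fun h => ha1 (Subtype.ext h)) h3 hc with h | h | h
  · exact ⟨0, by norm_num, key 0 (by rw [h, pow_zero])⟩
  · exact ⟨1, by norm_num, key 1 (by rw [h, pow_one])⟩
  · exact ⟨2, by norm_num, key 2 (by rw [h, pow_two])⟩

end Cfsg.Agent.H86.SymEight
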