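import Cfsg.Agent.H86.SymEight.Elements
import Cfsg.Agent.H86.SymEight.Generic
import Cfsg.Agent.Coprime.Generation

/-!
The centraliser of a four-group of the component.
-/

set_option autoImplicit false
set_option synthInstance.maxSize 4000
set_option linter.style.haveILetI false

namespace Cfsg.Agent.H86.SymEight

open Equiv

/-- First generator of the four-group fixing the last point. -/
def va : Perm (Fin 5) := swap 0 1 * swap 2 3

/-- Second generator of the four-group fixing the last point. -/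
def vb : Perm (Fin 5) := swap 0 2 * swap 1 3

theorem cent_K4 : ∀ σ : Perm (Fin 5), σ * va = va * σ → σ * vb = vb * σ →
    σ 4 = 4 ∧ Perm.sign σ = 1 ∧ σ * σ = 1 := by
  decide +kernel

theorem A4_gen : ∀ σ : Perm (Fin 5), σ 4 = 4 → Perm.sign σ = 1 →
    ∃ i : Fin 3, (σ * c3 ^ (i : ℕ)) 4 = 4 ∧ Perm.sign (σ * c3 ^ (i : ℕ)) = 1 ∧
      (σ * c3 ^ (i : ℕ)) * (σ * c3 ^ (i : ℕ)) = 1 := by
  decide +kernel

theorem K4_mul : ∀ σ : Perm (Fin 5), σ 4 = 4 ∧ Perm.sign σ = 1 ∧ σ * σ = 1 →
    σ = 1 ∨ σ = va ∨ σ = vb ∨ σ = va * vb := by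
  decide +kernel

theorem K4_conj : c3 * va * c3⁻¹ = vb * va ∧ c3 * vb * c3⁻¹ = va := by
  decide +kernel

theorem va_facts : va * va = 1 ∧ vb * vb = 1 ∧ va * vb = vb * va ∧ va 4 = 4 ∧ vb 4 = 4 ∧
    Perm.sign va = 1 ∧ Perm.sign vb = 1 ∧ va ≠ 1 ∧ vb ≠ 1 ∧ va ≠ vb := by
  decide +kernel

theorem pow_c3_comm : ∀ i : Fin 3, c3 ^ (i : ℕ) * va = va * c3 ^ (i : ℕ) → i = 0 := by
  decide +kernel

/-- The four-group fixing the last point. -/
def VS : Subgroup (Perm (Fin 5)) := Subgroup.closure {va, vb}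

theorem mem_VS {σ : Perm (Fin 5)} :
    σ ∈ VS ↔ σ 4 = 4 ∧ Perm.sign σ = 1 ∧ σ * σ = 1 := by
  constructor
  · intro h
    have hle : VS ≤ Subgroup.centralizer ({va} : Set (Perm (Fin 5))) ⊓
        Subgroup.centralizer ({vb} : Set (Perm (Fin 5))) := by
      rw [VS, Subgroup.closure_le]
      rintro x (rfl | rfl) <;>
        simp only [SetLike.mem_coe, Subgroup.mem_inf, Subgroup.mem_centralizer_singleton_iff]
      · exact ⟨trivial, va_facts.2.2.1⟩
      · exact ⟨va_facts.2.2.1.symm, trivial⟩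
    obtain ⟨h1, h2⟩ := hle h
    exact cent_K4 σ (Subgroup.mem_centralizer_singleton_iff.mp h1)
      (Subgroup.mem_centralizer_singleton_iff.mp h2)
  · intro h
    rcases K4_mul σ h with rfl | rfl | rfl | rfl
    · exact one_mem _
    · exact Subgroup.subset_closure (by simp)
    · exact Subgroup.subset_closure (by simp)
    · exact mul_mem (Subgroup.subset_closure (by simp)) (Subgroup.subset_closure (by simp))

theorem card_VS : Nat.card VS = 4 := by
  let f : Fin 4 → Perm (Fin 5) := ![1, va, vb, va * vb]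
  have hf : Function.Injective f := by decide +kernel
  have hr : Set.range f = (VS : Set (Perm (Fin 5))) := by
    ext σ
    constructor
    · rintro ⟨i, rfl⟩
      rw [SetLike.mem_coe, mem_VS]
      revert i
      decide +kernel
    · intro h
      rcases K4_mul σ (mem_VS.mp h) with rfl | rfl | rfl | rfl
      exacts [⟨0, rfl⟩, ⟨1, rfl⟩, ⟨2, rfl⟩, ⟨3, rfl⟩]
  calc Nat.card VS = Nat.card (Set.range f) := by rw [hr]; rfl
    _ = 4 := by rw [Nat.card_range_of_injective hf, Nat.card_fin]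

theorem c5_mem : c5 ∈ alternatingGroup (Fin 5) :=
  Equiv.Perm.mem_alternatingGroup.mpr (by decide)

theorem card_sylow_seven {B : Type*} [Group B] [Finite B] (Q : Sylow 7 B)
    (h : Nat.card B = 672) : Nat.card Q = 7 := by
  haveI : Fact (Nat.Prime 7) := ⟨by norm_num⟩
  obtain ⟨n, hn⟩ := Q.isPGroup'.exists_card_eq
  have h1 := (Q : Subgroup B).index_mul_card
  have h2 := Q.not_dvd_index
  rw [h] at h1
  rw [hn] at h1 ⊢
  have h3 : n ≤ 1 := by
    by_contra hlt
    have : 49 ∣ 672 := h1 ▸ Dvd.dvd.mul_left (show 7 ^ 2 ∣ 7 ^ n from pow_dvd_pow 7 (by omega)) _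
    norm_num at this
  interval_cases n
  · rw [pow_zero, mul_one] at h1
    rw [h1] at h2
    norm_num at h2
  · norm_num

namespace Setting

variable {G : Type*} [Group G] (S : Setting G)

/-- The centraliser of the alternating group on four points. -/
def X (k : Fin 5) : Subgroup G :=
  Subgroup.centralizer (S.ψ '' {σ | σ k = k ∧ Perm.sign σ = 1})

theorem mem_X {k : Fin 5} {g : G} :
    g ∈ S.X k ↔ ∀ σ, σ k = k → Perm.sign σ = 1 → Commute g (S.ψ σ) := by
  constructor
  · intro h σ h1 h2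
    exact (h (S.ψ σ) ⟨σ, ⟨h1, h2⟩, rfl⟩).symm
  · rintro h _ ⟨σ, ⟨h1, h2⟩, rfl⟩
    exact (h σ h1 h2).eq.symm

theorem z_mem_X (k : Fin 5) : S.z ∈ S.X k := S.mem_X.mpr fun σ _ _ => S.z_comm σ

theorem w_mem_X (k : Fin 5) : S.w ∈ S.X k := S.mem_X.mpr fun σ _ _ => S.w_comm σ

theorem conj_X (k : Fin 5) (g : Perm (Fin 5)) {x : G} (hx : x ∈ S.X k) :
    S.ψ g * x * (S.ψ g)⁻¹ ∈ S.X (g k) := by
  refine S.mem_X.mpr fun σ h1 h2 => ?_
  have h := S.mem_X.mp hx (g⁻¹ * σ * g) (by simp [h1]) (by simp [h2])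
  have := h.map (MulAut.conj (S.ψ g)).toMonoidHom
  simpa [map_mul, map_inv, mul_assoc] using this

/-- The image of the four-group fixing the last point. -/
def V : Subgroup G := VS.map S.ψ

theorem card_V : Nat.card S.V = 4 := by
  rw [V, Subgroup.card_map_of_injective S.inj, card_VS]

theorem X_four_le_cr {g : G} (hg : g ∈ S.X 4) : Commute g S.r :=
  S.mem_X.mp hg c3 (by decide) (by decide)

theorem X_le_CV : S.X 4 ≤ Subgroup.centralizer (S.V : Set G) := by
  intro g hg
  rintro _ ⟨σ, hσ, rfl⟩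
  obtain ⟨h1, h2, -⟩ := mem_VS.mp hσ
  exact (S.mem_X.mp hg σ h1 h2).eq.symm

theorem r_norm_V {v : G} (hv : v ∈ S.V) : S.r * v * S.r⁻¹ ∈ S.V := by
  obtain ⟨σ, hσ, rfl⟩ := hv
  refine ⟨c3 * σ * c3⁻¹, ?_, by simp [r, map_mul]⟩
  rcases K4_mul σ (mem_VS.mp hσ) with rfl | rfl | rfl | rfl
  · simp
  · rw [K4_conj.1]
    exact mul_mem (Subgroup.subset_closure (by simp)) (Subgroup.subset_closure (by simp))
  · rw [K4_conj.2]
    exact Subgroup.subset_closure (by simp)
  · rw [show c3 * (va * vb) * c3⁻¹ = (c3 * va * c3⁻¹) * (c3 * vb * c3⁻¹) by group, K4_conj.1,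
      K4_conj.2]
    exact mul_mem (mul_mem (Subgroup.subset_closure (by simp)) (Subgroup.subset_closure (by simp)))
      (Subgroup.subset_closure (by simp))

theorem comm_V_z {g : G} (hgB : g ∈ Subgroup.centralizer (S.V : Set G)) (hg : Commute g S.z) :
    g ∈ S.V ⊔ S.X 4 := by
  obtain ⟨i, σ, rfl⟩ := S.cz g hg
  have key : ∀ τ ∈ VS, σ * τ = τ * σ := by
    intro τ hτ
    have h : Commute (S.z ^ (i : ℕ) * S.ψ σ) (S.ψ τ) := (hgB (S.ψ τ) ⟨τ, hτ, rfl⟩).symm
    have h' := (((S.z_comm τ).pow_left (i : ℕ)).inv_left).mul_left h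
    rw [inv_mul_cancel_left] at h'
    refine S.inj ?_
    rw [map_mul, map_mul]
    exact h'.eq
  have hσ : σ ∈ VS := mem_VS.mpr (cent_K4 σ (key va (Subgroup.subset_closure (by simp)))
    (key vb (Subgroup.subset_closure (by simp))))
  exact mul_mem (Subgroup.mem_sup_right (pow_mem (S.z_mem_X 4) _))
    (Subgroup.mem_sup_left ⟨σ, hσ, rfl⟩)

theorem comm_V_r {g : G} (hgB : g ∈ Subgroup.centralizer (S.V : Set G)) (hg : Commute g S.r) :
    g ∈ S.X 4 := by
  refine S.mem_X.mpr fun σ h1 h2 => ?_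
  obtain ⟨i, h⟩ := A4_gen σ h1 h2
  have hv : Commute g (S.ψ (σ * c3 ^ (i : ℕ))) := (hgB _ ⟨_, mem_VS.mpr h, rfl⟩).symm
  rw [map_mul, map_pow] at hv
  have := hv.mul_right ((hg.pow_right (i : ℕ)).inv_right)
  simpa [r, mul_assoc] using this

theorem comm_V_isY {g d : G} (hgB : g ∈ Subgroup.centralizer (S.V : Set G)) (hd : S.IsY d)
    (hg : Commute g d) : g ∈ S.V ⊔ S.X 4 := by
  refine S.comm_V_z hgB ?_
  have hzB : S.z ∈ Subgroup.centralizer (S.V : Set G) := S.X_le_CV (S.z_mem_X 4)
  have hrB : S.r ∉ Subgroup.centralizer (S.V : Set G) := by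
    intro h
    have h1 : Commute S.r (S.ψ va) := (h _ ⟨va, Subgroup.subset_closure (by simp), rfl⟩).symm
    have h2 : c3 * va = va * c3 := S.inj (by simpa [r, map_mul] using h1.eq)
    exact absurd (pow_c3_comm 1 (by simpa using h2)) (by decide)
  have hm : g * S.z * g⁻¹ ∈ Subgroup.centralizer (S.V : Set G) :=
    mul_mem (mul_mem hgB hzB) (inv_mem hgB)
  rcases S.conj_z_cases (S.isY_norm hd hg S.z_mem_D) with h | h | h | h
  · exact mul_inv_eq_iff_eq_mul.mp h
  · exfalso
    have hfix : g * d * g⁻¹ = d := by rw [hg.eq, mul_inv_cancel_right]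
    obtain ⟨e, he, hed⟩ : ∃ e, (e = S.r ∨ e = S.r⁻¹) ∧ (d = S.z * e ∨ d = (S.z * e)⁻¹) := by
      rcases hd with hd | hd | hd | hd
      exacts [⟨_, Or.inl rfl, Or.inl hd⟩, ⟨_, Or.inl rfl, Or.inr hd⟩, ⟨_, Or.inr rfl, Or.inl hd⟩,
        ⟨_, Or.inr rfl, Or.inr hd⟩]
    have hfix' : g * (S.z * e) * g⁻¹ = S.z * e := by
      rcases hed with hed | hed <;> rw [hed] at hfix
      · exact hfix
      · rw [show g * (S.z * e) * g⁻¹ = (g * (S.z * e)⁻¹ * g⁻¹)⁻¹ by group, hfix, inv_inv]
    have he' : g * e * g⁻¹ = S.z * S.z * e := by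
      rw [show g * (S.z * e) * g⁻¹ = (g * S.z * g⁻¹) * (g * e * g⁻¹) by group, h,
        inv_mul_eq_iff_eq_mul] at hfix'
      rw [hfix', mul_assoc]
    have hY : S.IsY (S.z * S.z * e) := by
      rcases he with rfl | rfl
      · exact Or.inr (Or.inr (Or.inr (by
          rw [← S.z_inv, mul_inv_rev, inv_inv]; exact S.zr.inv_left.eq)))
      · exact Or.inr (Or.inl (by rw [← S.z_inv, mul_inv_rev]; exact S.zr.inv_inv.eq))
    rw [← he'] at hY
    rcases he with rfl | rfl
    · exact S.conj_r_not_isY g hY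
    · exact S.conj_r_not_isY g (by simpa [mul_assoc] using S.isY_inv hY)
  · exact absurd (h ▸ hm) hrB
  · exact absurd (inv_mem_iff.mp (h ▸ hm)) hrB

/-- Elements of order five or seven commuting with a nontrivial element of `D`. -/
theorem no_seven {d x : G} [Finite G] (hd : d ∈ S.D) (hd1 : d ≠ 1) (hx : orderOf x = 7)
    (h : Commute x d) : False := by
  have hdvd : 7 ∣ Nat.card (Subgroup.centralizer ({d} : Set G)) := by
    have := Subgroup.orderOf_dvd_natCard (Subgroup.centralizer ({d} : Set G))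
      (Subgroup.mem_centralizer_singleton_iff.mpr h.eq)
    rwa [hx] at this
  rcases S.D_cases hd with e | e | e | e | e | e
  · exact hd1 e
  · rw [e, S.cz_card] at hdvd; norm_num at hdvd
  · rw [e, card_cent_inv, S.cz_card] at hdvd; norm_num at hdvd
  · rw [e, S.card_cr] at hdvd; norm_num at hdvd
  · rw [e, card_cent_inv, S.card_cr] at hdvd; norm_num at hdvd
  · rw [S.isY_card e] at hdvd; norm_num at hdvd

theorem CV_le [Finite G] : Subgroup.centralizer (S.V : Set G) ≤ S.V ⊔ S.X 4 := by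
  classical
  set B := Subgroup.centralizer (S.V : Set G) with hB
  set M := S.V ⊔ S.X 4 with hM
  have hVcomm : ∀ v ∈ S.V, ∀ u ∈ S.V, u * v = v * u := by
    rintro _ ⟨σ, hσ, rfl⟩ _ ⟨τ, hτ, rfl⟩
    rw [← map_mul, ← map_mul]
    congr 1
    rcases K4_mul σ (mem_VS.mp hσ) with rfl | rfl | rfl | rfl <;>
      rcases K4_mul τ (mem_VS.mp hτ) with rfl | rfl | rfl | rfl <;> decide +kernel
  have hVB : S.V ≤ B := fun v hv u hu => hVcomm v hv u hu
  set VB := S.V.subgroupOf B with hVBdef
  haveI hVn : VB.Normal := ⟨fun v hv g => by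
    have h : (g : G) * (v : G) * (g : G)⁻¹ = (v : G) := by
      rw [← g.2 (v : G) hv, mul_inv_cancel_right]
    show ((g * v * g⁻¹ : B) : G) ∈ S.V
    push_cast
    rw [h]; exact hv⟩
  set π := QuotientGroup.mk' VB
  have hzB : S.z ∈ B := S.X_le_CV (S.z_mem_X 4)
  have hwB : S.w ∈ B := S.X_le_CV (S.w_mem_X 4)
  set zB : B := ⟨S.z, hzB⟩
  set wB : B := ⟨S.w, hwB⟩
  set MB := M.subgroupOf B with hMB
  suffices hgoal : MB = ⊤ by
    exact Subgroup.subgroupOf_eq_top.mp hgoal
  have hzMB : zB ∈ MB := Subgroup.mem_sup_right (S.z_mem_X 4)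
  have hwMB : wB ∈ MB := Subgroup.mem_sup_right (S.w_mem_X 4)
  have hVMB : VB ≤ MB := fun v hv => Subgroup.mem_sup_left hv
  have hcardVB : Nat.card VB = 4 := by
    rw [hVBdef, Nat.card_congr (Subgroup.subgroupOfEquivOfLe hVB).toEquiv, S.card_V]
  -- `z` generates its own centraliser modulo `V`
  set zb := π zB with hzb
  have hz3 : zb ^ 3 = 1 := by
    rw [hzb, ← map_pow, show zB ^ 3 = 1 from Subtype.ext S.z_pow3, map_one]
  have hz1 : zb ≠ 1 := by
    intro h
    obtain ⟨σ, -, hσ⟩ := (QuotientGroup.eq_one_iff zB).mp h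
    exact S.z_notin ⟨σ, hσ⟩
  haveI : Fact (Nat.Prime 3) := ⟨Nat.prime_three⟩
  have hX3 : Nat.card (Subgroup.zpowers zb) = 3 := by
    rw [Nat.card_zpowers]; exact orderOf_eq_prime hz3 hz1
  have hC3 : Subgroup.centralizer (Subgroup.zpowers zb : Set (B ⧸ VB)) = Subgroup.zpowers zb := by
    refine le_antisymm (fun q hq => ?_) (fun q hq p hp => ?_)
    · obtain ⟨g, rfl⟩ := QuotientGroup.mk'_surjective VB q
      have h := hq zb (Subgroup.mem_zpowers zb)
      have hv : g * zB * g⁻¹ * zB⁻¹ ∈ VB := by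
        refine (QuotientGroup.eq_one_iff _).mp ?_
        show π (g * zB * g⁻¹ * zB⁻¹) = 1
        rw [map_mul, map_mul, map_mul, map_inv, map_inv, ← hzb, ← h, mul_inv_cancel_right,
          mul_inv_cancel]
      set v : G := (g : G) * S.z * (g : G)⁻¹ * S.z⁻¹ with hvdef
      have hvV : v ∈ S.V := hv
      have hcv : Commute v S.z := (hzB v hvV)
      have hv3 : v ^ 3 = 1 := by
        have h1 : (v * S.z) ^ 3 = 1 := by
          rw [hvdef, inv_mul_cancel_right, conj_pow, S.z_pow3, mul_one, mul_inv_cancel]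
        rw [hcv.mul_pow, S.z_pow3, mul_one] at h1
        exact h1
      have hv1 : v = 1 := by
        have h4 : v ^ 4 = 1 := by
          rw [← S.card_V]
          exact congrArg Subtype.val (pow_card_eq_one' (x := (⟨v, hvV⟩ : S.V)))
        have := pow_gcd_eq_one.mpr ⟨hv3, h4⟩
        simpa using this
      have hgz : Commute (g : G) S.z := by
        rw [hvdef, mul_inv_eq_one, mul_inv_eq_iff_eq_mul] at hv1
        exact hv1
      obtain ⟨i, σ, hσ⟩ := S.cz _ hgz
      have hσV : σ ∈ VS := by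
        have key : ∀ τ ∈ VS, σ * τ = τ * σ := by
          intro τ hτ
          have h : Commute (S.z ^ (i : ℕ) * S.ψ σ) (S.ψ τ) :=
            hσ ▸ (g.2 (S.ψ τ) ⟨τ, hτ, rfl⟩).symm
          have h' := (((S.z_comm τ).pow_left (i : ℕ)).inv_left).mul_left h
          rw [inv_mul_cancel_left] at h'
          exact S.inj (by rw [map_mul, map_mul]; exact h'.eq)
        exact mem_VS.mpr (cent_K4 σ (key va (Subgroup.subset_closure (by simp)))
          (key vb (Subgroup.subset_closure (by simp))))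
      have e : g = zB ^ (i : ℕ) * ⟨S.ψ σ, hVB ⟨σ, hσV, rfl⟩⟩ := Subtype.ext (by simpa using hσ)
      have : π g = zb ^ (i : ℕ) := by
        rw [e, map_mul, map_pow, ← hzb]
        have : π ⟨S.ψ σ, hVB ⟨σ, hσV, rfl⟩⟩ = 1 :=
          (QuotientGroup.eq_one_iff _).mpr (⟨σ, hσV, rfl⟩ : S.ψ σ ∈ S.V)
        rw [this, mul_one]
      rw [this]
      exact pow_mem (Subgroup.mem_zpowers _) _
    · obtain ⟨n, rfl⟩ := Subgroup.mem_zpowers_iff.mp hq
      obtain ⟨m, rfl⟩ := Subgroup.mem_zpowers_iff.mp hp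
      exact ((Commute.refl zb).zpow_zpow m n).eq
  -- conjugation by elements of `D`
  have hnormB : ∀ d ∈ S.D, ∀ g ∈ B, d * g * d⁻¹ ∈ B := by
    have hr : S.r ∈ Subgroup.normalizer (S.V : Set G) := by
      rw [Subgroup.mem_normalizer_iff_map_conj_eq]
      refine Subgroup.eq_of_le_of_card_ge ?_ ?_
      · rintro _ ⟨v, hv, rfl⟩
        exact S.r_norm_V hv
      · rw [Subgroup.card_map_of_injective (MulEquiv.injective _)]
    have hle : S.D ≤ Subgroup.normalizer (S.V : Set G) := by
      rw [Setting.D, Subgroup.closure_le]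
      rintro u (rfl | rfl)
      · exact Subgroup.centralizer_le_normalizer _ hzB
      · exact hr
    intro d hd g hg v hv
    have hv' : d⁻¹ * v * d ∈ S.V := by
      have := (Subgroup.mem_normalizer_iff.mp (inv_mem (hle hd)) v).mp hv
      rwa [inv_inv] at this
    have h := hg _ hv'
    calc v * (d * g * d⁻¹) = d * (d⁻¹ * v * d * g) * d⁻¹ := by group
      _ = d * (g * (d⁻¹ * v * d)) * d⁻¹ := by rw [h]
      _ = _ := by group
  let cj : S.D → MulAut B := fun d =>
    { toFun := fun g => ⟨(d : G) * g * (d : G)⁻¹, hnormB d d.2 g g.2⟩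
      invFun := fun g => ⟨(d : G)⁻¹ * g * (d : G), by
        have := hnormB _ (inv_mem d.2) g g.2; rwa [inv_inv] at this⟩
      left_inv := fun g => Subtype.ext (by simp [mul_assoc])
      right_inv := fun g => Subtype.ext (by simp [mul_assoc])
      map_mul' := fun a b => Subtype.ext (by simp [mul_assoc]) }
  -- a `D`-invariant normal subgroup of order prime to three
  have hgen : ∀ N0 : Subgroup B, (Nat.card N0).Coprime 3 →
      (∀ d : S.D, N0.map (cj d).toMonoidHom ≤ N0) → N0 ≤ MB := by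
    intro N0 hcop hinv
    set K := N0.map B.subtype with hK
    have hKcard : Nat.card K = Nat.card N0 :=
      Subgroup.card_map_of_injective B.subtype_injective
    have hDK : S.D ≤ Subgroup.normalizer (K : Set G) := by
      intro d hd
      rw [Subgroup.mem_normalizer_iff_map_conj_eq]
      refine Subgroup.eq_of_le_of_card_ge ?_ ?_
      · rintro _ ⟨_, ⟨g, hg, rfl⟩, rfl⟩
        exact ⟨cj ⟨d, hd⟩ g, hinv ⟨d, hd⟩ ⟨g, hg, rfl⟩, rfl⟩
      · exact (Subgroup.card_map_of_injective (MulAut.conj d).injective).ge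
    haveI : IsMulCommutative S.D := ⟨⟨fun a b => Subtype.ext (by
      obtain ⟨i, j, hi⟩ := S.mem_D.1 a.2
      obtain ⟨k, l, hk⟩ := S.mem_D.1 b.2
      show (a : G) * b = b * a
      rw [hi, hk]
      exact ((((Commute.refl S.z).pow_pow _ _).mul_right (S.zr.pow_pow _ _)).mul_left
        ((S.zr.symm.pow_pow _ _).mul_right ((Commute.refl S.r).pow_pow _ _))).eq)⟩⟩
    have hle : K ≤ M := by
      refine Cfsg.Agent.Coprime.le_of_centralizer_le (A := S.D) (p := 3) S.z_mem_D S.r_mem_D K M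
        hDK ?_ ?_ ?_ ?_ ?_ ?_
      · rw [S.card_D, hKcard, show 9 = 3 ^ 2 from rfl]
        exact hcop.symm.pow_left 2
      · rw [hKcard]; exact hcop.symm
      · rw [S.z_pow3]; exact one_mem _
      · rw [S.r_pow3]; exact one_mem _
      · rintro g ⟨⟨b, -, rfl⟩, hg⟩
        exact Subgroup.mem_sup_right
          (S.comm_V_r b.2 (Subgroup.mem_centralizer_singleton_iff.mp hg))
      · rintro i hi g ⟨⟨b, -, rfl⟩, hg⟩
        have hgc : Commute (b : G) (S.z * S.r ^ i) := Subgroup.mem_centralizer_singleton_iff.mp hg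
        interval_cases i
        · exact S.comm_V_z b.2 (by simpa using hgc)
        · exact S.comm_V_isY b.2 (Or.inl rfl) (by simpa using hgc)
        · exact S.comm_V_isY b.2 (Or.inr (Or.inr (Or.inl rfl)))
            (by rw [S.r_inv, ← pow_two]; exact hgc)
    intro g hg
    exact hle ⟨g, hg, rfl⟩
  rcases Cfsg.Agent.S3331.result (Subgroup.zpowers zb) hX3 hC3 with
    ⟨N, hN, -, hNcop, hQ⟩ | ⟨N, hN, -, hN2, ⟨e⟩⟩ | ⟨⟨e⟩⟩
  · set N0 := N.comap π with hN0
    haveI : N0.Normal := hN.comap π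
    have hcard0 : Nat.card N0 = 4 * Nat.card N := by
      rw [hN0, card_comap_surj π (QuotientGroup.mk'_surjective VB), QuotientGroup.ker_mk',
        hcardVB]
    have hcop0 : (Nat.card N0).Coprime 3 := by
      rw [hcard0]; exact Nat.Coprime.mul_left (by norm_num) hNcop
    set ρ : B →* (B ⧸ VB) ⧸ N := (QuotientGroup.mk' N).comp π with hρ
    have hρs : Function.Surjective ρ :=
      (QuotientGroup.mk'_surjective N).comp (QuotientGroup.mk'_surjective VB)
    have hker : ρ.ker = N0 := by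
      ext g; simp [hρ, hN0]
    have eQ : B ⧸ N0 ≃* (B ⧸ VB) ⧸ N :=
      (QuotientGroup.quotientMulEquivOfEq hker.symm).trans
        (QuotientGroup.quotientKerEquivOfSurjective ρ hρs)
    have hQ0 : Nat.card (B ⧸ N0) = 3 ∨ Nonempty (B ⧸ N0 ≃* Perm (Fin 3)) := by
      rcases hQ with h | ⟨⟨e'⟩⟩
      · exact Or.inl ((Nat.card_congr eQ.toEquiv).trans h)
      · exact Or.inr ⟨eQ.trans e'⟩
    have hle0 : N0 ≤ MB := by
      refine hgen N0 hcop0 fun d => ?_
      haveI : (N0.map (cj d).toMonoidHom).Normal :=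
        Subgroup.Normal.map inferInstance _ (cj d).surjective
      refine le_of_quot_three ?_ hQ0
      rw [Subgroup.card_map_of_injective (cj d).injective]
      exact hcop0
    have hρz : ρ zB ≠ 1 := by
      intro h
      have hmem : zB ∈ N0 := hker ▸ h
      have h3 : orderOf zB ∣ Nat.card N0 := Subgroup.orderOf_dvd_natCard N0 hmem
      have ho : orderOf zB = 3 :=
        orderOf_eq_prime (Subtype.ext S.z_pow3) (fun h' => S.z_ne (congrArg Subtype.val h'))
      rw [ho] at h3
      exact (Nat.prime_three.coprime_iff_not_dvd.mp hcop0.symm) h3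
    have hwz : wB * zB * wB = zB⁻¹ := Subtype.ext S.wz
    have hρw : ρ wB ≠ 1 := by
      intro h
      apply hρz
      have h1 : ρ zB = (ρ zB)⁻¹ := by
        rw [← map_inv, ← hwz, map_mul, map_mul, h, one_mul, mul_one]
      have h3 : (ρ zB) ^ 3 = 1 := by
        rw [← map_pow, show zB ^ 3 = 1 from Subtype.ext S.z_pow3, map_one]
      have h2 : (ρ zB) ^ 2 = 1 := by
        rw [pow_two]; nth_rw 2 [h1]; exact mul_inv_cancel _
      have := pow_gcd_eq_one.mpr ⟨h3, h2⟩
      simpa using this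
    haveI : Finite ((B ⧸ VB) ⧸ N) := Finite.of_surjective ρ hρs
    have hmap : MB.map ρ = ⊤ := by
      apply Subgroup.eq_top_of_card_eq
      have h3 : 3 ∣ Nat.card (MB.map ρ) := by
        have := Subgroup.orderOf_dvd_natCard (MB.map ρ) (⟨zB, hzMB, rfl⟩ : ρ zB ∈ MB.map ρ)
        rwa [orderOf_eq_prime (by
          rw [← map_pow, show zB ^ 3 = 1 from Subtype.ext S.z_pow3, map_one]) hρz] at this
      have h2 : 2 ∣ Nat.card (MB.map ρ) := by
        haveI : Fact (Nat.Prime 2) := ⟨Nat.prime_two⟩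
        have := Subgroup.orderOf_dvd_natCard (MB.map ρ) (⟨wB, hwMB, rfl⟩ : ρ wB ∈ MB.map ρ)
        rwa [orderOf_eq_prime (by
          rw [← map_pow, show wB ^ 2 = 1 from Subtype.ext (by rw [pow_two]; exact S.w2), map_one])
          hρw] at this
      have hd := Subgroup.card_subgroup_dvd_card (MB.map ρ)
      have hcQ : Nat.card ((B ⧸ VB) ⧸ N) = 3 ∨ Nat.card ((B ⧸ VB) ⧸ N) = 6 := by
        rcases hQ with h | ⟨⟨e'⟩⟩
        · exact Or.inl h
        · right
          rw [Nat.card_congr e'.toEquiv, Nat.card_perm, Nat.card_fin]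
          rfl
      have hpos : 0 < Nat.card (MB.map ρ) := Nat.card_pos
      rcases hcQ with h | h <;> rw [h] at hd ⊢ <;>
        have := Nat.le_of_dvd (by norm_num) hd <;> omega
    have hcm : (MB.map ρ).comap ρ = MB :=
      Subgroup.comap_map_eq_self (hker.trans_le hle0)
    rw [← hcm, hmap, Subgroup.comap_top]
  · set N0 := N.comap π with hN0
    haveI : N0.Normal := hN.comap π
    have hcard0 : Nat.card N0 = 4 * Nat.card N := by
      rw [hN0, card_comap_surj π (QuotientGroup.mk'_surjective VB), QuotientGroup.ker_mk',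
        hcardVB]
    haveI : Fact (Nat.Prime 2) := ⟨Nat.prime_two⟩
    have hp : IsPGroup 2 N := fun x => ⟨1, Subtype.ext (by simpa using hN2 x.1 x.2)⟩
    have hp0 : IsPGroup 2 N0 := by
      obtain ⟨n, hn⟩ := hp.exists_card_eq
      refine IsPGroup.of_card (n := n + 2) ?_
      rw [hcard0, hn]; ring
    have hnd : ¬ 3 ∣ Nat.card N0 := by
      obtain ⟨n, hn⟩ := hp0.exists_card_eq
      rw [hn]
      intro h
      exact absurd (Nat.prime_three.dvd_of_dvd_pow h) (by norm_num)
    set ρ : B →* alternatingGroup (Fin 5) :=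
      e.toMonoidHom.comp ((QuotientGroup.mk' N).comp π) with hρ
    have hρs : Function.Surjective ρ :=
      e.surjective.comp ((QuotientGroup.mk'_surjective N).comp (QuotientGroup.mk'_surjective VB))
    have hker : ρ.ker = N0 := by
      ext g; simp [hρ, hN0]
    have eQ : B ⧸ N0 ≃* alternatingGroup (Fin 5) :=
      (QuotientGroup.quotientMulEquivOfEq hker.symm).trans
        (QuotientGroup.quotientKerEquivOfSurjective ρ hρs)
    have hinv : ∀ d : S.D, N0.map (cj d).toMonoidHom ≤ N0 := fun d => by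
      haveI : (N0.map (cj d).toMonoidHom).Normal :=
        Subgroup.Normal.map inferInstance _ (cj d).surjective
      exact le_of_quot_alt_five (hp0.map _) eQ
    have hle0 : N0 ≤ MB :=
      hgen N0 ((Nat.prime_three.coprime_iff_not_dvd.mpr hnd).symm) hinv
    -- the automorphism of the quotient induced by `r`
    set rD : S.D := ⟨S.r, S.r_mem_D⟩
    have hresp : ∀ (d : S.D) (g h : B), ρ g = ρ h → ρ (cj d g) = ρ (cj d h) := by
      intro d g h hgh
      have hm : g⁻¹ * h ∈ N0 := hker ▸ MonoidHom.mem_ker.mpr (by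
        rw [map_mul, map_inv, hgh, inv_mul_cancel])
      have h2 : cj d (g⁻¹ * h) ∈ N0 := hinv d ⟨_, hm, rfl⟩
      rw [← hker, MonoidHom.mem_ker, map_mul, map_mul, map_inv, map_inv, inv_mul_eq_one] at h2
      exact h2
    let lift := fun a => (hρs a).choose
    have hlift : ∀ a, ρ (lift a) = a := fun a => (hρs a).choose_spec
    let β : MulAut (alternatingGroup (Fin 5)) :=
      MulEquiv.ofBijective (MonoidHom.mk' (fun a => ρ (cj rD (lift a))) (fun a b => by
        rw [← map_mul, ← map_mul]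
        exact hresp _ _ _ (by rw [hlift, map_mul, hlift, hlift])))
        (Finite.surjective_iff_bijective.mp fun a => by
          obtain ⟨g, rfl⟩ := hρs a
          obtain ⟨g', rfl⟩ := (cj rD).surjective g
          exact ⟨ρ g', hresp _ _ _ (hlift _)⟩)
    have hβ : ∀ g : B, β (ρ g) = ρ (cj rD g) := fun g => hresp _ _ _ (hlift _)
    have hβ3 : β * β * β = 1 := by
      refine MulEquiv.ext fun a => ?_
      obtain ⟨g, rfl⟩ := hρs a
      show β (β (β (ρ g))) = ρ g
      rw [hβ, hβ, hβ]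
      congr 1
      refine Subtype.ext ?_
      show S.r * (S.r * (S.r * (g : G) * S.r⁻¹) * S.r⁻¹) * S.r⁻¹ = (g : G)
      calc _ = (S.r * S.r * S.r) * (g : G) * (S.r * S.r * S.r)⁻¹ := by group
        _ = _ := by rw [S.r3, one_mul, inv_one, mul_one]
    have hzρ : ρ zB * ρ zB * ρ zB = 1 := by
      rw [← map_mul, ← map_mul, show zB * zB * zB = 1 from Subtype.ext S.z3, map_one]
    have hzρ1 : ρ zB ≠ 1 := by
      intro h
      have hmem : zB ∈ N0 := hker ▸ h
      have h3 : orderOf zB ∣ Nat.card N0 := Subgroup.orderOf_dvd_natCard N0 hmem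
      rw [orderOf_eq_prime (Subtype.ext S.z_pow3)
        (fun h' => S.z_ne (congrArg Subtype.val h'))] at h3
      exact hnd h3
    have hfix : β (ρ zB) = ρ zB := by
      rw [hβ]
      congr 1
      exact Subtype.ext (by
        show S.r * S.z * S.r⁻¹ = S.z
        rw [← S.zr.eq, mul_inv_cancel_right])
    obtain ⟨i, hi, hact⟩ := aut_alt_five β (ρ zB) hzρ hzρ1 hβ3 hfix
    set dD : S.D := ⟨(S.z ^ i)⁻¹ * S.r,
      mul_mem (inv_mem (pow_mem S.z_mem_D i)) S.r_mem_D⟩ with hdD
    have hd1 : (dD : G) ≠ 1 := by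
      intro h
      obtain ⟨-, h'⟩ := S.sep (i := ⟨i, hi⟩) (j := 0) (σ := 1) (ρ := c3) (by
        simp only [map_one, mul_one, Fin.val_zero, pow_zero, one_mul]
        exact inv_mul_eq_one.mp h)
      exact c3_ne h'.symm
    have htriv : ∀ g : B, ρ (cj dD g) = ρ g := by
      intro g
      have h1 : cj dD g = (zB ^ i)⁻¹ * cj rD g * zB ^ i := Subtype.ext (by
        show (S.z ^ i)⁻¹ * S.r * (g : G) * ((S.z ^ i)⁻¹ * S.r)⁻¹
          = (S.z ^ i)⁻¹ * (S.r * (g : G) * S.r⁻¹) * S.z ^ i
        group)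
      rw [h1, map_mul, map_mul, map_inv, map_pow, ← hβ, hact]
      group
    -- fixed points in every coset
    have hfp : ∀ a, ∃ g : B, ρ g = a ∧ Commute (g : G) (dD : G) := by
      intro a
      obtain ⟨g0, rfl⟩ := hρs a
      let f : {g : B // ρ g = ρ g0} → {g : B // ρ g = ρ g0} := fun g =>
        ⟨cj dD g.1, (htriv g.1).trans g.2⟩
      have hfinj : Function.Injective f := fun a b h =>
        Subtype.ext ((cj dD).injective (congrArg Subtype.val h))
      let σ : Equiv.Perm {g : B // ρ g = ρ g0} :=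
        Equiv.ofBijective f (Finite.injective_iff_bijective.mp hfinj)
      have hcardα : Nat.card {g : B // ρ g = ρ g0} = Nat.card N0 := by
        refine Nat.card_congr
          { toFun := fun g => ⟨g0⁻¹ * g.1, hker ▸ MonoidHom.mem_ker.mpr (by
              rw [map_mul, map_inv, g.2, inv_mul_cancel])⟩
            invFun := fun n => ⟨g0 * n.1, by
              have : ρ n.1 = 1 := MonoidHom.mem_ker.mp (hker.symm ▸ n.2)
              rw [map_mul, this, mul_one]⟩
            left_inv := fun g => Subtype.ext (mul_inv_cancel_left _ _)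
            right_inv := fun n => Subtype.ext (inv_mul_cancel_left _ _) }
      haveI : Fintype {g : B // ρ g = ρ g0} := Fintype.ofFinite _
      have hd3 : (dD : G) ^ 3 = 1 := by
        show ((S.z ^ i)⁻¹ * S.r) ^ 3 = 1
        rw [((S.zr.pow_left i).inv_left).mul_pow, inv_pow, ← pow_mul, mul_comm, pow_mul, S.z_pow3,
          S.r_pow3, one_pow, inv_one, one_mul]
      obtain ⟨x, hx⟩ := Equiv.Perm.exists_fixed_point_of_prime (p := 3) (n := 1) (σ := σ)
        (by rw [← Nat.card_eq_fintype_card, hcardα]; exact hnd) (by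
        rw [pow_one]
        refine Equiv.ext fun x => Subtype.ext (Subtype.ext ?_)
        show (dD : G) * ((dD : G) * ((dD : G) * (x.1 : G) * (dD : G)⁻¹) * (dD : G)⁻¹) * (dD : G)⁻¹
          = (x.1 : G)
        generalize (dD : G) = a at hd3 ⊢
        generalize (x.1 : G) = b
        have h3' : a * a * a = 1 := by rw [← pow_two, ← pow_succ]; exact hd3
        calc _ = a * a * a * b * (a * a * a)⁻¹ := by group
          _ = _ := by rw [h3', one_mul, inv_one, mul_one])
      refine ⟨x.1, x.2, ?_⟩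
      have h : (dD : G) * (x.1 : G) * (dD : G)⁻¹ = (x.1 : G) :=
        congrArg (fun y : {g : B // ρ g = ρ g0} => ((y.1 : B) : G)) hx
      exact (mul_inv_eq_iff_eq_mul.mp h).symm
    have hdi : (dD : G) = (S.z ^ i)⁻¹ * S.r := rfl
    interval_cases i
    · have hmap : MB.map ρ = ⊤ := by
        rw [eq_top_iff]
        intro a _
        obtain ⟨g, hg, hc⟩ := hfp a
        refine ⟨g, Subgroup.mem_sup_right (S.comm_V_r g.2 ?_), hg⟩
        rw [hdi, pow_zero, inv_one, one_mul] at hc; exact hc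
      have hcm : (MB.map ρ).comap ρ = MB := Subgroup.comap_map_eq_self (hker.trans_le hle0)
      rw [← hcm, hmap, Subgroup.comap_top]
    all_goals
      exfalso
      have hY : S.IsY (dD : G) := by
        rw [hdi]
        first
          | exact Or.inr (Or.inr (Or.inr (by
              rw [pow_one, mul_inv_rev, inv_inv]; exact S.zr.inv_left.eq)))
          | exact Or.inl (by
              rw [pow_two, ← S.z_inv, inv_inv])
      obtain ⟨g, hg, hc⟩ := hfp ⟨c5, c5_mem⟩
      have hdvd : 5 ∣ Nat.card (Subgroup.centralizer ({(dD : G)} : Set G)) := by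
        haveI : Fact (Nat.Prime 5) := ⟨by norm_num⟩
        have ho : orderOf (⟨c5, c5_mem⟩ : alternatingGroup (Fin 5)) = 5 :=
          orderOf_eq_prime (Subtype.ext c5_pow) (fun h => c5_ne (congrArg Subtype.val h))
        have h1 := orderOf_map_dvd ρ g
        rw [hg, ho, ← Subgroup.orderOf_coe] at h1
        exact h1.trans (Subgroup.orderOf_dvd_natCard _
          (Subgroup.mem_centralizer_singleton_iff.mpr hc.eq))
      rw [S.isY_card hY] at hdvd
      norm_num at hdvd
  · exfalso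
    haveI : Fact (Nat.Prime 7) := ⟨by norm_num⟩
    have hcardB : Nat.card B = 672 := by
      rw [Subgroup.card_eq_card_quotient_mul_card_subgroup VB, Nat.card_congr e.toEquiv,
        card_PSL_seven, hcardVB]
    let f : S.D →* MulAut B :=
      MonoidHom.mk' cj fun a b => MulEquiv.ext fun g => Subtype.ext (by
        show ((a : G) * b) * (g : G) * ((a : G) * b)⁻¹ = a * (b * g * (b : G)⁻¹) * (a : G)⁻¹
        group)
    letI : MulDistribMulAction S.D B := MulDistribMulAction.compHom B f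
    obtain ⟨Q⟩ : Nonempty (Sylow 7 B) := inferInstance
    have hQcard : Nat.card Q = 7 := card_sylow_seven Q hcardB
    have hn3 : ¬ 3 ∣ Nat.card (Sylow 7 B) := by
      have h1 := card_sylow_modEq_one 7 B
      have h2 := Q.card_dvd_index
      have h3 := (Q : Subgroup B).index_mul_card
      rw [hQcard, hcardB] at h3
      rw [show (Q : Subgroup B).index = 96 by omega] at h2
      intro h
      have h4 := Nat.le_of_dvd (by norm_num) h2
      unfold Nat.ModEq at h1
      interval_cases hn : Nat.card (Sylow 7 B) <;> omega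
    haveI : Fintype (Sylow 7 B) := Fintype.ofFinite _
    have hD3 : IsPGroup 3 S.D := IsPGroup.of_card (n := 2) (by rw [S.card_D]; rfl)
    obtain ⟨Q0, hQ0⟩ := hD3.nonempty_fixed_point_of_prime_not_dvd_card (Sylow 7 B) hn3
    have hQ0card : Nat.card Q0 = 7 := card_sylow_seven Q0 hcardB
    obtain ⟨q, hq⟩ : ∃ q : Q0, q ≠ 1 := by
      haveI : Nontrivial Q0 := Finite.one_lt_card_iff_nontrivial.mp (by rw [hQ0card]; norm_num)
      exact exists_ne 1
    have hqord : orderOf ((q : B) : G) = 7 := by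
      rw [Subgroup.orderOf_coe, Subgroup.orderOf_coe]
      refine orderOf_eq_prime ?_ hq
      exact (congrArg (q ^ ·) hQ0card).symm.trans pow_card_eq_one'
    have hmem : ∀ d : S.D, d • (q : B) ∈ Q0 := by
      intro d
      have h : d • Q0 = Q0 := hQ0 d
      have h2 : d • (q : B) ∈ (d • Q0 : Sylow 7 B) := ⟨q, q.2, rfl⟩
      rwa [h] at h2
    obtain ⟨d1, d2, hne, heq⟩ : ∃ d1 d2 : S.D, d1 ≠ d2 ∧
        (⟨d1 • (q : B), hmem d1⟩ : Q0) = ⟨d2 • (q : B), hmem d2⟩ := by
      haveI : Fintype S.D := Fintype.ofFinite _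
      haveI : Fintype Q0 := Fintype.ofFinite _
      refine Fintype.exists_ne_map_eq_of_card_lt (fun d : S.D => (⟨d • (q : B), hmem d⟩ : Q0)) ?_
      calc Fintype.card Q0 = 7 := Nat.card_eq_fintype_card.symm.trans hQ0card
        _ < 9 := by norm_num
        _ = Fintype.card S.D := S.card_D.symm.trans Nat.card_eq_fintype_card
    have heq' : (d1 : G) * ((q : B) : G) * (d1 : G)⁻¹ = (d2 : G) * ((q : B) : G) * (d2 : G)⁻¹ :=
      congrArg (fun x : Q0 => ((x : B) : G)) heq
    refine S.no_seven (d := (d2 : G)⁻¹ * d1) (mul_mem (inv_mem d2.2) d1.2) ?_ hqord ?_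
    · intro h
      exact hne (Subtype.ext (inv_mul_eq_one.mp h).symm)
    · show ((q : B) : G) * ((d2 : G)⁻¹ * d1) = ((d2 : G)⁻¹ * d1) * ((q : B) : G)
      calc ((q : B) : G) * ((d2 : G)⁻¹ * d1)
          = (d2 : G)⁻¹ * ((d2 : G) * ((q : B) : G) * (d2 : G)⁻¹) * d1 := by group
        _ = _ := by rw [← heq']; group

end Setting

end Cfsg.Agent.H86.SymEight

open scoped Pointwise

namespace Cfsg.Agent.H86.SymEight.Setting

variable {G : Type*} [Group G] (S : Setting G)

/-- The centraliser of the four-group is the product with the centraliser of the alternating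
group. -/
theorem CV_prod [Finite G] {g : G} (hg : g ∈ Subgroup.centralizer (S.V : Set G)) :
    ∃ v ∈ S.V, ∃ x ∈ S.X 4, g = v * x := by
  have hle : S.X 4 ≤ Subgroup.normalizer (S.V : Set G) :=
    S.X_le_CV.trans (Subgroup.centralizer_le_normalizer _)
  have h : g ∈ ((S.V : Set G) * (S.X 4 : Set G)) := by
    rw [← Subgroup.coe_mul_of_right_le_normalizer_left S.V (S.X 4) hle]
    exact S.CV_le hg
  obtain ⟨v, hv, x, hx, rfl⟩ := h
  exact ⟨v, hv, x, hx, rfl⟩

end Cfsg.Agent.H86.SymEight.Setting
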