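import Cfsg.Agent.H86.SymEight.FinishB
import Cfsg.Agent.Components.Basic
import Cfsg.Agent.Components.Layer
import Cfsg.Agent.Components.PLocal

/-!
The normal product of two alternating groups of degree five.
-/

set_option autoImplicit false
set_option synthInstance.maxSize 4000
set_option linter.style.haveILetI false
set_option linter.unusedSectionVars false

namespace Cfsg.Agent.H86.SymEight

open Equiv

local notation "A5" => alternatingGroup (Fin 5)

namespace ModB

variable {G : Type*} [Group G] {S : Setting G} (M : ModB S)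

/-- The pairs of even permutations. -/
def ι : A5 × A5 →* G :=
  M.Θ.comp (MonoidHom.mk' (fun x : A5 × A5 => m2 (x.1 : Perm (Fin 5)) (x.2 : Perm (Fin 5))
    ((Perm.mem_alternatingGroup.mp x.1.2).trans (Perm.mem_alternatingGroup.mp x.2.2).symm))
    fun _ _ => rfl)

theorem ι_apply (x : A5 × A5) : M.ι x = M.Θ (m2 (x.1 : Perm (Fin 5)) (x.2 : Perm (Fin 5))
    ((Perm.mem_alternatingGroup.mp x.1.2).trans (Perm.mem_alternatingGroup.mp x.2.2).symm)) := rfl

theorem ι_inj : Function.Injective M.ι := fun _ _ h =>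
  Prod.ext (Subtype.ext (congrArg (fun q : M2 => q.1.1) (M.inj h)))
    (Subtype.ext (congrArg (fun q : M2 => q.1.2) (M.inj h)))

theorem mem_N {p : M2} : M.Θ p ∈ M.ι.range ↔ Perm.sign p.1.1 = 1 := by
  constructor
  · rintro ⟨x, hx⟩
    rw [← M.inj hx]
    exact Perm.mem_alternatingGroup.mp x.1.2
  · intro h
    exact ⟨(⟨p.1.1, Perm.mem_alternatingGroup.mpr h⟩,
      ⟨p.1.2, Perm.mem_alternatingGroup.mpr ((mem_M2.mp p.2).symm.trans h)⟩), rfl⟩

theorem t_conj (x : A5 × A5) : S.t * M.ι x * S.t = M.ι (x.2, x.1) := M.tswap _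

theorem card_M2 : Nat.card M2 = 7200 := by
  have h := card_pairs (fun _ => True) (fun _ => True)
  rw [dt_counts.2.2.1, dt_counts.2.2.2,
    Nat.card_congr (Equiv.subtypeUnivEquiv fun q : M2 => ⟨trivial, trivial⟩)] at h
  exact h

variable [Finite G] (hH : M.H = ⊤)

include hH

theorem mem_cases (g : G) : ∃ p, g = M.Θ p ∨ g = M.Θ p * S.t := by
  have h : g ∈ M.H := hH ▸ Subgroup.mem_top g
  exact h

theorem card_G : Nat.card G = 14400 := by
  let f : M2 ⊕ M2 → G := Sum.elim M.Θ fun p => M.Θ p * S.t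
  have hsep : ∀ a b : M2, M.Θ a ≠ M.Θ b * S.t := fun a b h =>
    M.ne_t (b⁻¹ * a) (by rw [map_mul, map_inv, h, inv_mul_cancel_left])
  have hf : Function.Bijective f := by
    refine ⟨?_, fun g => ?_⟩
    · rintro (a | a) (b | b) h
      · exact congrArg Sum.inl (M.inj h)
      · exact absurd h (hsep _ _)
      · exact absurd h.symm (hsep _ _)
      · exact congrArg Sum.inr (M.inj (mul_right_cancel h))
    · obtain ⟨p, h | h⟩ := M.mem_cases hH g
      · exact ⟨Sum.inl p, h.symm⟩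
      · exact ⟨Sum.inr p, h.symm⟩
  rw [← Nat.card_congr (Equiv.ofBijective f hf), Nat.card_sum, card_M2]

theorem N_normal : M.ι.range.Normal := by
  refine ⟨?_⟩
  rintro _ ⟨x, rfl⟩ g
  have hθ : ∀ (p : M2) (y : A5 × A5), M.Θ p * M.ι y * (M.Θ p)⁻¹ ∈ M.ι.range := by
    intro p y
    rw [ι_apply, ← map_inv, ← map_mul, ← map_mul, M.mem_N]
    show Perm.sign (p.1.1 * (y.1 : Perm (Fin 5)) * p.1.1⁻¹) = 1
    simp [Perm.mem_alternatingGroup.mp y.1.2]
  obtain ⟨p, rfl | rfl⟩ := M.mem_cases hH g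
  · exact hθ p x
  · rw [mul_inv_rev, S.t_inv, show M.Θ p * S.t * M.ι x * (S.t * (M.Θ p)⁻¹) =
      M.Θ p * (S.t * M.ι x * S.t) * (M.Θ p)⁻¹ by group, M.t_conj]
    exact hθ p _

theorem N_index : M.ι.range.index = 4 := by
  have h := M.ι.range.index_mul_card
  rw [M.card_G hH, ← Nat.card_congr (MonoidHom.ofInjective M.ι_inj).toEquiv, Nat.card_prod,
    nat_card_alternatingGroup, Nat.card_fin] at h
  simp only [show Nat.factorial 5 = 120 from rfl] at h
  omega

theorem sq_mem (g : G) : g ^ 2 ∈ M.ι.range := by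
  rw [pow_two]
  obtain ⟨p, rfl | rfl⟩ := M.mem_cases hH g
  · rw [← map_mul, M.mem_N]
    show Perm.sign (p.1.1 * p.1.1) = 1
    rw [Perm.sign_mul, Int.units_mul_self]
  · rw [M.mul_t_mul_t, M.mem_N]
    show Perm.sign (p.1.1 * p.1.2) = 1
    rw [Perm.sign_mul, ← mem_M2.mp p.2, Int.units_mul_self]

theorem N_minimal (K : Subgroup G) (hK : K.Normal) (hle : K ≤ M.ι.range) :
    K = ⊥ ∨ K = M.ι.range := by
  refine or_iff_not_imp_left.mpr fun hne => le_antisymm hle ?_
  obtain ⟨k, hk, hk1⟩ := (Subgroup.bot_or_exists_ne_one K).resolve_left hne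
  obtain ⟨x, rfl⟩ := hle hk
  have hsw : ∀ y : A5 × A5, M.ι y ∈ K → M.ι (y.2, y.1) ∈ K := fun y hy => by
    rw [← M.t_conj y]
    have h := hK.conj_mem _ hy S.t
    rwa [S.t_inv] at h
  haveI : IsSimpleGroup A5 := alternatingGroup.isSimpleGroup (by simp)
  set K1 := K.comap (M.ι.comp (MonoidHom.inl A5 A5)) with hK1
  haveI : K1.Normal := Subgroup.Normal.comap hK _
  have hex : ∃ a : A5, a ≠ 1 ∧ M.ι (a, 1) ∈ K := by
    by_cases h1 : x.1 = 1
    · refine ⟨x.2, fun h2 => hk1 ?_, ?_⟩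
      · rw [show x = 1 from Prod.ext h1 h2, map_one]
      · rw [← h1]; exact hsw x hk
    · have hγ : ∃ γ : A5, γ * x.1 * γ⁻¹ * x.1⁻¹ ≠ 1 := by
        by_contra hno
        push Not at hno
        refine h1 (Subtype.ext (cent_alt _ ?_ ?_))
        · exact (congrArg Subtype.val (mul_inv_eq_iff_eq_mul.mp (mul_inv_eq_one.mp
            (hno ⟨c3, Perm.mem_alternatingGroup.mpr d3_facts.2.2.2.2.2.2.1⟩)))).symm
        · exact (congrArg Subtype.val (mul_inv_eq_iff_eq_mul.mp (mul_inv_eq_one.mp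
            (hno ⟨d3, Perm.mem_alternatingGroup.mpr d3_facts.2.2.2.2.2.2.2.1⟩)))).symm
      obtain ⟨γ, hγ⟩ := hγ
      refine ⟨_, hγ, ?_⟩
      have h : M.ι (γ, 1) * M.ι x * (M.ι (γ, 1))⁻¹ * (M.ι x)⁻¹ ∈ K :=
        mul_mem (hK.conj_mem _ hk _) (inv_mem hk)
      rw [← map_inv, ← map_inv, ← map_mul, ← map_mul, ← map_mul] at h
      convert h using 2
      exact Prod.ext rfl (by show (1 : A5) = 1 * x.2 * 1⁻¹ * x.2⁻¹; group)
  have hall : ∀ a : A5, M.ι (a, 1) ∈ K := by
    intro a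
    rcases Subgroup.Normal.eq_bot_or_eq_top (inferInstance : K1.Normal) with h | h
    · obtain ⟨b, hb, hbK⟩ := hex
      have hm : b ∈ K1 := hbK
      rw [h, Subgroup.mem_bot] at hm
      exact absurd hm hb
    · have hm : a ∈ K1 := h ▸ Subgroup.mem_top a
      exact hm
  rintro _ ⟨y, rfl⟩
  rw [show y = (y.1, 1) * (1, y.2) from Prod.ext (mul_one _).symm (one_mul _).symm, map_mul]
  exact mul_mem (hall _) (hsw (y.2, 1) (hall _))

theorem cent_N : Subgroup.centralizer (M.ι.range : Set G) = ⊥ := by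
  rw [eq_bot_iff]
  intro g hg
  have hmem : ∀ {p : M2}, Perm.sign p.1.1 = 1 → Commute g (M.Θ p) := fun {p} h =>
    (hg _ (M.mem_N.mpr h)).symm
  have hc : ∀ γ, Perm.sign γ = 1 → ∀ h, Commute g (M.Θ (m2 γ 1 h)) ∧
      Commute g (M.Θ (m2 1 γ h.symm)) := fun γ hγ h => ⟨hmem hγ, hmem (map_one Perm.sign)⟩
  obtain ⟨p, rfl | rfl⟩ := M.mem_cases hH g
  · rw [Subgroup.mem_bot]
    have h1 := hc c3 d3_facts.2.2.2.2.2.2.1 (by decide)
    have h2 := hc d3 d3_facts.2.2.2.2.2.2.2.1 (by decide)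
    rw [M.comm_tt, M.comm_tt] at h1 h2
    rw [show p = 1 from m2_ext
      (cent_alt _ (congrArg (fun q : M2 => q.1.1) h1.1) (congrArg (fun q : M2 => q.1.1) h2.1))
      (cent_alt _ (congrArg (fun q : M2 => q.1.2) h1.2) (congrArg (fun q : M2 => q.1.2) h2.2)),
      map_one]
  · exfalso
    have h1 := (hc c3 d3_facts.2.2.2.2.2.2.1 (by decide)).1
    rw [M.comm_st] at h1
    have h' : p.1.2 * c3 = 1 * p.1.2 := congrArg (fun q : M2 => q.1.2) h1
    rw [one_mul] at h'
    exact c3_ne (mul_eq_left.mp h')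

theorem genFitting : Cfsg.generalizedFittingSubgroup G = M.ι.range := by
  haveI := M.N_normal hH
  have hC := M.cent_N hH
  have hN1 : M.ι.range ≠ ⊥ := fun e => by
    have h : M.ι (⟨c3, Perm.mem_alternatingGroup.mpr d3_facts.2.2.2.2.2.2.1⟩, 1) ∈ M.ι.range :=
      ⟨_, rfl⟩
    rw [e, Subgroup.mem_bot, ← map_one M.ι] at h
    exact c3_ne (congrArg (fun x : A5 × A5 => (x.1 : Perm (Fin 5))) (M.ι_inj h))
  have dich : ∀ F : Subgroup G, F.Normal → F ≤ Subgroup.centralizer (M.ι.range : Set G) ∨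
      M.ι.range ≤ F := by
    intro F hF
    haveI := hF
    rcases M.N_minimal hH (F ⊓ M.ι.range) inferInstance inf_le_right with h | h
    · refine Or.inl fun x hx n hn => ?_
      exact (Subgroup.commute_of_normal_of_disjoint _ _ hF (M.N_normal hH)
        (disjoint_iff.mpr h) x n hx hn).eq.symm
    · exact Or.inr (inf_eq_right.mp h)
  refine le_antisymm (Components.genFitting_le_of_centralizer_le _ ?_ (hC.le.trans bot_le)) ?_
  · rcases dich (Cfsg.fittingSubgroup G) inferInstance with q | q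
    · exact q.trans (hC.le.trans bot_le)
    · exfalso
      haveI : Group.IsNilpotent ↥M.ι.range :=
        Group.nilpotent_of_mulEquiv (Subgroup.subgroupOfEquivOfLe q)
      haveI : IsSimpleGroup A5 := alternatingGroup.isSimpleGroup (by simp)
      haveI : Group.IsSolvable A5 := Group.isSolvable_of_isSolvable_injective
        (f := M.ι.rangeRestrict.comp (MonoidHom.inl A5 A5)) fun a b h =>
          congrArg Prod.fst (M.ι_inj (congrArg Subtype.val h))
      have hc := IsSimpleGroup.comm_iff_isSolvable.mpr (inferInstance : Group.IsSolvable A5)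
      have h := congrArg Subtype.val (hc ⟨c3, Perm.mem_alternatingGroup.mpr d3_facts.2.2.2.2.2.2.1⟩
        ⟨d3, Perm.mem_alternatingGroup.mpr d3_facts.2.2.2.2.2.2.2.1⟩)
      revert h
      show c3 * d3 = d3 * c3 → False
      decide +kernel
  · rcases dich (Cfsg.generalizedFittingSubgroup G) inferInstance with q | q
    · have h1 : M.ι.range ≤ Subgroup.centralizer (Cfsg.generalizedFittingSubgroup G : Set G) :=
        fun n hn => Subgroup.mem_centralizer_iff.mpr fun m hm =>
          (Subgroup.mem_centralizer_iff.mp (q hm) n hn).symm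
      exact h1.trans Components.centralizer_genFitting_le
    · exact q

end ModB

namespace Setting

variable {G : Type*} [Group G] [Finite G] (S : Setting G)

theorem finishB (hB : S.TypeB)
    (hN : Subgroup.centralizer ({S.τ0} : Set G) = Subgroup.normalizer (S.D : Set G))
    (hcard : Nat.card (Subgroup.centralizer ({S.τ0} : Set G)) = 144) :
    ∃ N : Subgroup G, N.Normal ∧ Cfsg.generalizedFittingSubgroup G = N ∧
      Nonempty (N ≃* A5 × A5) ∧
      (∀ K : Subgroup G, K.Normal → K ≤ N → K = ⊥ ∨ K = N) ∧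
      N.index = 4 ∧ ∀ g : G, g ^ 2 ∈ N := by
  obtain ⟨Θ, h1, h2, h3, h4, h5⟩ := S.exists_theta (S.comm_components hN hB)
  let M : ModB S := ⟨Θ, h1, h2, h3, h4, h5⟩
  have hH := M.H_eq_top hN hcard
  exact ⟨M.ι.range, M.N_normal hH, M.genFitting hH,
    ⟨(MonoidHom.ofInjective M.ι_inj).symm⟩, M.N_minimal hH, M.N_index hH, M.sq_mem hH⟩

end Setting

end Cfsg.Agent.H86.SymEight
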