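import Mathlib

/-!
Finite facts about the symmetric group of degree eight.
-/

set_option autoImplicit false
set_option synthInstance.maxSize 4000

namespace Cfsg.Agent.H86.SymEight

open Equiv

/-- A transposition. -/
def t8 : Perm (Fin 8) := swap 3 4

/-- A double transposition. -/
def c8 : Perm (Fin 8) := swap 1 2 * swap 3 4

/-- A product of three transpositions. -/
def s8 : Perm (Fin 8) := swap 1 2 * swap 3 4 * swap 5 6

/-- A product of four transpositions. -/
def j8 : Perm (Fin 8) := swap 1 2 * swap 3 4 * swap 5 6 * swap 0 7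

theorem t8_type : t8.cycleType = Multiset.replicate 1 2 :=
  (Perm.isCycle_swap (by decide)).cycleType.trans (by rw [Perm.card_support_swap (by decide)]; rfl)

theorem c8_type : c8.cycleType = Multiset.replicate 2 2 := by
  have d : (swap (1 : Fin 8) 2).Disjoint (swap 3 4) := by intro x; revert x; decide
  rw [c8, d.cycleType_mul, (Perm.isCycle_swap (by decide)).cycleType,
    (Perm.isCycle_swap (by decide)).cycleType, Perm.card_support_swap (by decide),
    Perm.card_support_swap (by decide)]
  rfl

theorem s8_type : s8.cycleType = Multiset.replicate 3 2 := by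
  have d : (c8).Disjoint (swap 5 6) := by intro x; revert x; decide
  rw [show s8 = c8 * swap 5 6 from rfl, d.cycleType_mul, c8_type,
    (Perm.isCycle_swap (by decide)).cycleType, Perm.card_support_swap (by decide)]
  rfl

theorem j8_type : j8.cycleType = Multiset.replicate 4 2 := by
  have d : (s8).Disjoint (swap 0 7) := by intro x; revert x; decide
  rw [show j8 = s8 * swap 0 7 from rfl, d.cycleType_mul, s8_type,
    (Perm.isCycle_swap (by decide)).cycleType, Perm.card_support_swap (by decide)]
  rfl

theorem class_cases (π : Perm (Fin 8)) (h2 : π * π = 1) (h1 : π ≠ 1) :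
    IsConj π t8 ∨ IsConj π c8 ∨ IsConj π s8 ∨ IsConj π j8 := by
  have ho : orderOf π = 2 := orderOf_eq_prime (by rw [pow_two, h2]) h1
  obtain ⟨n, hn⟩ := Perm.cycleType_prime_order (σ := π) (by rw [ho]; exact Nat.prime_two)
  rw [ho] at hn
  have hsum := Perm.sum_cycleType π
  rw [hn, Multiset.sum_replicate] at hsum
  have hle : π.support.card ≤ 8 := by
    have := π.support.card_le_univ
    simpa using this
  simp only [smul_eq_mul] at hsum
  have hn3 : n ≤ 3 := by omega
  interval_cases n
  · exact Or.inl (Perm.isConj_iff_cycleType_eq.mpr (hn.trans t8_type.symm))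
  · exact Or.inr (Or.inl (Perm.isConj_iff_cycleType_eq.mpr (hn.trans c8_type.symm)))
  · exact Or.inr (Or.inr (Or.inl (Perm.isConj_iff_cycleType_eq.mpr (hn.trans s8_type.symm))))
  · exact Or.inr (Or.inr (Or.inr (Perm.isConj_iff_cycleType_eq.mpr (hn.trans j8_type.symm))))

theorem card_cent_replicate (π : Perm (Fin 8)) (k : ℕ) (hk : k ≠ 0)
    (h : π.cycleType = Multiset.replicate k 2) :
    Nat.card (Subgroup.centralizer ({π} : Set (Perm (Fin 8)))) =
      Nat.factorial (8 - k * 2) * 2 ^ k * Nat.factorial k := by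
  rw [Perm.nat_card_centralizer, h, Multiset.sum_replicate, Multiset.prod_replicate, smul_eq_mul,
    Fintype.card_fin, Multiset.toFinset_replicate, if_neg hk, Finset.prod_singleton,
    Multiset.count_replicate_self]

theorem card_t8 : Nat.card (Subgroup.centralizer ({t8} : Set (Perm (Fin 8)))) = 1440 := by
  rw [card_cent_replicate t8 1 one_ne_zero t8_type]; rfl

theorem card_c8 : Nat.card (Subgroup.centralizer ({c8} : Set (Perm (Fin 8)))) = 192 := by
  rw [card_cent_replicate c8 2 two_ne_zero c8_type]; rfl

theorem card_s8 : Nat.card (Subgroup.centralizer ({s8} : Set (Perm (Fin 8)))) = 96 := by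
  rw [card_cent_replicate s8 3 three_ne_zero s8_type]; rfl

theorem card_j8 : Nat.card (Subgroup.centralizer ({j8} : Set (Perm (Fin 8)))) = 384 := by
  rw [card_cent_replicate j8 4 four_ne_zero j8_type]; rfl

theorem c8_conj_swap {g : Perm (Fin 8)} (hg : g * c8 = c8 * g) :
    g * swap 1 2 * g⁻¹ = swap 1 2 ∨ g * swap 1 2 * g⁻¹ = swap 1 2 * c8 := by
  have happ : ∀ x, g (c8 x) = c8 (g x) := fun x => congrArg (fun p : Perm (Fin 8) => p x) hg
  have h12 : g 2 = c8 (g 1) := by rw [← happ 1]; rfl
  have hne : c8 (g 1) ≠ g 1 := by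
    rw [← happ 1]
    exact fun h => absurd (g.injective h) (by decide)
  rw [← swap_apply_apply, h12]
  revert hne
  generalize g 1 = a
  revert a
  decide

theorem s8_conj_swap {g : Perm (Fin 8)} (hg : g * s8 = s8 * g) :
    g * swap 0 7 * g⁻¹ = swap 0 7 := by
  have happ : ∀ x, g (s8 x) = s8 (g x) := fun x => congrArg (fun p : Perm (Fin 8) => p x) hg
  have h0 : s8 (g 0) = g 0 := by rw [← happ 0]; rfl
  have h7 : s8 (g 7) = g 7 := by rw [← happ 7]; rfl
  have hne : g 0 ≠ g 7 := fun h => absurd (g.injective h) (by decide)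
  rw [← swap_apply_apply]
  revert h0 h7 hne
  generalize g 0 = a
  generalize g 7 = b
  revert a b
  decide

theorem fpf_of_j8 {π : Perm (Fin 8)} (h : IsConj j8 π) (x : Fin 8) : π x ≠ x := by
  obtain ⟨g, rfl⟩ := isConj_iff.mp h
  intro hx
  have h' : j8 (g⁻¹ x) = g⁻¹ x := by
    apply g.injective
    simpa [Perm.mul_apply] using hx
  revert h'
  generalize g⁻¹ x = a
  revert a
  decide

theorem not_j8_of_commute {π : Perm (Fin 8)} (hc : π * swap 1 2 = swap 1 2 * π)
    (h : IsConj j8 π) : π 1 = 2 := by
  have h1 := congrArg (fun p : Perm (Fin 8) => p 1) hc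
  simp only [Perm.mul_apply, swap_apply_left] at h1
  have hne := fpf_of_j8 h 1
  have hne2 := fpf_of_j8 h 2
  by_contra hn
  rw [swap_apply_of_ne_of_ne hne hn] at h1
  exact absurd (π.injective h1) (by decide)

end Cfsg.Agent.H86.SymEight
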