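import Cfsg.Agent.H86.SymEight.SetupMain

/-!
The elements of the subgroup of order nine.
-/

set_option autoImplicit false

namespace Cfsg.Agent.H86.SymEight.Setting

open Equiv

variable {G : Type*} [Group G] (S : Setting G)

/-- The diagonal elements of order three. -/
def IsY (d : G) : Prop :=
  d = S.z * S.r ∨ d = (S.z * S.r)⁻¹ ∨ d = S.z * S.r⁻¹ ∨ d = (S.z * S.r⁻¹)⁻¹

theorem D_cases {d : G} (hd : d ∈ S.D) :
    d = 1 ∨ d = S.z ∨ d = S.z⁻¹ ∨ d = S.r ∨ d = S.r⁻¹ ∨ S.IsY d := by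
  obtain ⟨i, j, rfl⟩ := S.mem_D.1 hd
  fin_cases i <;> fin_cases j <;>
    simp only [pow_zero, pow_one, one_mul, mul_one, pow_two, ← S.z_inv, ← S.r_inv, true_or,
      or_true]
  · exact Or.inr (Or.inr (Or.inr (Or.inr (Or.inr (Or.inl rfl)))))
  · exact Or.inr (Or.inr (Or.inr (Or.inr (Or.inr (Or.inr (Or.inr (Or.inl rfl)))))))
  · refine Or.inr (Or.inr (Or.inr (Or.inr (Or.inr (Or.inr (Or.inr (Or.inr ?_)))))))
    rw [mul_inv_rev, inv_inv]
    exact S.zr.inv_left.eq
  · refine Or.inr (Or.inr (Or.inr (Or.inr (Or.inr (Or.inr (Or.inl ?_))))))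
    rw [mul_inv_rev]
    exact S.zr.inv_inv.eq

theorem isY_mem {d : G} (hd : S.IsY d) : d ∈ S.D := by
  have h1 := S.z_mem_D
  have h2 := S.r_mem_D
  rcases hd with rfl | rfl | rfl | rfl
  exacts [mul_mem h1 h2, inv_mem (mul_mem h1 h2), mul_mem h1 (inv_mem h2),
    inv_mem (mul_mem h1 (inv_mem h2))]

theorem isY_inv {d : G} (hd : S.IsY d) : S.IsY d⁻¹ := by
  rcases hd with rfl | rfl | rfl | rfl
  · exact Or.inr (Or.inl rfl)
  · exact Or.inl (inv_inv _)
  · exact Or.inr (Or.inr (Or.inr rfl))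
  · exact Or.inr (Or.inr (Or.inl (inv_inv _)))

theorem isY_card {d : G} (hd : S.IsY d) :
    Nat.card (Subgroup.centralizer ({d} : Set G)) = 36 := by
  rcases hd with rfl | rfl | rfl | rfl
  · exact S.cy_card _ (Or.inl rfl)
  · rw [card_cent_inv]; exact S.cy_card _ (Or.inl rfl)
  · exact S.cy_card _ (Or.inr rfl)
  · rw [card_cent_inv]; exact S.cy_card _ (Or.inr rfl)

theorem isY_norm {d : G} (hd : S.IsY d) {g : G} (hg : Commute g d) {x : G} (hx : x ∈ S.D) :
    g * x * g⁻¹ ∈ S.D := by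
  rcases hd with rfl | rfl | rfl | rfl
  · exact S.cy_norm _ (Or.inl rfl) g hg x hx
  · exact S.cy_norm _ (Or.inl rfl) g (show Commute g (S.z * S.r) from by simpa using hg.inv_right) x hx
  · exact S.cy_norm _ (Or.inr rfl) g hg x hx
  · exact S.cy_norm _ (Or.inr rfl) g (show Commute g (S.z * S.r⁻¹) from by simpa using hg.inv_right) x hx

theorem card_cr : Nat.card (Subgroup.centralizer ({S.r} : Set G)) = 360 := by
  have h := card_cent_conj S.t S.z
  rw [S.t_inv, S.tz] at h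
  exact h.trans S.cz_card

/-- An element conjugate to `z` in the subgroup of order nine. -/
theorem conj_z_cases {g : G} (hg : g * S.z * g⁻¹ ∈ S.D) :
    g * S.z * g⁻¹ = S.z ∨ g * S.z * g⁻¹ = S.z⁻¹ ∨ g * S.z * g⁻¹ = S.r ∨
      g * S.z * g⁻¹ = S.r⁻¹ := by
  rcases S.D_cases hg with h | h | h | h | h | h
  · exact absurd (conj_eq_one_iff.mp h) S.z_ne
  · exact Or.inl h
  · exact Or.inr (Or.inl h)
  · exact Or.inr (Or.inr (Or.inl h))
  · exact Or.inr (Or.inr (Or.inr h))
  · have h1 := card_cent_conj g S.z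
    rw [S.isY_card h, S.cz_card] at h1
    norm_num at h1

/-- A conjugate of `r` is not diagonal. -/
theorem conj_r_not_isY (g : G) : ¬ S.IsY (g * S.r * g⁻¹) := by
  intro h
  have h1 := card_cent_conj g S.r
  rw [S.isY_card h, S.card_cr] at h1
  norm_num at h1

/-- A conjugate of `z` is not diagonal. -/
theorem conj_z_not_isY (g : G) : ¬ S.IsY (g * S.z * g⁻¹) := by
  intro h
  have h1 := card_cent_conj g S.z
  rw [S.isY_card h, S.cz_card] at h1
  norm_num at h1

end Cfsg.Agent.H86.SymEight.Setting
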