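import Cfsg.Agent.H26.Invol
import Cfsg.Agent.H49.USix.PairCent
import Cfsg.Agent.Cores.PCore

/-!
Subgroups containing centralisers of involutions and controlling their fusion.
-/

set_option autoImplicit false
set_option linter.style.haveILetI false
set_option linter.unusedSectionVars false

namespace Cfsg.Agent.H86.SymEight

variable {G : Type*} [Group G]

/-- `H` contains the centraliser of `i` and controls the fusion of `i`. -/
def Good (H : Subgroup G) (i : G) : Prop :=
  (∀ g, Commute g i → g ∈ H) ∧ ∀ g, g * i * g⁻¹ ∈ H → g ∈ H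

theorem good_of_class {H : Subgroup G} {i : G} (hC : ∀ g, Commute g i → g ∈ H)
    (hcl : ∀ e ∈ H, IsConj i e → ∃ h ∈ H, h * i * h⁻¹ = e) : Good H i := by
  refine ⟨hC, fun g hg => ?_⟩
  obtain ⟨h, hh, he⟩ := hcl _ hg (isConj_iff.mpr ⟨g, rfl⟩)
  have hm : h⁻¹ * g ∈ H := hC _ (by
    show h⁻¹ * g * i = i * (h⁻¹ * g)
    calc h⁻¹ * g * i = h⁻¹ * (g * i * g⁻¹) * g := by group
      _ = h⁻¹ * (h * i * h⁻¹) * g := by rw [he]
      _ = _ := by group)
  have := mul_mem hh hm
  rwa [mul_inv_cancel_left] at this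

theorem good_conj {H : Subgroup G} {i : G} (hi : Good H i) {h : G} (hh : h ∈ H) :
    Good H (h * i * h⁻¹) := by
  refine ⟨fun g hg => ?_, fun g hg => ?_⟩
  · have hc : Commute (h⁻¹ * g * h) i := by
      have := hg.map (MulAut.conj h⁻¹).toMonoidHom
      simpa [mul_assoc] using this
    have h1 := mul_mem (mul_mem hh (hi.1 _ hc)) (inv_mem hh)
    rwa [show h * (h⁻¹ * g * h) * h⁻¹ = g by group] at h1
  · have h2 : g * h ∈ H := hi.2 _ (by
      rw [show g * h * i * (g * h)⁻¹ = g * (h * i * h⁻¹) * g⁻¹ by group]; exact hg)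
    have := mul_mem h2 (inv_mem hh)
    rwa [mul_inv_cancel_right] at this

/-- Two involutions that are not conjugate commute with a common involution; multiplying one of
them by it gives a conjugate of one of them. -/
theorem pair_central [Finite G] {x v : G} (hx : x * x = 1) (hv : v * v = 1) (h : ¬ IsConj x v) :
    ∃ j, j * j = 1 ∧ j ≠ 1 ∧ Commute j x ∧ Commute j v ∧ (∀ c, Commute c x → Commute c v → Commute c j) ∧
      (IsConj x (x * j) ∨ IsConj v (x * j)) := by
  have heven := H26.even_orderOf_of_not_isConj hx hv h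
  obtain ⟨hj, hjx, hjv⟩ := H26.central_involution hx hv heven
  set n := orderOf (x * v) with hn
  refine ⟨(x * v) ^ (n / 2), H26.mul_self_of_orderOf_two hj, H26.ne_one_of_orderOf_two hj, hjx,
    hjv, fun c h1 h2 => (h1.mul_right h2).pow_right _, ?_⟩
  rcases Nat.even_or_odd (n / 2) with ⟨l, hl⟩ | ⟨l, hl⟩
  · left
    refine isConj_iff.mpr ⟨(x * v) ^ (-(l : ℤ)), ?_⟩
    rw [H26.zpow_conj_fst hx hv, hl, ← zpow_natCast (x * v) (l + l)]
    congr 2
    push_cast; ring
  · right
    refine isConj_iff.mpr ⟨(x * v) ^ (-(l : ℤ)), ?_⟩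
    rw [H26.zpow_conj_snd hx hv, hl, ← zpow_natCast (x * v) (2 * l + 1)]
    congr 2
    push_cast; ring

/-- Two good involutions that are not conjugate force `H` to be everything, provided all
centralisers of involutions of `H` lie in `H`. -/
theorem eq_top_of_good [Finite G] {H : Subgroup G} {x y : G} (hx : x * x = 1) (hy : y * y = 1)
    (gx : Good H x) (gy : Good H y) (hne : ¬ IsConj x y)
    (hall : ∀ j ∈ H, j * j = 1 → j ≠ 1 → ∀ g, Commute g j → g ∈ H) : H = ⊤ := by
  rw [eq_top_iff]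
  intro g _
  have hv : (g * y * g⁻¹) * (g * y * g⁻¹) = 1 := by
    rw [show (g * y * g⁻¹) * (g * y * g⁻¹) = g * (y * y) * g⁻¹ by group, hy, mul_one,
      mul_inv_cancel]
  have hnc : ¬ IsConj x (g * y * g⁻¹) := fun h =>
    hne (h.trans (isConj_iff.mpr ⟨g, rfl⟩).symm)
  obtain ⟨j, hj2, hj1, hjx, hjv, -, -⟩ := pair_central hx hv hnc
  exact gy.2 g (hall j (gx.1 j hjx) hj2 hj1 _ hjv.symm)

/-- If `C_H(i)` contains a good involution then its index in `C(i)` is odd. -/
theorem index_odd_of_good [Finite G] {H : Subgroup G} {i x : G} (hx : x * x = 1) (gx : Good H x)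
    (hxH : x ∈ H) (hxi : Commute x i) :
    ∃ o, Odd o ∧ Nat.card (Subgroup.centralizer ({i} : Set G)) =
      o * Nat.card (H ⊓ Subgroup.centralizer ({i} : Set G) : Subgroup G) := by
  classical
  set C := Subgroup.centralizer ({i} : Set G) with hC
  set K := H.subgroupOf C with hK
  have hxC : x ∈ C := Subgroup.mem_centralizer_singleton_iff.mpr hxi.eq
  refine ⟨K.index, ?_, ?_⟩
  · haveI : Fact (Nat.Prime 2) := ⟨Nat.prime_two⟩
    set X := Subgroup.zpowers (⟨x, hxC⟩ : C) with hX
    have hp : IsPGroup 2 X := by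
      intro a
      refine ⟨1, ?_⟩
      obtain ⟨n, hn⟩ := Subgroup.mem_zpowers_iff.mp a.2
      refine Subtype.ext ?_
      show (a : C) ^ (2 ^ 1) = 1
      rw [← hn, pow_one, ← zpow_natCast, ← zpow_mul, mul_comm, zpow_mul, zpow_natCast,
        show (⟨x, hxC⟩ : C) ^ 2 = 1 from Subtype.ext (by rw [pow_two]; exact hx), one_zpow]
    have hfix : ∀ q : C ⧸ K, (∀ a : X, a • q = q) → q = QuotientGroup.mk 1 := by
      intro q hq
      induction q using QuotientGroup.induction_on with
      | H g =>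
        have h := hq ⟨⟨x, hxC⟩, Subgroup.mem_zpowers _⟩
        have h' : (QuotientGroup.mk ((⟨x, hxC⟩ : C) * g) : C ⧸ K) = QuotientGroup.mk g := h
        rw [QuotientGroup.eq, hK, Subgroup.mem_subgroupOf] at h'
        rw [QuotientGroup.eq, hK, Subgroup.mem_subgroupOf]
        have h2 : (g : G)⁻¹ * x * (g : G)⁻¹⁻¹ ∈ H := by
          have := inv_mem h'
          push_cast at this
          simp only [mul_inv_rev, inv_inv] at this
          rw [inv_inv]
          rwa [mul_assoc]
        push_cast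
        rw [mul_one]
        exact inv_mem (inv_mem_iff.mp (gx.2 _ h2))
    have hcard := hp.card_modEq_card_fixedPoints (C ⧸ K)
    have huniq : Nat.card (MulAction.fixedPoints X (C ⧸ K)) = 1 := by
      rw [Nat.card_eq_one_iff_unique]
      refine ⟨⟨fun a b => Subtype.ext ((hfix _ a.2).trans (hfix _ b.2).symm)⟩,
        ⟨⟨QuotientGroup.mk 1, fun a => ?_⟩⟩⟩
      obtain ⟨n, hn⟩ := Subgroup.mem_zpowers_iff.mp a.2
      show QuotientGroup.mk ((a : C) * 1) = QuotientGroup.mk 1
      rw [QuotientGroup.eq, hK, Subgroup.mem_subgroupOf]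
      push_cast
      rw [mul_one, mul_one, inv_mem_iff, ← hn]
      push_cast
      exact zpow_mem hxH n
    rw [huniq] at hcard
    rw [Subgroup.index_eq_card, Nat.odd_iff]
    exact hcard
  · rw [← K.index_mul_card]
    congr 1
    rw [hK, ← Subgroup.inf_subgroupOf_right H C,
      Nat.card_congr (Subgroup.subgroupOfEquivOfLe inf_le_right).toEquiv]

/-- The theorem of Glauberman inside the centraliser of an element. -/
theorem exists_odd_of_isolated [Finite G] {c x : G} (hx : x * x = 1) (hx1 : x ≠ 1)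
    (hxc : Commute x c)
    (hiso : ∀ g, Commute g c → Commute x (g * x * g⁻¹) → g * x * g⁻¹ = x) :
    ∃ O : Subgroup G, O ≤ Subgroup.centralizer ({c} : Set G) ∧ Odd (Nat.card O) ∧
      (∀ g, Commute g c → ∀ a ∈ O, g * a * g⁻¹ ∈ O) ∧
      ∀ g, Commute g c → g * x * g⁻¹ * x⁻¹ ∈ O := by
  classical
  set C := Subgroup.centralizer ({c} : Set G) with hC
  set xC : C := ⟨x, Subgroup.mem_centralizer_singleton_iff.mpr hxc.eq⟩
  have hxiso : Cfsg.IsIsolated xC := by
    intro g hg
    exact Subtype.ext (hiso g (Subgroup.mem_centralizer_singleton_iff.mp g.2)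
      (congrArg Subtype.val hg.eq))
  set O := (Cfsg.oddCore C).map C.subtype with hO
  refine ⟨O, ?_, ?_, ?_, ?_⟩
  · rintro _ ⟨a, -, rfl⟩; exact a.2
  · rw [hO, Subgroup.card_map_of_injective C.subtype_injective]
    exact Nat.coprime_two_right.mp Cores.coprime_card_pPrimeCore
  · rintro g hg _ ⟨a, ha, rfl⟩
    haveI : (Cfsg.oddCore C).Normal := by
      show (Cfsg.pPrimeCore 2 C).Normal
      infer_instance
    exact ⟨⟨g, Subgroup.mem_centralizer_singleton_iff.mpr hg.eq⟩ * a *
      ⟨g, Subgroup.mem_centralizer_singleton_iff.mpr hg.eq⟩⁻¹,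
      Subgroup.Normal.conj_mem inferInstance a ha _, rfl⟩
  · intro g hg
    set gC : C := ⟨g, Subgroup.mem_centralizer_singleton_iff.mpr hg.eq⟩
    have h := H49.USix.zstar_isolated (u := xC) (Subtype.ext hx)
      (fun h => hx1 (congrArg Subtype.val h)) hxiso gC
    refine ⟨gC * xC * gC⁻¹ * xC⁻¹, ?_, rfl⟩
    have h' := inv_mem h
    rwa [show (xC * gC * xC⁻¹ * gC⁻¹)⁻¹ = gC * xC * gC⁻¹ * xC⁻¹ by group] at h'

end Cfsg.Agent.H86.SymEight
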