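import Cfsg.Agent.H86.SymEight.TypeA
import Cfsg.Agent.H86.SymEight.Good

/-!
The first type is the symmetric group of degree eight.
-/

set_option autoImplicit false
set_option synthInstance.maxSize 4000
set_option linter.style.haveILetI false

namespace Cfsg.Agent.H86.SymEight

open Equiv

/-- A product of two three-cycles commuting with `s8`. -/
def r8 : Perm (Fin 8) := swap 1 3 * swap 3 5 * (swap 2 4 * swap 4 6)

/-- A permutation carrying the diagonal element to `r8`. -/
def g8 : Perm (Fin 8) :=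
  ⟨![2, 4, 6, 0, 7, 1, 3, 5], ![3, 5, 0, 6, 1, 7, 2, 4], by decide, by decide⟩

theorem eight_facts :
    g8 * (zz * (swap 0 1 * swap 1 2)) * g8⁻¹ = r8 ∧ r8 * s8 = s8 * r8 ∧ r8 * r8 * r8 = 1 ∧ r8 ≠ 1 ∧
    zz * zz * zz = 1 ∧ zz ≠ 1 ∧ c8 * c8 = 1 ∧ c8 ≠ 1 ∧ s8 * s8 = 1 ∧ j8 * j8 = 1 := by
  decide +kernel

theorem eight_zz_d : (swap 0 5 * zz * (swap 0 5)⁻¹) = swap 0 6 * swap 6 7 ∧
    zz * (swap 0 6 * swap 6 7) = swap 0 7 * swap 5 6 ∧
    (swap 0 7 * swap 5 6 : Perm (Fin 8)) * (swap 0 7 * swap 5 6) = 1 ∧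
    (swap 0 7 * swap 5 6 : Perm (Fin 8)) ∉ ([1, c8] : List _) ∧
    swap 0 5 * c8 = c8 * swap 0 5 ∧ zz * c8 = c8 * zz := by
  decide +kernel

theorem eight_r_d : swap 1 2 * s8 = s8 * swap 1 2 ∧
    (swap 1 2 * r8 * (swap 1 2)⁻¹ : Perm (Fin 8)) ∉ ([1, r8, r8 * r8] : List _) := by
  decide +kernel

theorem eight_conj :
    (∃ g : Perm (Fin 8), g = swap 1 3 * swap 2 4 ∧ g * t8 * g⁻¹ = swap 1 2) ∧
    (∃ g : Perm (Fin 8), g = swap 0 3 * swap 7 4 ∧ g * t8 * g⁻¹ = swap 0 7) ∧
    (∃ g : Perm (Fin 8), g = swap 0 3 * swap 7 4 ∧ g * c8 * g⁻¹ = swap 0 7 * swap 1 2) := by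
  refine ⟨⟨_, rfl, ?_⟩, ⟨_, rfl, ?_⟩, ⟨_, rfl, ?_⟩⟩ <;> decide +kernel

theorem eight_transp :
    (∃ g : Perm (Fin 8), g = swap 5 3 * swap 6 4 ∧ g * t8 * g⁻¹ = swap 5 6) ∧
    (∃ g : Perm (Fin 8), g = swap 6 3 * swap 7 4 ∧ g * t8 * g⁻¹ = swap 6 7) ∧
    (∃ g : Perm (Fin 8), g = swap 0 1 * swap 7 2 ∧ g * s8 * g⁻¹ = swap 1 2 * j8) := by
  refine ⟨⟨_, rfl, ?_⟩, ⟨_, rfl, ?_⟩, ⟨_, rfl, ?_⟩⟩ <;> decide +kernel

theorem eight_prod : swap 1 2 * c8 = t8 ∧ swap 5 6 * swap 6 7 = zz ∧
    swap 5 6 * c8 = c8 * swap 5 6 ∧ swap 6 7 * c8 = c8 * swap 6 7 ∧ swap 1 2 * c8 = c8 * swap 1 2 ∧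
    swap 0 7 * s8 = s8 * swap 0 7 ∧ swap 1 2 * s8 = s8 * swap 1 2 ∧ c8 * j8 = j8 * c8 ∧
    swap 1 2 * j8 = j8 * swap 1 2 := by
  decide +kernel

theorem j8_twice : j8 1 = 2 ∧ j8 2 = 1 := by
  decide +kernel

theorem exists_three_of_dvd {K : Type*} [Group K] [Finite K] (h : 3 ∣ Nat.card K) :
    ∃ e : K, orderOf e = 3 :=
  haveI : Fact (Nat.Prime 3) := ⟨Nat.prime_three⟩
  exists_prime_orderOf_dvd_card' 3 h

/-- In a group whose Sylow three-subgroups have order three, a normal subgroup containing an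
element of order three contains all of them. -/
theorem mem_of_normal_three {K : Type*} [Group K] [Finite K] {E : Subgroup K} [E.Normal]
    {m : ℕ} (hK : Nat.card K = 3 * m) (hm : ¬ 3 ∣ m) (hE : 3 ∣ Nat.card E) {f : K}
    (hf : orderOf f = 3) : f ∈ E := by
  haveI : Fact (Nat.Prime 3) := ⟨Nat.prime_three⟩
  obtain ⟨e, he⟩ := exists_three_of_dvd hE
  have hsyl : ∀ {a : K} (ha : orderOf a = 3), ∃ P : Sylow 3 K, (P : Subgroup K) = Subgroup.zpowers a := by
    intro a ha
    have hp : IsPGroup 3 (Subgroup.zpowers a) :=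
      IsPGroup.of_card (n := 1) (by rw [Nat.card_zpowers, ha, pow_one])
    refine ⟨hp.toSylow ?_, rfl⟩
    have h := (Subgroup.zpowers a).index_mul_card
    rw [Nat.card_zpowers, ha, hK] at h
    rw [show (Subgroup.zpowers a).index = m by omega]
    exact hm
  obtain ⟨P, hP⟩ := hsyl ((Subgroup.orderOf_coe e).trans he)
  obtain ⟨Q, hQ⟩ := hsyl hf
  obtain ⟨g, hg⟩ := MulAction.exists_smul_eq K P Q
  have hfQ : f ∈ (Q : Subgroup K) := hQ ▸ Subgroup.mem_zpowers f
  rw [← hg, Sylow.coe_subgroup_smul] at hfQ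
  obtain ⟨a, ha, rfl⟩ := hfQ
  rw [hP] at ha
  obtain ⟨n, rfl⟩ := Subgroup.mem_zpowers_iff.mp ha
  exact Subgroup.Normal.conj_mem inferInstance _ (zpow_mem e.2 n) g

namespace Setting

variable {G : Type*} [Group G] (S : Setting G)

theorem finishA [Finite G] (F : Perm (Fin 8) →* G) (hinj : Function.Injective F)
    (hFz : F zz = S.z) (hFw : F ww = S.w) (hψ : ∀ σ, S.ψ σ = F (e5 σ))
    (hCzH : ∀ g, Commute g S.z → g ∈ F.range)
    (hτcard : Nat.card (Subgroup.centralizer ({S.τ0} : Set G)) = 1440) :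
    Nonempty (G ≃* Perm (Fin 8)) := by
  classical
  set H := F.range with hH
  have mH : ∀ a, F a ∈ H := fun a => ⟨a, rfl⟩
  have conjF : ∀ g a, F g * F a * (F g)⁻¹ = F (g * a * g⁻¹) := fun g a => by simp
  have commF : ∀ {a b}, Commute (F a) (F b) → a * b = b * a := fun {a b} h =>
    hinj (by rw [map_mul, map_mul]; exact h.eq)
  have commF' : ∀ {a b}, a * b = b * a → Commute (F a) (F b) := fun {a b} h =>
    (show Commute a b from h).map F
  have interF : ∀ a, H ⊓ Subgroup.centralizer ({F a} : Set G) =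
      (Subgroup.centralizer ({a} : Set (Perm (Fin 8)))).map F := by
    intro a
    ext g
    constructor
    · rintro ⟨⟨b, rfl⟩, h⟩
      exact ⟨b, Subgroup.mem_centralizer_singleton_iff.mpr
        (commF (Subgroup.mem_centralizer_singleton_iff.mp h)), rfl⟩
    · rintro ⟨b, hb, rfl⟩
      exact ⟨mH b, Subgroup.mem_centralizer_singleton_iff.mpr
        (commF' (Subgroup.mem_centralizer_singleton_iff.mp hb)).eq⟩
  have cardI : ∀ a, Nat.card (H ⊓ Subgroup.centralizer ({F a} : Set G) : Subgroup G) =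
      Nat.card (Subgroup.centralizer ({a} : Set (Perm (Fin 8)))) := fun a => by
    rw [interF a, Subgroup.card_map_of_injective hinj]
  have cardC : ∀ a, (∀ g, Commute g (F a) → g ∈ H) →
      Nat.card (Subgroup.centralizer ({F a} : Set G)) =
        Nat.card (Subgroup.centralizer ({a} : Set (Perm (Fin 8)))) := by
    intro a h
    rw [← cardI a, inf_eq_right.mpr fun g hg => h g (Subgroup.mem_centralizer_singleton_iff.mp hg)]
  have centConj : ∀ a g, (∀ x, Commute x (F a) → x ∈ H) →
      ∀ x, Commute x (F (g * a * g⁻¹)) → x ∈ H := by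
    intro a g h x hx
    rw [← conjF] at hx
    have hc : Commute ((F g)⁻¹ * x * F g) (F a) := by
      have := hx.map (MulAut.conj (F g)⁻¹).toMonoidHom
      simpa [mul_assoc] using this
    have h1 := mul_mem (mul_mem (mH g) (h _ hc)) (inv_mem (mH g))
    rwa [show F g * ((F g)⁻¹ * x * F g) * (F g)⁻¹ = x by group] at h1
  have cardConj : ∀ {a b : G}, IsConj a b →
      Nat.card (Subgroup.centralizer ({a} : Set G)) = Nat.card (Subgroup.centralizer ({b} : Set G)) := by
    intro a b h
    obtain ⟨g, rfl⟩ := isConj_iff.mp h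
    exact (card_cent_conj g a).symm
  have dvdConj : ∀ {a b}, (∀ g, Commute g (F a) → g ∈ H) → IsConj (F a) (F b) →
      Nat.card (Subgroup.centralizer ({b} : Set (Perm (Fin 8)))) ∣
        Nat.card (Subgroup.centralizer ({a} : Set (Perm (Fin 8)))) := by
    intro a b ha h
    rw [← cardC a ha, cardConj h, ← cardI b]
    exact Subgroup.card_dvd_of_le inf_le_right
  -- elements of order three
  have hr : S.r = F (swap 0 1 * swap 1 2) := by
    show S.ψ c3 = _
    rw [hψ, e5_vals.2.2]
  have hwH : S.w ∈ H := hFw ▸ mH ww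
  have htH : S.t ∈ H := by
    obtain ⟨g, hg⟩ := g8_conj
    have h1 : Commute ((F g)⁻¹ * S.t) S.z := by
      have e : ((F g)⁻¹ * S.t) * S.z * ((F g)⁻¹ * S.t)⁻¹ = S.z := by
        rw [mul_inv_rev, inv_inv, S.t_inv, show (F g)⁻¹ * S.t * S.z * (S.t * F g) =
          (F g)⁻¹ * (S.t * S.z * S.t) * F g by group, S.tz, show S.ψ c3 = S.r from rfl, hr, ← hg,
          ← conjF, hFz]
        group
      exact mul_inv_eq_iff_eq_mul.mp e
    have h2 := mul_mem (mH g) (hCzH _ h1)
    rwa [mul_inv_cancel_left] at h2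
  have hND : ∀ g, g * S.z * g⁻¹ ∈ S.D → g ∈ H := by
    intro g hg
    have hfix : ∀ a ∈ H, a * (g * S.z * g⁻¹) * a⁻¹ = S.z → g ∈ H := by
      intro a ha e
      have hc : Commute (a * g) S.z := by
        refine mul_inv_eq_iff_eq_mul.mp (Eq.trans ?_ e)
        group
      have := mul_mem (inv_mem ha) (hCzH _ hc)
      rwa [inv_mul_cancel_left] at this
    rcases S.conj_z_cases hg with h | h | h | h
    · exact hfix 1 (one_mem _) (by rw [h]; simp)
    · refine hfix S.w hwH ?_
      rw [h, S.w_inv, show S.w * S.z⁻¹ * S.w = (S.w⁻¹ * S.z * S.w⁻¹)⁻¹ by group, S.w_inv, S.wz,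
        inv_inv]
    · refine hfix S.t htH ?_
      rw [h, S.t_inv, S.tr]
    · refine hfix (S.w * S.t) (mul_mem hwH htH) ?_
      rw [h, mul_inv_rev, S.t_inv, S.w_inv, show S.w * S.t * S.r⁻¹ * (S.t * S.w) =
        S.w * (S.t * S.r⁻¹ * S.t) * S.w by group, show S.t * S.r⁻¹ * S.t = (S.t * S.r * S.t)⁻¹ by
          rw [mul_inv_rev, mul_inv_rev, S.t_inv, mul_assoc], S.tr,
        show S.w * S.z⁻¹ * S.w = (S.w⁻¹ * S.z * S.w⁻¹)⁻¹ by group, S.w_inv, S.wz, inv_inv]
  have hCy : ∀ g, Commute g (F (zz * (swap 0 1 * swap 1 2))) → g ∈ H := by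
    intro g hg
    refine hND g (S.isY_norm (d := S.z * S.r) (Or.inl rfl) ?_ S.z_mem_D)
    rwa [map_mul, hFz, ← hr] at hg
  -- transpositions
  have hτ : S.τ0 = F t8 := by
    show S.ψ tau = _
    rw [hψ, e5_vals.1]
  have hCt : ∀ g, Commute g (F t8) → g ∈ H := by
    have he : H ⊓ Subgroup.centralizer ({F t8} : Set G) = Subgroup.centralizer ({F t8} : Set G) :=
      Subgroup.eq_of_le_of_card_ge inf_le_right (by rw [cardI, card_t8, ← hτ, hτcard])
    intro g hg
    have : g ∈ H ⊓ Subgroup.centralizer ({F t8} : Set G) := by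
      rw [he, Subgroup.mem_centralizer_singleton_iff]; exact hg.eq
    exact this.1
  have notconj_ts : ¬ IsConj (F t8) (F s8) := by
    intro h
    haveI : Fact (Nat.Prime 3) := ⟨Nat.prime_three⟩
    set C := Subgroup.centralizer ({F s8} : Set G) with hC
    have hcard : Nat.card C = 1440 := by rw [← cardConj h, ← hτ, hτcard]
    have hρC : F r8 ∈ C :=
      Subgroup.mem_centralizer_singleton_iff.mpr (commF' eight_facts.2.1).eq
    have hρ3 : orderOf (⟨F r8, hρC⟩ : C) = 3 := by
      refine orderOf_eq_prime (Subtype.ext ?_) fun h => eight_facts.2.2.2.1 (hinj ?_)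
      · show F r8 ^ 3 = 1
        rw [pow_succ, pow_two, ← map_mul, ← map_mul, eight_facts.2.2.1, map_one]
      · rw [map_one]; exact congrArg Subtype.val h
    have hp : IsPGroup 3 (Subgroup.zpowers (⟨F r8, hρC⟩ : C)) :=
      IsPGroup.of_card (n := 1) (by rw [Nat.card_zpowers, hρ3, pow_one])
    obtain ⟨P, hP⟩ := hp.exists_le_sylow
    have hP9 : Nat.card P = 9 := by
      obtain ⟨n, hn⟩ := P.isPGroup'.exists_card_eq
      have h1 := (P : Subgroup C).index_mul_card
      have h2 := P.not_dvd_index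
      rw [hcard] at h1
      rw [hn] at h1 ⊢
      have h3 : n ≤ 2 := by
        by_contra hlt
        have : 27 ∣ 1440 :=
          h1 ▸ Dvd.dvd.mul_left (show 3 ^ 3 ∣ 3 ^ n from pow_dvd_pow 3 (by omega)) _
        norm_num at this
      interval_cases n
      · rw [pow_zero, mul_one] at h1
        rw [h1] at h2
        norm_num at h2
      · rw [pow_one] at h1
        rw [show (P : Subgroup C).index = 480 by omega] at h2
        norm_num at h2
      · rfl
    haveI := IsPGroup.isMulCommutative_of_card_eq_prime_sq (G := P) (p := 3) (by rw [hP9]; rfl)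
    have hρP : (⟨F r8, hρC⟩ : C) ∈ (P : Subgroup C) := hP (Subgroup.mem_zpowers _)
    have hle : (P : Subgroup C).map C.subtype ≤ H ⊓ Subgroup.centralizer ({F s8} : Set G) := by
      rintro _ ⟨p, hp, rfl⟩
      refine ⟨centConj _ g8 hCy p ?_, p.2⟩
      rw [eight_facts.1]
      exact congrArg (fun x : P => ((x : C) : G))
        ((IsMulCommutative.is_comm (M := P)).comm ⟨p, hp⟩ ⟨_, hρP⟩)
    have hdvd := Subgroup.card_dvd_of_le hle
    rw [Subgroup.card_map_of_injective C.subtype_injective, cardI, card_s8] at hdvd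
    have h9 : (9 : ℕ) ∣ 96 := hP9.symm.dvd.trans hdvd
    norm_num at h9
  have good_of : ∀ a, (∀ g, Commute g (F a) → g ∈ H) → a * a = 1 → a ≠ 1 →
      (∀ b, (b = t8 ∨ b = c8 ∨ b = s8 ∨ b = j8) → IsConj (F a) (F b) → IsConj a b) →
      Good H (F a) := by
    intro a hC ha ha1 hex
    refine good_of_class hC ?_
    rintro _ ⟨π, rfl⟩ hconj
    obtain ⟨g, hg⟩ := isConj_iff.mp hconj
    have hπ : π * π = 1 := hinj (by
      rw [map_mul, ← hg, map_one, show g * F a * g⁻¹ * (g * F a * g⁻¹) = g * (F a * F a) * g⁻¹ by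
        group, ← map_mul, ha, map_one, mul_one, mul_inv_cancel])
    have hπ1 : π ≠ 1 := by
      rintro rfl
      rw [map_one] at hg
      exact ha1 (hinj (by rw [conj_eq_one_iff.mp hg, map_one]))
    obtain ⟨b, hb, hbπ⟩ : ∃ b, (b = t8 ∨ b = c8 ∨ b = s8 ∨ b = j8) ∧ IsConj π b := by
      rcases class_cases π hπ hπ1 with h | h | h | h
      exacts [⟨_, Or.inl rfl, h⟩, ⟨_, Or.inr (Or.inl rfl), h⟩, ⟨_, Or.inr (Or.inr (Or.inl rfl)), h⟩,
        ⟨_, Or.inr (Or.inr (Or.inr rfl)), h⟩]
    obtain ⟨h8, hh8⟩ := isConj_iff.mp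
      ((hex b hb (hconj.trans (F.map_isConj hbπ))).trans hbπ.symm)
    exact ⟨F h8, mH h8, by rw [conjF, hh8]⟩
  have ttype : ∀ a, a * a = 1 → IsConj (F t8) (F a) → a ≠ j8 ∧ a ≠ c8 ∧ a ≠ s8 := by
    intro a _ h
    refine ⟨?_, ?_, ?_⟩
    · rintro rfl
      have := dvdConj hCt h
      rw [card_t8, card_j8] at this
      norm_num at this
    · rintro rfl
      have := dvdConj hCt h
      rw [card_t8, card_c8] at this
      norm_num at this
    · rintro rfl
      exact notconj_ts h
  have gt : Good H (F t8) := by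
    refine good_of t8 hCt (by decide) (by decide) ?_
    rintro b (rfl | rfl | rfl | rfl) h
    · exact IsConj.refl _
    · exact absurd rfl (ttype _ eight_facts.2.2.2.2.2.2.1 h).2.1
    · exact absurd rfl (ttype _ eight_facts.2.2.2.2.2.2.2.2.1 h).2.2
    · exact absurd rfl (ttype _ eight_facts.2.2.2.2.2.2.2.2.2 h).1
  have gtConj : ∀ g, Good H (F (g * t8 * g⁻¹)) := fun g => conjF g t8 ▸ good_conj gt (mH g)
  have g12 : Good H (F (swap 1 2)) := by
    obtain ⟨g, -, e⟩ := eight_conj.1; exact e ▸ gtConj g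
  have g07 : Good H (F (swap 0 7)) := by
    obtain ⟨g, -, e⟩ := eight_conj.2.1; exact e ▸ gtConj g
  have g56 : Good H (F (swap 5 6)) := by
    obtain ⟨g, -, e⟩ := eight_transp.1; exact e ▸ gtConj g
  have g67 : Good H (F (swap 6 7)) := by
    obtain ⟨g, -, e⟩ := eight_transp.2.1; exact e ▸ gtConj g
  -- double transpositions
  have hCc : ∀ g, Commute g (F c8) → g ∈ H := by
    set B := Subgroup.centralizer ({F c8} : Set G) with hB
    have hmemB : ∀ {g : G}, g ∈ B ↔ Commute g (F c8) := Subgroup.mem_centralizer_singleton_iff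
    set cB : B := ⟨F c8, hmemB.mpr (Commute.refl _)⟩
    have hcB2 : cB * cB = 1 := Subtype.ext (by
      show F c8 * F c8 = 1
      rw [← map_mul, eight_facts.2.2.2.2.2.2.1, map_one])
    set Z := Subgroup.zpowers cB with hZ
    haveI : Z.Normal := ⟨fun x hx g => by
      obtain ⟨n, rfl⟩ := Subgroup.mem_zpowers_iff.mp hx
      have h : Commute g cB := Subtype.ext (hmemB.mp g.2).eq
      rw [(h.zpow_right n).eq, mul_inv_cancel_right]; exact hx⟩
    have hZmem : ∀ g : B, g ∈ Z → g = 1 ∨ g = cB := by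
      intro g hg
      obtain ⟨n, rfl⟩ := Subgroup.mem_zpowers_iff.mp hg
      rcases Int.even_or_odd n with ⟨m, rfl⟩ | ⟨m, rfl⟩
      · left; rw [zpow_add, ← (Commute.refl cB).mul_zpow, hcB2, one_zpow]
      · right; rw [zpow_add_one, zpow_mul, zpow_ofNat, pow_two, hcB2, one_zpow, one_mul]
    set π := QuotientGroup.mk' Z
    have hπ : ∀ a b : B, π a = π b → (b : G) = a ∨ (b : G) = a * F c8 := by
      intro a b h
      rcases hZmem _ ((QuotientGroup.eq).mp h) with e | e
      · exact Or.inl (congrArg Subtype.val (inv_mul_eq_one.mp e)).symm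
      · exact Or.inr (congrArg Subtype.val (inv_mul_eq_iff_eq_mul.mp e))
    have hπc : π cB = 1 := (QuotientGroup.eq_one_iff _).mpr (Subgroup.mem_zpowers _)
    have hmk : ∀ {a : Perm (Fin 8)}, a * c8 = c8 * a → F a ∈ B := fun h => hmemB.mpr (commF' h)
    set xB : B := ⟨F (swap 1 2), hmk eight_prod.2.2.2.2.1⟩
    have hxc : ((xB * cB : B) : G) = F t8 := by
      show F (swap 1 2) * F c8 = _
      rw [← map_mul, eight_prod.1]
    have hx2 : π xB * π xB = 1 := by
      rw [← map_mul, show xB * xB = 1 from Subtype.ext (by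
        show F (swap 1 2) * F (swap 1 2) = 1
        rw [← map_mul, Equiv.swap_mul_self, map_one]), map_one]
    have hx1 : π xB ≠ 1 := by
      intro h
      rcases hZmem xB ((QuotientGroup.eq_one_iff _).mp h) with e | e
      · exact absurd (hinj ((congrArg Subtype.val e).trans (map_one F).symm)) (by decide)
      · exact absurd (hinj (congrArg Subtype.val e)) (by decide)
    -- conjugates of `x` modulo `c` lying in `H`
    have key : ∀ g : B, π (g * xB * g⁻¹) = π xB → (g : G) ∈ H := by
      intro g h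
      refine g12.2 _ ?_
      rcases hπ _ _ h.symm with e | e
      · rw [show (g : G) * F (swap 1 2) * (g : G)⁻¹ = F (swap 1 2) from e]; exact mH _
      · rw [show (g : G) * F (swap 1 2) * (g : G)⁻¹ = F (swap 1 2) * F c8 from e]
        exact mul_mem (mH _) (mH _)
    have hiso : Cfsg.IsIsolated (π xB) := by
      intro q hq
      obtain ⟨g, rfl⟩ := QuotientGroup.mk'_surjective Z q
      rw [← map_inv, ← map_mul, ← map_mul] at hq ⊢
      have h1 : π ((g * xB * g⁻¹) * xB * (g * xB * g⁻¹)⁻¹) = π xB := by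
        rw [map_mul π (g * xB * g⁻¹ * xB), map_mul π (g * xB * g⁻¹), map_inv, ← hq.eq,
          mul_inv_cancel_right]
      have hg : (g : G) ∈ H := g12.2 _ (key _ h1)
      obtain ⟨a, ha⟩ := hg
      have hac : a * c8 = c8 * a := commF (ha ▸ hmemB.mp g.2)
      rcases c8_conj_swap hac with e | e
      · congr 1
        refine Subtype.ext ?_
        show (g : G) * F (swap 1 2) * (g : G)⁻¹ = F (swap 1 2)
        rw [← ha, conjF, e]
      · have e' : g * xB * g⁻¹ = xB * cB := Subtype.ext (by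
          show (g : G) * F (swap 1 2) * (g : G)⁻¹ = F (swap 1 2) * F c8
          rw [← ha, conjF, e, map_mul])
        rw [e', map_mul, hπc, mul_one]
    haveI : (Cfsg.oddCore (B ⧸ Z)).Normal := by
      show (Cfsg.pPrimeCore 2 (B ⧸ Z)).Normal
      infer_instance
    set O := Cfsg.oddCore (B ⧸ Z) with hOdef
    have hOodd : Odd (Nat.card O) := Nat.coprime_two_right.mp Cores.coprime_card_pPrimeCore
    -- the intersection of the preimage with `H`
    have hOH : ∀ g : B, π g ∈ O → (g : G) ∈ H → π g = 1 := by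
      intro g hgO hgH
      obtain ⟨a, ha⟩ := hgH
      let f : Subgroup.centralizer ({c8} : Set (Perm (Fin 8))) →* B ⧸ Z :=
        π.comp ((F.comp (Subgroup.subtype _)).codRestrict B fun b =>
          hmk (Subgroup.mem_centralizer_singleton_iff.mp b.2))
      set E := O.comap f with hE
      haveI : E.Normal := Subgroup.Normal.comap inferInstance f
      have hfker : ∀ b, f b = 1 → (b : Perm (Fin 8)) = 1 ∨ (b : Perm (Fin 8)) = c8 := by
        intro b hb
        rcases hZmem _ ((QuotientGroup.eq_one_iff _).mp hb) with e | e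
        · exact Or.inl (hinj ((congrArg Subtype.val e).trans (map_one F).symm))
        · exact Or.inr (hinj (congrArg Subtype.val e))
      have hno3 : ¬ 3 ∣ Nat.card E := by
        intro h3
        have hz : zz ∈ Subgroup.centralizer ({c8} : Set (Perm (Fin 8))) :=
          Subgroup.mem_centralizer_singleton_iff.mpr eight_zz_d.2.2.2.2.2
        have hs : swap 0 5 ∈ Subgroup.centralizer ({c8} : Set (Perm (Fin 8))) :=
          Subgroup.mem_centralizer_singleton_iff.mpr eight_zz_d.2.2.2.2.1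
        have hzE : (⟨zz, hz⟩ : Subgroup.centralizer ({c8} : Set (Perm (Fin 8)))) ∈ E :=
          mem_of_normal_three (m := 64) card_c8 (by norm_num) h3 (by
            rw [← Subgroup.orderOf_coe]
            exact orderOf_eq_prime (by
              show zz ^ 3 = 1
              rw [pow_succ, pow_two, eight_facts.2.2.2.2.1]) eight_facts.2.2.2.2.2.1)
        have hd := mul_mem hzE (Subgroup.Normal.conj_mem inferInstance _ hzE ⟨swap 0 5, hs⟩)
        set d : Subgroup.centralizer ({c8} : Set (Perm (Fin 8))) :=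
          ⟨zz, hz⟩ * (⟨swap 0 5, hs⟩ * ⟨zz, hz⟩ * ⟨swap 0 5, hs⟩⁻¹) with hddef
        have hdval : (d : Perm (Fin 8)) = swap 0 7 * swap 5 6 := by
          show zz * (swap 0 5 * zz * (swap 0 5)⁻¹) = _
          rw [eight_zz_d.1, eight_zz_d.2.1]
        have hfd : f d = 1 := by
          have hfd2 : f d * f d = 1 := by
            rw [← map_mul, show d * d = 1 from Subtype.ext (by
              show (d : Perm (Fin 8)) * d = 1
              rw [hdval, eight_zz_d.2.2.1]), map_one]
          have hord : orderOf (f d) ∣ Nat.card O := Subgroup.orderOf_dvd_natCard O hd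
          have hord2 : orderOf (f d) ∣ 2 :=
            orderOf_dvd_of_pow_eq_one (by rw [pow_two]; exact hfd2)
          have h1 := Nat.dvd_gcd hord2 hord
          rw [Nat.coprime_two_left.mpr hOodd] at h1
          exact orderOf_eq_one_iff.mp (Nat.dvd_one.mp h1)
        have hmem := eight_zz_d.2.2.2.1
        rw [← hdval] at hmem
        rcases hfker d hfd with e | e <;> exact hmem (by simp [e])
      set aC : Subgroup.centralizer ({c8} : Set (Perm (Fin 8))) :=
        ⟨a, Subgroup.mem_centralizer_singleton_iff.mpr (commF (ha ▸ hmemB.mp g.2))⟩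
      have hfa : f aC = π g := congrArg π (Subtype.ext ha)
      have haE : aC ∈ E := by show f aC ∈ O; rw [hfa]; exact hgO
      -- the order of `π g` divides both 64 and an odd number
      have h1 : orderOf (f aC) ∣ Nat.card O := Subgroup.orderOf_dvd_natCard O haE
      have h2 : orderOf (f aC) ∣ orderOf aC := orderOf_map_dvd f aC
      have h3 : orderOf aC ∣ Nat.card E := Subgroup.orderOf_dvd_natCard E haE
      have h4 : Nat.card E ∣ 192 := card_c8 ▸ Subgroup.card_subgroup_dvd_card E
      have h5 : Nat.card E ∣ 2 ^ 6 :=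
        ((Nat.prime_three.coprime_iff_not_dvd.mpr hno3).symm).dvd_of_dvd_mul_left
          (show Nat.card E ∣ 3 * 2 ^ 6 from h4)
      have h6 : (2 ^ 6).Coprime (Nat.card O) := (Nat.coprime_two_left.mpr hOodd).pow_left 6
      have h7 := Nat.dvd_gcd (h2.trans (h3.trans h5)) h1
      rw [h6] at h7
      rw [← hfa]
      exact orderOf_eq_one_iff.mp (Nat.dvd_one.mp h7)
    -- transpositions act without fixed points
    have hfpf : ∀ (y : B) (gy : Good H (y : G)) (_ : (y : G) ∈ H), ∀ q ∈ O, Commute (π y) q → q = 1 := by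
      intro y gy hy q hq hc
      obtain ⟨g, rfl⟩ := QuotientGroup.mk'_surjective Z q
      refine hOH g hq (gy.2 _ ?_)
      have h : π (g * y * g⁻¹) = π y := by
        rw [map_mul, map_mul, map_inv, ← hc.eq, mul_inv_cancel_right]
      rcases hπ _ _ h.symm with e | e
      · rw [show (g : G) * y * (g : G)⁻¹ = y from e]; exact hy
      · rw [show (g : G) * y * (g : G)⁻¹ = y * F c8 from e]; exact mul_mem hy (mH _)
    have hObot : ∀ q ∈ O, q = 1 := by
      intro q hq
      set aB : B := ⟨F (swap 5 6), hmk eight_prod.2.2.1⟩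
      set bB : B := ⟨F (swap 6 7), hmk eight_prod.2.2.2.1⟩
      have hsq : ∀ (p : Perm (Fin 8)) (hp : F p ∈ B), p * p = 1 → π ⟨F p, hp⟩ * π ⟨F p, hp⟩ = 1 :=
        fun p hp h => by
          rw [← map_mul, show (⟨F p, hp⟩ : B) * ⟨F p, hp⟩ = 1 from Subtype.ext (by
            show F p * F p = 1
            rw [← map_mul, h, map_one]), map_one]
      have ia : π aB * q * (π aB)⁻¹ = q⁻¹ := H49.USix.inv_of_fpf (N := O)
        (hsq _ _ (Equiv.swap_mul_self _ _)) (fun a ha h => hfpf aB g56 (mH _) a ha h) hq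
      have ib : π bB * q⁻¹ * (π bB)⁻¹ = q := by
        have h := H49.USix.inv_of_fpf (N := O) (t := π bB)
          (hsq _ _ (Equiv.swap_mul_self _ _)) (fun a ha h => hfpf bB g67 (mH _) a ha h) (inv_mem hq)
        rwa [inv_inv] at h
      have hc : π (bB * aB) * q * (π (bB * aB))⁻¹ = q := by
        rw [map_mul, show π bB * π aB * q * (π bB * π aB)⁻¹ =
          π bB * (π aB * q * (π aB)⁻¹) * (π bB)⁻¹ by group, ia, ib]
      obtain ⟨g, rfl⟩ := QuotientGroup.mk'_surjective Z q
      have h' : π (g * (bB * aB) * g⁻¹) = π (bB * aB) := by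
        rw [map_mul π (g * (bB * aB)), map_mul π g, map_inv, ← mul_inv_eq_iff_eq_mul.mp hc,
          mul_inv_cancel_right]
      set ρ := ((bB * aB : B) : G) with hρ
      have hρ3 : ρ * ρ * ρ = 1 := by
        show F (swap 6 7) * F (swap 5 6) * (F (swap 6 7) * F (swap 5 6)) *
          (F (swap 6 7) * F (swap 5 6)) = 1
        simp only [← map_mul]
        rw [← map_one F]
        congr 1
        decide +kernel
      have hfix : (g : G) * ρ * (g : G)⁻¹ = ρ := by
        rcases hπ _ _ h'.symm with e | e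
        · exact e
        · exfalso
          have e' : (g : G) * ρ * (g : G)⁻¹ = ρ * F c8 := e
          have h3 : ρ * F c8 * (ρ * F c8) * (ρ * F c8) = 1 := by
            rw [← e', show (g : G) * ρ * (g : G)⁻¹ * ((g : G) * ρ * (g : G)⁻¹) *
              ((g : G) * ρ * (g : G)⁻¹) = (g : G) * (ρ * ρ * ρ) * (g : G)⁻¹ by group, hρ3,
              mul_one, mul_inv_cancel]
          have hcc : Commute ρ (F c8) := hmemB.mp (bB * aB).2
          rw [show ρ * F c8 * (ρ * F c8) * (ρ * F c8) = (ρ * F c8) ^ 3 by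
            rw [pow_succ, pow_two], hcc.mul_pow, pow_succ ρ 2, pow_two, hρ3, one_mul, ← map_pow,
            ← map_one F] at h3
          exact absurd (hinj h3) (by decide +kernel)
      refine hOH g hq (hCzH _ ?_)
      have hρi : ρ = S.z⁻¹ := by
        rw [← hFz, ← map_inv, hρ]
        show F (swap 6 7) * F (swap 5 6) = _
        rw [← map_mul]
        congr 1
      rw [hρi] at hfix
      have := (show Commute (g : G) S.z⁻¹ from mul_inv_eq_iff_eq_mul.mp hfix).inv_right
      rwa [inv_inv] at this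
    intro g hg
    refine key ⟨g, hmemB.mpr hg⟩ ?_
    have h := hObot _ (H49.USix.zstar_isolated hx2 hx1 hiso (π ⟨g, hmemB.mpr hg⟩))
    rw [map_mul, map_mul, map_inv]
    exact mul_inv_eq_iff_eq_mul.mpr (mul_inv_eq_iff_eq_mul.mp (mul_inv_eq_one.mp h)).symm
  -- triple transpositions
  have hCs : ∀ g, Commute g (F s8) → g ∈ H := by
    have hxs : Commute (F (swap 0 7)) (F s8) := commF' eight_prod.2.2.2.2.2.1
    have hx's : Commute (F (swap 1 2)) (F s8) := commF' eight_prod.2.2.2.2.2.2.1
    have hiso : ∀ g, Commute g (F s8) → Commute (F (swap 0 7)) (g * F (swap 0 7) * g⁻¹) →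
        g * F (swap 0 7) * g⁻¹ = F (swap 0 7) := by
      intro g hg hc
      obtain ⟨a, rfl⟩ := g07.2 g (g07.1 _ hc.symm)
      rw [conjF, s8_conj_swap (commF hg)]
    obtain ⟨O, hOB, hOodd, hOinv, hOz⟩ := exists_odd_of_isolated
      (by rw [← map_mul, Equiv.swap_mul_self, map_one])
      (fun h => absurd (hinj (h.trans (map_one F).symm)) (by decide)) hxs hiso
    have hOH : ∀ g ∈ O, g ∈ H → g = 1 := by
      intro g hgO hgH
      obtain ⟨a, rfl⟩ := hgH
      set K := Subgroup.centralizer ({s8} : Set (Perm (Fin 8)))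
      set E := O.comap (F.comp K.subtype) with hE
      haveI : E.Normal := ⟨fun b hb k => by
        show F ((k * b * k⁻¹ : K) : Perm (Fin 8)) ∈ O
        have h := hOinv _ (commF' (Subgroup.mem_centralizer_singleton_iff.mp k.2)) _ hb
        simpa using h⟩
      have haK : a ∈ K := Subgroup.mem_centralizer_singleton_iff.mpr
        (commF (Subgroup.mem_centralizer_singleton_iff.mp (hOB hgO)))
      set f : K →* G := F.comp K.subtype
      have hf : Function.Injective f := hinj.comp K.subtype_injective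
      have hEO : Nat.card E ∣ Nat.card O := by
        rw [← (Subgroup.card_map_of_injective hf : Nat.card (E.map f) = Nat.card E)]
        exact Subgroup.card_dvd_of_le (Subgroup.map_comap_le _ _)
      have hE96 : Nat.card E ∣ 96 := card_s8 ▸ Subgroup.card_subgroup_dvd_card E
      have hodd : Odd (Nat.card E) := hOodd.of_dvd_nat hEO
      have hE3 : Nat.card E ∣ 3 :=
        ((Nat.coprime_two_left.mpr hodd).symm.pow_right 5).dvd_of_dvd_mul_left
          (show Nat.card E ∣ 2 ^ 5 * 3 from hE96)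
      rcases (Nat.dvd_prime Nat.prime_three).mp hE3 with h1 | h3
      · have : (⟨a, haK⟩ : K) ∈ E := hgO
        rw [Subgroup.card_eq_one.mp h1, Subgroup.mem_bot] at this
        rw [show a = 1 from congrArg Subtype.val this, map_one]
      · exfalso
        have hr : r8 ∈ K := Subgroup.mem_centralizer_singleton_iff.mpr eight_facts.2.1
        have hs : swap 1 2 ∈ K := Subgroup.mem_centralizer_singleton_iff.mpr eight_r_d.1
        have hord : orderOf (⟨r8, hr⟩ : K) = 3 := by
          rw [← Subgroup.orderOf_coe]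
          exact orderOf_eq_prime (by
            show r8 ^ 3 = 1
            rw [pow_succ, pow_two, eight_facts.2.2.1]) eight_facts.2.2.2.1
        have hrE : (⟨r8, hr⟩ : K) ∈ E :=
          mem_of_normal_three (m := 32) card_s8 (by norm_num) h3.symm.dvd hord
        have hz : Subgroup.zpowers (⟨r8, hr⟩ : K) = E :=
          Subgroup.eq_of_le_of_card_ge (Subgroup.zpowers_le.mpr hrE) (by
            rw [Nat.card_zpowers, hord, h3])
        have hc := Subgroup.Normal.conj_mem (H := E) inferInstance _ hrE ⟨swap 1 2, hs⟩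
        rw [← hz] at hc
        obtain ⟨n, hn⟩ := Subgroup.mem_zpowers_iff.mp hc
        have hn' := congrArg Subtype.val hn
        rw [SubgroupClass.coe_zpow, zpow_eq_zpow_emod n (show r8 ^ (3 : ℤ) = 1 by
          rw [zpow_ofNat, pow_succ, pow_two, eight_facts.2.2.1])] at hn'
        apply eight_r_d.2
        show swap 1 2 * r8 * (swap 1 2)⁻¹ ∈ _
        rw [show (swap 1 2 * r8 * (swap 1 2)⁻¹ : Perm (Fin 8)) = r8 ^ (n % 3) from hn'.symm]
        rcases (show n % 3 = 0 ∨ n % 3 = 1 ∨ n % 3 = 2 by omega) with e | e | e <;> rw [e]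
        · simp
        · simp
        · rw [zpow_ofNat, pow_two]; simp
    set B := Subgroup.centralizer ({F s8} : Set G)
    haveI : (O.subgroupOf B).Normal := ⟨fun a ha g =>
      hOinv g (Subgroup.mem_centralizer_singleton_iff.mp g.2) _ ha⟩
    have hinvert : ∀ p : Perm (Fin 8), p * p = 1 → Commute (F p) (F s8) → Good H (F p) →
        ∀ e ∈ O, F p * e * (F p)⁻¹ = e⁻¹ := by
      intro p hp hps gp e he
      have h := H49.USix.inv_of_fpf (N := O.subgroupOf B)
        (t := (⟨F p, Subgroup.mem_centralizer_singleton_iff.mpr hps.eq⟩ : B))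
        (Subtype.ext (by show F p * F p = 1; rw [← map_mul, hp, map_one]))
        (fun a ha hc => Subtype.ext (hOH _ ha (gp.1 _ (congrArg Subtype.val hc.eq).symm)))
        (a := ⟨e, hOB he⟩) he
      exact congrArg Subtype.val h
    have hO1 : ∀ e ∈ O, e = 1 := by
      intro e he
      refine hOH e he ?_
      have h1 := hinvert _ (Equiv.swap_mul_self _ _) hxs g07 e he
      have h2 := hinvert _ (Equiv.swap_mul_self _ _) hx's g12 _ he
      have hc : F (swap 0 7 * swap 1 2) * e * (F (swap 0 7 * swap 1 2))⁻¹ = e := by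
        rw [map_mul, show F (swap 0 7) * F (swap 1 2) * e * (F (swap 0 7) * F (swap 1 2))⁻¹ =
          F (swap 0 7) * (F (swap 1 2) * e * (F (swap 1 2))⁻¹) * (F (swap 0 7))⁻¹ by group, h2,
          ← conj_inv, h1, inv_inv]
      obtain ⟨g, -, hg⟩ := eight_conj.2.2
      rw [← hg] at hc
      exact centConj c8 g hCc e (mul_inv_eq_iff_eq_mul.mp hc).symm
    intro g hg
    refine g07.1 g ?_
    exact mul_inv_eq_iff_eq_mul.mp (mul_inv_eq_one.mp (hO1 _ (hOz g hg)))
  -- fusion
  have gc : Good H (F c8) := by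
    refine good_of c8 hCc eight_facts.2.2.2.2.2.2.1 eight_facts.2.2.2.2.2.2.2.1 ?_
    rintro b (rfl | rfl | rfl | rfl) h
    · exact absurd rfl (ttype c8 eight_facts.2.2.2.2.2.2.1 h.symm).2.1
    · exact IsConj.refl _
    · have := (cardC c8 hCc).symm.trans ((cardConj h).trans (cardC s8 hCs))
      rw [card_c8, card_s8] at this
      omega
    · have := dvdConj hCc h
      rw [card_c8, card_j8] at this
      norm_num at this
  have gs : Good H (F s8) := by
    refine good_of s8 hCs eight_facts.2.2.2.2.2.2.2.2.1 (by decide +kernel) ?_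
    rintro b (rfl | rfl | rfl | rfl) h
    · exact absurd rfl (ttype s8 eight_facts.2.2.2.2.2.2.2.2.1 h.symm).2.2
    · have := (cardC c8 hCc).symm.trans ((cardConj h.symm).trans (cardC s8 hCs))
      rw [card_c8, card_s8] at this
      omega
    · exact IsConj.refl _
    · have := dvdConj hCs h
      rw [card_s8, card_j8] at this
      norm_num at this
  have hnc_tc : ¬ IsConj (F t8) (F c8) := fun h =>
    (ttype c8 eight_facts.2.2.2.2.2.2.1 h).2.1 rfl
  have hnc_sc : ¬ IsConj (F c8) (F s8) := fun h => by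
    have := (cardC c8 hCc).symm.trans ((cardConj h).trans (cardC s8 hCs))
    rw [card_c8, card_s8] at this
    omega
  have hCj : ∀ g, Commute g (F j8) → g ∈ H := by
    intro g hg
    set x := F (swap 1 2) with hxdef
    obtain ⟨gx, -, hgx⟩ := eight_conj.1
    have htx : IsConj (F t8) x := F.map_isConj (isConj_iff.mpr ⟨gx, hgx⟩)
    set v := g * F c8 * g⁻¹ with hvdef
    have hcv : IsConj (F c8) v := isConj_iff.mpr ⟨g, rfl⟩
    have hv2 : v * v = 1 := by
      rw [show v * v = g * (F c8 * F c8) * g⁻¹ by rw [hvdef]; group, ← map_mul,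
        eight_facts.2.2.2.2.2.2.1, map_one, mul_one, mul_inv_cancel]
    have hx2 : x * x = 1 := by rw [hxdef, ← map_mul, Equiv.swap_mul_self, map_one]
    have hxv : ¬ IsConj x v := fun h => hnc_tc ((htx.trans h).trans hcv.symm)
    obtain ⟨jp, hj2, hj1, hjx, hjv, hjc, hcase⟩ := pair_central hx2 hv2 hxv
    have hjx8 : Commute (F j8) x := commF' eight_prod.2.2.2.2.2.2.2.2.symm
    have hjv8 : Commute (F j8) v :=
      (hg.symm.mul_right (commF' eight_prod.2.2.2.2.2.2.2.1.symm)).mul_right hg.symm.inv_right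
    have hjj : Commute (F j8) jp := hjc _ hjx8 hjv8
    obtain ⟨π, rfl⟩ := g12.1 jp hjx
    by_cases hπj : π = j8
    · exfalso
      obtain ⟨gs', -, hgs'⟩ := eight_transp.2.2
      have hsj : IsConj (F s8) (x * F j8) := by
        rw [hxdef, ← map_mul, ← hgs']
        exact F.map_isConj (isConj_iff.mpr ⟨gs', rfl⟩)
      rw [hπj] at hcase
      rcases hcase with h | h
      · exact notconj_ts ((htx.trans h).trans hsj.symm)
      · exact hnc_sc ((hcv.trans h).trans hsj.symm)
    · have hback : ∀ ρ : Perm (Fin 8), ρ * ρ = 1 → ρ ≠ 1 → g⁻¹ * F ρ * g ∈ H →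
          g ∈ H ∨ IsConj j8 ρ := by
        intro ρ hρ hρ1 hm
        have hG : Good H (F ρ) → g ∈ H := fun h => inv_mem_iff.mp (h.2 g⁻¹ (by rwa [inv_inv]))
        have hcj : ∀ b, IsConj b ρ → Good H (F b) → Good H (F ρ) := fun b hb h => by
          obtain ⟨k, rfl⟩ := isConj_iff.mp hb
          exact conjF k b ▸ good_conj h (mH k)
        rcases class_cases ρ hρ hρ1 with h | h | h | h
        · exact Or.inl (hG (hcj _ h.symm gt))
        · exact Or.inl (hG (hcj _ h.symm gc))
        · exact Or.inl (hG (hcj _ h.symm gs))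
        · exact Or.inr h.symm
      have hm : g⁻¹ * F π * g ∈ H := by
        refine hCc _ ?_
        have h := hjv.map (MulAut.conj g⁻¹).toMonoidHom
        simp only [MulEquiv.coe_toMonoidHom, MulAut.conj_apply, inv_inv] at h
        rwa [show g⁻¹ * v * g = F c8 by rw [hvdef]; group] at h
      have hπ2 : π * π = 1 := hinj (by rw [map_mul, map_one]; exact hj2)
      have hπ1 : π ≠ 1 := fun h => hj1 (by rw [h, map_one])
      have hcπ : j8 * π = π * j8 := commF hjj
      have hπj2 : π * j8 * (π * j8) = 1 := by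
        rw [show π * j8 * (π * j8) = π * (j8 * π) * j8 by group, hcπ,
          show π * (π * j8) * j8 = (π * π) * (j8 * j8) by group, hπ2,
          eight_facts.2.2.2.2.2.2.2.2.2, one_mul]
      have hπj1 : π * j8 ≠ 1 := fun h => hπj (by
        rw [eq_inv_of_mul_eq_one_left h,
          inv_eq_of_mul_eq_one_right eight_facts.2.2.2.2.2.2.2.2.2])
      have hm2 : g⁻¹ * F (π * j8) * g ∈ H := by
        rw [map_mul, show g⁻¹ * (F π * F j8) * g = (g⁻¹ * F π * g) * (g⁻¹ * F j8 * g) by group,
          show g⁻¹ * F j8 * g = F j8 by rw [mul_assoc, ← hg.eq, inv_mul_cancel_left]]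
        exact mul_mem hm (mH _)
      rcases hback π hπ2 hπ1 hm with h | hc1
      · exact h
      rcases hback _ hπj2 hπj1 hm2 with h | hc2
      · exact h
      exfalso
      have hπx : π * swap 1 2 = swap 1 2 * π := commF hjx
      have hπjx : π * j8 * swap 1 2 = swap 1 2 * (π * j8) := by
        rw [mul_assoc, ← eight_prod.2.2.2.2.2.2.2.2, ← mul_assoc, hπx, mul_assoc]
      have e1 := not_j8_of_commute hπx hc1
      have e2 := not_j8_of_commute hπjx hc2
      rw [Perm.mul_apply, j8_twice.1, ← e1] at e2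
      exact fpf_of_j8 hc1 1 (π.injective e2)
  -- conclusion
  have hall : ∀ j ∈ H, j * j = 1 → j ≠ 1 → ∀ g, Commute g j → g ∈ H := by
    rintro _ ⟨π, rfl⟩ h2 h1
    have hπ : π * π = 1 := hinj (by rw [map_mul, map_one]; exact h2)
    have hπ1 : π ≠ 1 := fun h => h1 (by rw [h, map_one])
    have hcj : ∀ b, IsConj b π → (∀ g, Commute g (F b) → g ∈ H) → ∀ g, Commute g (F π) → g ∈ H := by
      intro b hb h
      obtain ⟨k, rfl⟩ := isConj_iff.mp hb
      exact centConj b k h
    rcases class_cases π hπ hπ1 with h | h | h | h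
    exacts [hcj _ h.symm hCt, hcj _ h.symm hCc, hcj _ h.symm hCs, hcj _ h.symm hCj]
  have htop : H = ⊤ := eq_top_of_good (by rw [← map_mul, show t8 * t8 = 1 by decide, map_one])
    (by rw [← map_mul, eight_facts.2.2.2.2.2.2.1, map_one]) gt gc hnc_tc hall
  exact ⟨(MulEquiv.ofBijective F ⟨hinj, MonoidHom.range_eq_top.mp htop⟩).symm⟩

end Setting

end Cfsg.Agent.H86.SymEight
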