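import Cfsg.Agent.H86.SymEight.ModelB
import Cfsg.Agent.H86.SymEight.Good

/-!
Fusion and centralisers of involutions for the second type.
-/

set_option autoImplicit false
set_option synthInstance.maxSize 4000
set_option linter.style.haveILetI false
set_option linter.unusedSectionVars false

namespace Cfsg.Agent.H86.SymEight

open Equiv

/-- The double transposition `(1 2)(3 4)`. -/
def dt : Perm (Fin 5) := uu * tau

theorem perm_b_facts : tau * aa * tau = aa * dt ∧ aa * dt = dt * aa ∧ tau * dt = dt * tau ∧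
    dt * dt = 1 ∧ dt ≠ 1 ∧ aa ≠ 1 ∧ aa ≠ dt ∧ Perm.sign dt = 1 ∧ Perm.sign (swap (2 : Fin 5) 3) = -1 ∧
    (swap 2 3 * tau : Perm (Fin 5)) * (swap 2 3 * tau) * (swap 2 3 * tau) = 1 ∧
    Perm.sign (swap 2 3 * tau : Perm (Fin 5)) = 1 := by
  decide +kernel

theorem dt_four : ∀ σ : Perm (Fin 5), σ * σ = 1 → σ ≠ 1 → Perm.sign σ = 1 → σ * dt = dt * σ →
    σ = dt ∨ σ = aa ∨ σ = aa * dt := by
  decide +kernel

theorem dt_even_sq : ∀ σ : Perm (Fin 5), Perm.sign σ = 1 → σ * dt = dt * σ → σ * σ = 1 := by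
  decide +kernel

theorem tau_dt_unique : ∀ σ : Perm (Fin 5), σ * σ = 1 → σ ≠ 1 → Perm.sign σ = 1 →
    σ * tau = tau * σ → σ * dt * (σ * dt) = 1 → σ = dt := by
  decide +kernel

theorem rho_conj : ∃ γ : Perm (Fin 5), γ * c3 * γ⁻¹ = swap 2 3 * tau := by
  decide +kernel

theorem sg_tau : sg tau = tau := by simp [sg, sign_tau]

theorem sg_of_even {σ : Perm (Fin 5)} (h : Perm.sign σ = 1) : sg σ = 1 := by simp [sg, h]

/-- A pair in `M2`. -/
def m2 (α β : Perm (Fin 5)) (h : Perm.sign α = Perm.sign β) : M2 := ⟨(α, β), h⟩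

theorem m2_ext {p q : M2} (h1 : p.1.1 = q.1.1) (h2 : p.1.2 = q.1.2) : p = q :=
  Subtype.ext (Prod.ext h1 h2)

theorem m2_eq_iff {p q : M2} : p = q ↔ p.1.1 = q.1.1 ∧ p.1.2 = q.1.2 :=
  ⟨fun h => h ▸ ⟨rfl, rfl⟩, fun h => m2_ext h.1 h.2⟩

/-- `(1, dt)`. -/
def pc : M2 := m2 1 dt (by decide)

/-- `(dt, dt)`. -/
def pd : M2 := m2 dt dt rfl

/-- `(tau, tau)`. -/
def pt : M2 := m2 tau tau rfl

/-- The model of the second type. -/
structure ModB {G : Type*} [Group G] (S : Setting G) where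
  /-- The map on pairs. -/
  Θ : M2 →* G
  inj : Function.Injective Θ
  tswap : ∀ p, S.t * Θ p * S.t = Θ (sw p)
  psi : ∀ σ (h : (sg σ, σ) ∈ M2), S.ψ σ = Θ ⟨(sg σ, σ), h⟩
  phi : ∀ σ (h : (σ, sg σ) ∈ M2), S.φ σ = Θ ⟨(σ, sg σ), h⟩
  ne_t : ∀ p, Θ p ≠ S.t

namespace ModB

variable {G : Type*} [Group G] {S : Setting G} (M : ModB S)

theorem t_mul (p : M2) : S.t * M.Θ p = M.Θ (sw p) * S.t := by
  rw [← M.tswap, mul_assoc, S.t2, mul_one]

theorem mul_t_mul (p q : M2) : M.Θ q * S.t * M.Θ p = M.Θ (q * sw p) * S.t := by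
  rw [mul_assoc, t_mul, ← mul_assoc, ← map_mul]

theorem mul_t_mul_t (p q : M2) : M.Θ q * S.t * (M.Θ p * S.t) = M.Θ (q * sw p) := by
  rw [← mul_assoc, mul_t_mul, mul_assoc, S.t2, mul_one]

/-- The subgroup generated by the pairs and `t`. -/
def H : Subgroup G where
  carrier := {g | ∃ p, g = M.Θ p ∨ g = M.Θ p * S.t}
  one_mem' := ⟨1, Or.inl (map_one M.Θ).symm⟩
  mul_mem' := by
    rintro _ _ ⟨p, rfl | rfl⟩ ⟨q, rfl | rfl⟩
    · exact ⟨p * q, Or.inl (map_mul _ _ _).symm⟩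
    · exact ⟨p * q, Or.inr (by rw [← mul_assoc, map_mul])⟩
    · exact ⟨p * sw q, Or.inr (M.mul_t_mul q p)⟩
    · exact ⟨p * sw q, Or.inl (M.mul_t_mul_t q p)⟩
  inv_mem' := by
    rintro _ ⟨p, rfl | rfl⟩
    · exact ⟨p⁻¹, Or.inl (map_inv _ _).symm⟩
    · exact ⟨sw p⁻¹, Or.inr (by rw [mul_inv_rev, S.t_inv, ← map_inv, t_mul])⟩

theorem mem_theta (p : M2) : M.Θ p ∈ M.H := ⟨p, Or.inl rfl⟩

theorem t_mem : S.t ∈ M.H := ⟨1, Or.inr (by rw [map_one, one_mul])⟩

theorem psi_mem (σ : Perm (Fin 5)) : S.ψ σ ∈ M.H :=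
  ⟨_, Or.inl (M.psi σ (sign_sg σ))⟩

theorem phi_mem (σ : Perm (Fin 5)) : S.φ σ ∈ M.H :=
  ⟨_, Or.inl (M.phi σ (sign_sg σ).symm)⟩

theorem psi_even (σ : Perm (Fin 5)) (h : Perm.sign σ = 1) :
    S.ψ σ = M.Θ (m2 1 σ (by rw [map_one, h])) := by
  rw [M.psi σ (sign_sg σ)]
  exact congrArg M.Θ (m2_ext (sg_of_even h) rfl)

theorem phi_even (σ : Perm (Fin 5)) (h : Perm.sign σ = 1) :
    S.φ σ = M.Θ (m2 σ 1 (by rw [map_one, h])) := by
  rw [M.phi σ (sign_sg σ).symm]
  exact congrArg M.Θ (m2_ext rfl (sg_of_even h))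

theorem tau0_eq : S.τ0 = M.Θ pt := by
  show S.ψ tau = _
  rw [M.psi tau (sign_sg tau)]
  exact congrArg M.Θ (m2_ext sg_tau rfl)

theorem z_eq : S.z = M.Θ (m2 c3 1 (by decide)) := by
  rw [← S.φ_c3]; exact M.phi_even c3 d3_facts.2.2.2.2.2.2.1

/-- Conjugacy by an element of `H`. -/
def Cj (a b : G) : Prop := ∃ h ∈ M.H, h * a * h⁻¹ = b

theorem cj_isConj {a b : G} (h : M.Cj a b) : IsConj a b := by
  obtain ⟨g, -, e⟩ := h; exact isConj_iff.mpr ⟨g, e⟩

theorem cj_good {a b : G} (h : M.Cj a b) (ga : Good M.H a) : Good M.H b := by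
  obtain ⟨g, hg, rfl⟩ := h; exact good_conj ga hg

theorem cj_cent {a b : G} (h : M.Cj a b) (hC : ∀ g, Commute g a → g ∈ M.H) :
    ∀ g, Commute g b → g ∈ M.H := by
  obtain ⟨k, hk, rfl⟩ := h
  intro g hg
  have hc : Commute (k⁻¹ * g * k) a := by
    have := hg.map (MulAut.conj k⁻¹).toMonoidHom
    simpa [mul_assoc] using this
  have h1 := mul_mem (mul_mem hk (hC _ hc)) (inv_mem hk)
  rwa [show k * (k⁻¹ * g * k) * k⁻¹ = g by group] at h1

theorem conj_theta {p : M2} {b : G} (h : M.Cj (M.Θ p) b) :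
    ∃ q, b = M.Θ (q * p * q⁻¹) ∨ b = M.Θ (q * sw p * q⁻¹) := by
  obtain ⟨g, ⟨q, rfl | rfl⟩, rfl⟩ := h
  · exact ⟨q, Or.inl (by rw [map_mul, map_mul, map_inv])⟩
  · refine ⟨q, Or.inr ?_⟩
    rw [map_mul, map_mul, map_inv, ← M.tswap, mul_inv_rev, S.t_inv]
    group

theorem shape_c {b : G} (h : M.Cj (M.Θ pc) b) :
    ∃ p : M2, b = M.Θ p ∧ (p.1.1 = 1 ∨ p.1.2 = 1) := by
  obtain ⟨q, rfl | rfl⟩ := M.conj_theta h
  · exact ⟨_, rfl, Or.inl (by show q.1.1 * 1 * q.1.1⁻¹ = 1; group)⟩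
  · exact ⟨_, rfl, Or.inr (by show q.1.2 * 1 * q.1.2⁻¹ = 1; group)⟩

theorem shape_d {b : G} (h : M.Cj (M.Θ pd) b) :
    ∃ p : M2, b = M.Θ p ∧ p.1.1 ≠ 1 ∧ Perm.sign p.1.1 = 1 := by
  obtain ⟨q, rfl | rfl⟩ := M.conj_theta h <;>
    refine ⟨_, rfl, ?_, ?_⟩
  any_goals exact fun h => perm_b_facts.2.2.2.2.1 (conj_eq_one_iff.mp (show q.1.1 * dt * q.1.1⁻¹ = 1 from h))
  all_goals
    show Perm.sign (q.1.1 * dt * q.1.1⁻¹) = 1
    simp [perm_b_facts.2.2.2.2.2.2.2.1]

/-- The classes of involutions of `H`. -/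
theorem classes {e : G} (he : e ∈ M.H) (h2 : e * e = 1) (h1 : e ≠ 1) :
    M.Cj S.τ0 e ∨ M.Cj (M.Θ pc) e ∨ M.Cj (M.Θ pd) e ∨
      ((M.Cj S.t e ∨ M.Cj (S.τ0 * S.t) e) ∧ ∃ p, e = M.Θ p * S.t) := by
  obtain ⟨p, rfl | rfl⟩ := he
  · rw [← map_mul, ← map_one M.Θ] at h2
    have hp := M.inj h2
    have ha : p.1.1 * p.1.1 = 1 := congrArg (fun q : M2 => q.1.1) hp
    have hb : p.1.2 * p.1.2 = 1 := congrArg (fun q : M2 => q.1.2) hp
    have hs : Perm.sign p.1.1 = Perm.sign p.1.2 := p.2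
    by_cases a1 : p.1.1 = 1
    · have hb1 : p.1.2 ≠ 1 := fun b1 => h1 (by rw [show p = 1 from m2_ext a1 b1, map_one])
      rcases inv_classes _ hb hb1 with ⟨s, -⟩ | ⟨-, γ, hγ, e⟩
      · rw [← hs, a1, map_one] at s; exact absurd s (by decide)
      · refine Or.inr (Or.inl ⟨M.Θ (m2 1 γ (by rw [map_one, hγ])), M.mem_theta _, ?_⟩)
        rw [← map_inv, ← map_mul, ← map_mul]
        refine congrArg M.Θ (m2_ext ?_ e)
        show (1 : Perm (Fin 5)) * 1 * 1⁻¹ = p.1.1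
        rw [a1]; group
    rcases inv_classes _ ha a1 with ⟨s, γ, hγ, e⟩ | ⟨s, γ, hγ, e⟩
    · have b1 : p.1.2 ≠ 1 := fun b1 => by
        rw [hs, b1, map_one] at s; exact absurd s (by decide)
      rcases inv_classes _ hb b1 with ⟨-, δ, hδ, e'⟩ | ⟨s', -⟩
      · refine Or.inl ⟨M.Θ (m2 γ δ (hγ.trans hδ.symm)), M.mem_theta _, ?_⟩
        rw [M.tau0_eq, ← map_inv, ← map_mul, ← map_mul]
        exact congrArg M.Θ (m2_ext e e')
      · rw [← hs, s] at s'; exact absurd s' (by decide)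
    · by_cases b1 : p.1.2 = 1
      · refine Or.inr (Or.inl ⟨M.Θ (m2 γ 1 (by rw [map_one, hγ])) * S.t,
          mul_mem (M.mem_theta _) M.t_mem, ?_⟩)
        rw [mul_inv_rev, S.t_inv, show ∀ a b : G, a * S.t * b * (S.t * a⁻¹) = a * (S.t * b * S.t) * a⁻¹
          from fun a b => by group, M.tswap, ← map_inv, ← map_mul, ← map_mul]
        refine congrArg M.Θ (m2_ext e ?_)
        show (1 : Perm (Fin 5)) * 1 * 1⁻¹ = p.1.2
        rw [b1]; group
      rcases inv_classes _ hb b1 with ⟨s', -⟩ | ⟨-, δ, hδ, e'⟩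
      · rw [← hs, s] at s'; exact absurd s' (by decide)
      · refine Or.inr (Or.inr (Or.inl ⟨M.Θ (m2 γ δ (hγ.trans hδ.symm)), M.mem_theta _, ?_⟩))
        rw [← map_inv, ← map_mul, ← map_mul]
        exact congrArg M.Θ (m2_ext e e')
  · refine Or.inr (Or.inr (Or.inr ⟨?_, p, rfl⟩))
    rw [M.mul_t_mul_t, ← map_one M.Θ] at h2
    have hab : p.1.1 * p.1.2 = 1 := congrArg (fun q : M2 => q.1.1) (M.inj h2)
    have hb : p.1.2 = p.1.1⁻¹ := (inv_eq_of_mul_eq_one_right hab).symm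
    rcases Int.units_eq_one_or (Perm.sign p.1.1) with hs | hs
    · set q := m2 p.1.1 1 (by rw [map_one, hs])
      refine Or.inl ⟨M.Θ q, M.mem_theta _, ?_⟩
      rw [← map_inv, mul_assoc, t_mul, ← mul_assoc, ← map_mul]
      refine congrArg (fun x => M.Θ x * S.t) (m2_ext ?_ ?_)
      · show p.1.1 * 1⁻¹ = p.1.1; group
      · show 1 * p.1.1⁻¹ = p.1.2; rw [hb]; group
    · set q := m2 (p.1.1 * tau) 1 (by rw [Perm.sign_mul, hs, sign_tau, map_one]; rfl)
      refine Or.inr ⟨M.Θ q, M.mem_theta _, ?_⟩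
      rw [M.tau0_eq, ← map_inv, ← mul_assoc, ← map_mul, mul_assoc, t_mul, ← mul_assoc, ← map_mul]
      refine congrArg (fun x => M.Θ x * S.t) (m2_ext ?_ ?_)
      · show p.1.1 * tau * tau * 1⁻¹ = p.1.1
        rw [mul_assoc p.1.1, tau_sq]; group
      · show 1 * tau * (p.1.1 * tau)⁻¹ = p.1.2
        rw [hb]; group

theorem comm_tt {p q : M2} : Commute (M.Θ q) (M.Θ p) ↔ q * p = p * q := by
  rw [commute_iff_eq, ← map_mul, ← map_mul, M.inj.eq_iff]

theorem comm_st {p q : M2} : Commute (M.Θ q * S.t) (M.Θ p) ↔ q * sw p = p * q := by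
  rw [commute_iff_eq, M.mul_t_mul, ← mul_assoc, ← map_mul, mul_left_inj, M.inj.eq_iff]

theorem comm_ts {p q : M2} : Commute (M.Θ q) (M.Θ p * S.t) ↔ q * p = p * sw q := by
  rw [commute_iff_eq, M.mul_t_mul, ← mul_assoc, ← map_mul, mul_left_inj, M.inj.eq_iff]

theorem comm_ss {p q : M2} : Commute (M.Θ q * S.t) (M.Θ p * S.t) ↔ q * sw p = p * sw q := by
  rw [commute_iff_eq, M.mul_t_mul_t, M.mul_t_mul_t, M.inj.eq_iff]

theorem card_inter (e : G) :
    Nat.card (M.H ⊓ Subgroup.centralizer ({e} : Set G) : Subgroup G) =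
      Nat.card {q // Commute (M.Θ q) e} + Nat.card {q // Commute (M.Θ q * S.t) e} := by
  let f : {q // Commute (M.Θ q) e} ⊕ {q // Commute (M.Θ q * S.t) e} →
      (M.H ⊓ Subgroup.centralizer ({e} : Set G) : Subgroup G) := Sum.elim
    (fun q => ⟨M.Θ q.1, M.mem_theta _, Subgroup.mem_centralizer_singleton_iff.mpr q.2.eq⟩)
    (fun q => ⟨M.Θ q.1 * S.t, mul_mem (M.mem_theta _) M.t_mem,
      Subgroup.mem_centralizer_singleton_iff.mpr q.2.eq⟩)
  have hsep : ∀ a b : M2, M.Θ a ≠ M.Θ b * S.t := fun a b h =>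
    M.ne_t (b⁻¹ * a) (by rw [map_mul, map_inv, h, inv_mul_cancel_left])
  have hf : Function.Bijective f := by
    refine ⟨?_, ?_⟩
    · rintro (a | a) (b | b) h <;> have h' := congrArg Subtype.val h
      · exact congrArg Sum.inl (Subtype.ext (M.inj h'))
      · exact absurd h' (hsep _ _)
      · exact absurd h'.symm (hsep _ _)
      · exact congrArg Sum.inr (Subtype.ext (M.inj (mul_right_cancel h')))
    · rintro ⟨g, ⟨p, rfl | rfl⟩, hc⟩
      · exact ⟨Sum.inl ⟨p, Subgroup.mem_centralizer_singleton_iff.mp hc⟩, rfl⟩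
      · exact ⟨Sum.inr ⟨p, Subgroup.mem_centralizer_singleton_iff.mp hc⟩, rfl⟩
  rw [← Nat.card_congr (Equiv.ofBijective f hf), Nat.card_sum]

theorem card_inter_c :
    Nat.card (M.H ⊓ Subgroup.centralizer ({M.Θ pc} : Set G) : Subgroup G) = 480 := by
  haveI : IsEmpty {q // Commute (M.Θ q * S.t) (M.Θ pc)} := ⟨fun q => by
    have h := congrArg (fun x : M2 => x.1.1) (M.comm_st.mp q.2)
    have h' : q.1.1.1 * dt = 1 * q.1.1.1 := h
    rw [one_mul] at h'
    exact perm_b_facts.2.2.2.2.1 (mul_eq_left.mp h')⟩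
  rw [M.card_inter, Nat.card_of_isEmpty (α := {q // Commute (M.Θ q * S.t) (M.Θ pc)}), add_zero,
    Nat.card_congr (Equiv.subtypeEquivRight (q := fun q : M2 =>
      (fun _ => True) q.1.1 ∧ (fun α => α * (uu * tau) = (uu * tau) * α) q.1.2) fun q =>
      M.comm_tt.trans (by simp [m2_eq_iff, pc, m2, dt])),
    card_pairs (fun _ => True) (fun α => α * (uu * tau) = (uu * tau) * α), dt_counts.1, dt_counts.2.1,
    dt_counts.2.2.1, dt_counts.2.2.2]

theorem card_inter_d :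
    Nat.card (M.H ⊓ Subgroup.centralizer ({M.Θ pd} : Set G) : Subgroup G) = 64 := by
  let P : Perm (Fin 5) → Prop := fun α => α * (uu * tau) = (uu * tau) * α
  have h32 : Nat.card {q : M2 // (fun α : Perm (Fin 5) => α * (uu * tau) = (uu * tau) * α) q.1.1 ∧
      (fun α => α * (uu * tau) = (uu * tau) * α) q.1.2} = 32 := by
    rw [card_pairs (fun α => α * (uu * tau) = (uu * tau) * α) (fun α => α * (uu * tau) = (uu * tau) * α),
      dt_counts.1, dt_counts.2.1]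
  rw [M.card_inter,
    Nat.card_congr (Equiv.subtypeEquivRight (q := fun q : M2 =>
      (fun α : Perm (Fin 5) => α * (uu * tau) = (uu * tau) * α) q.1.1 ∧
        (fun α => α * (uu * tau) = (uu * tau) * α) q.1.2) fun q =>
      M.comm_tt.trans (by simp [m2_eq_iff, pd, m2, dt])),
    Nat.card_congr (Equiv.subtypeEquivRight (p := fun q => Commute (M.Θ q * S.t) (M.Θ pd))
      (q := fun q : M2 => (fun α : Perm (Fin 5) => α * (uu * tau) = (uu * tau) * α) q.1.1 ∧
        (fun α => α * (uu * tau) = (uu * tau) * α) q.1.2) fun q =>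
      M.comm_st.trans (by simp [m2_eq_iff, pd, m2, dt, sw])),
    h32]

theorem card_inter_t :
    Nat.card (M.H ⊓ Subgroup.centralizer ({S.t} : Set G) : Subgroup G) = 240 := by
  have ht : S.t = M.Θ 1 * S.t := by rw [map_one, one_mul]
  have h120 := card_graph id fun _ => rfl
  rw [M.card_inter,
    Nat.card_congr (Equiv.subtypeEquivRight (q := fun q : M2 => q.1.2 = id q.1.1) fun q => by
      rw [ht]
      refine M.comm_ts.trans ?_
      rw [mul_one, one_mul, m2_eq_iff]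
      exact ⟨fun h => h.1.symm, fun h => ⟨h.symm, h⟩⟩),
    Nat.card_congr (Equiv.subtypeEquivRight (p := fun q => Commute (M.Θ q * S.t) S.t)
      (q := fun q : M2 => q.1.2 = id q.1.1) fun q => by
      nth_rw 2 [ht]
      refine M.comm_ss.trans ?_
      rw [show sw 1 = 1 from map_one sw, mul_one, one_mul, m2_eq_iff]
      exact ⟨fun h => h.1.symm, fun h => ⟨h.symm, h⟩⟩),
    h120]

theorem card_inter_u :
    Nat.card (M.H ⊓ Subgroup.centralizer ({S.τ0 * S.t} : Set G) : Subgroup G) = 240 := by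
  have h120 := card_graph (fun α => tau * α * tau) fun α => by
    rw [Perm.sign_mul, Perm.sign_mul, sign_tau]
    rcases Int.units_eq_one_or (Perm.sign α) with h | h <;> rw [h] <;> rfl
  have key : ∀ q : M2, q * pt = pt * sw q ↔ q.1.2 = tau * q.1.1 * tau := by
    intro q
    rw [m2_eq_iff]
    show q.1.1 * tau = tau * q.1.2 ∧ q.1.2 * tau = tau * q.1.1 ↔ _
    constructor
    · rintro ⟨-, h⟩
      rw [← h, mul_assoc, tau_sq, mul_one]
    · intro h
      rw [h]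
      simp only [← mul_assoc, tau_sq, one_mul]
      exact ⟨trivial, by rw [mul_assoc _ tau tau, tau_sq, mul_one]⟩
  have hswpt : sw pt = pt := rfl
  rw [M.tau0_eq, M.card_inter,
    Nat.card_congr (Equiv.subtypeEquivRight (q := fun q : M2 => q.1.2 = tau * q.1.1 * tau) fun q =>
      M.comm_ts.trans (key q)),
    Nat.card_congr (Equiv.subtypeEquivRight (p := fun q => Commute (M.Θ q * S.t) (M.Θ pt * S.t))
      (q := fun q : M2 => q.1.2 = tau * q.1.1 * tau) fun q => by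
      refine M.comm_ss.trans ?_
      rw [hswpt]; exact key q),
    h120]

section Centralisers

variable [Finite G]

theorem cent_z {g : G} (hg : Commute g S.z) : g ∈ M.H := by
  obtain ⟨i, σ, rfl⟩ := S.cz g hg
  exact mul_mem (pow_mem (by rw [M.z_eq]; exact M.mem_theta _) _) (M.psi_mem σ)

theorem cent_r {g : G} (hg : Commute g S.r) : g ∈ M.H := by
  obtain ⟨i, σ, rfl⟩ := S.cr g hg
  exact mul_mem (pow_mem (M.psi_mem c3) _) (M.phi_mem σ)

theorem w_mem : S.w ∈ M.H := by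
  rcases S.w_cases with h | h <;> rw [h] <;> exact M.phi_mem _

theorem mem_of_conj_z {g : G} (hg : g * S.z * g⁻¹ ∈ S.D) : g ∈ M.H := by
  have hfix : ∀ a ∈ M.H, a * (g * S.z * g⁻¹) * a⁻¹ = S.z → g ∈ M.H := by
    intro a ha e
    have hc : Commute (a * g) S.z := by
      refine mul_inv_eq_iff_eq_mul.mp (Eq.trans ?_ e)
      group
    have := mul_mem (inv_mem ha) (M.cent_z hc)
    rwa [inv_mul_cancel_left] at this
  rcases S.conj_z_cases hg with h | h | h | h
  · exact hfix 1 (one_mem _) (by rw [h]; simp)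
  · refine hfix S.w M.w_mem ?_
    rw [h, S.w_inv, show S.w * S.z⁻¹ * S.w = (S.w⁻¹ * S.z * S.w⁻¹)⁻¹ by group, S.w_inv, S.wz,
      inv_inv]
  · refine hfix S.t M.t_mem ?_
    rw [h, S.t_inv, S.tr]
  · refine hfix (S.w * S.t) (mul_mem M.w_mem M.t_mem) ?_
    rw [h, mul_inv_rev, S.t_inv, S.w_inv, show S.w * S.t * S.r⁻¹ * (S.t * S.w) =
      S.w * (S.t * S.r⁻¹ * S.t) * S.w by group, show S.t * S.r⁻¹ * S.t = (S.t * S.r * S.t)⁻¹ by
        rw [mul_inv_rev, mul_inv_rev, S.t_inv, mul_assoc], S.tr,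
      show S.w * S.z⁻¹ * S.w = (S.w⁻¹ * S.z * S.w⁻¹)⁻¹ by group, S.w_inv, S.wz, inv_inv]

theorem cent_two {g : G} (h1 : Commute g (S.ψ dt)) (h2 : Commute g (S.ψ aa)) : g ∈ M.H := by
  set s := S.ψ s04
  have hss : s * s = 1 := by rw [← map_mul, aa_facts.2.2.2.1, map_one]
  have hsi : s⁻¹ = s := inv_eq_of_mul_eq_one_right hss
  have k1 := h1.map (MulAut.conj s).toMonoidHom
  have k2 := h2.map (MulAut.conj s).toMonoidHom
  simp only [MulEquiv.coe_toMonoidHom, MulAut.conj_apply, hsi] at k1 k2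
  rw [show s * S.ψ dt * s = S.ψ (va * vb) by
    rw [← map_mul, ← map_mul]; exact congrArg S.ψ aa_facts.2.2.2.2.1] at k1
  rw [show s * S.ψ aa * s = S.ψ vb by
    rw [← map_mul, ← map_mul]; exact congrArg S.ψ aa_facts.2.2.2.2.2] at k2
  have k3 : Commute (s * g * s) (S.ψ va) := by
    have h := k1.mul_right k2
    rwa [← map_mul, mul_assoc va vb vb, va_facts.2.1, mul_one] at h
  have hV : s * g * s ∈ Subgroup.centralizer (S.V : Set G) := by
    rintro _ ⟨σ, hσ, rfl⟩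
    rcases K4_mul σ (mem_VS.mp hσ) with rfl | rfl | rfl | rfl
    · simp
    · exact k3.eq.symm
    · exact k2.eq.symm
    · exact k1.eq.symm
  obtain ⟨v, ⟨σ, -, rfl⟩, x, hx, e⟩ := S.CV_prod hV
  have hm : s * g * s ∈ M.H := e ▸ mul_mem (M.psi_mem σ) (M.cent_r (S.X_four_le_cr hx))
  have := mul_mem (mul_mem (M.psi_mem s04) hm) (M.psi_mem s04)
  rwa [show s * (s * g * s) * s = (s * s) * g * (s * s) by group, hss, one_mul, mul_one] at this

variable (hN : Subgroup.centralizer ({S.τ0} : Set G) = Subgroup.normalizer (S.D : Set G))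
  (hcard : Nat.card (Subgroup.centralizer ({S.τ0} : Set G)) = 144)

include M hN hcard

theorem cent_tau0 {g : G} (hg : Commute g S.τ0) : g ∈ M.H := by
  refine M.mem_of_conj_z (S.normalizer_iff.mp ?_ S.z S.z_mem_D)
  rw [← hN]; exact Subgroup.mem_centralizer_singleton_iff.mpr hg.eq

theorem tau0_not_of_card {e : G} {n : ℕ}
    (hn : Nat.card (M.H ⊓ Subgroup.centralizer ({e} : Set G) : Subgroup G) = n) (h : ¬ n ∣ 144) :
    ¬ IsConj S.τ0 e := by
  intro hc
  obtain ⟨g, rfl⟩ := isConj_iff.mp hc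
  refine h ?_
  rw [← hn, ← hcard, ← card_cent_conj g S.τ0]
  exact Subgroup.card_dvd_of_le inf_le_right

theorem tau0_nc : ¬ IsConj S.τ0 (M.Θ pc) :=
  M.tau0_not_of_card hN hcard M.card_inter_c (by norm_num)

theorem tau0_nd : ¬ IsConj S.τ0 (M.Θ pd) :=
  M.tau0_not_of_card hN hcard M.card_inter_d (by norm_num)

theorem tau0_nt : ¬ IsConj S.τ0 S.t :=
  M.tau0_not_of_card hN hcard M.card_inter_t (by norm_num)

theorem tau0_nu : ¬ IsConj S.τ0 (S.τ0 * S.t) :=
  M.tau0_not_of_card hN hcard M.card_inter_u (by norm_num)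

theorem good_tau0 : Good M.H S.τ0 := by
  refine good_of_class (fun g hg => M.cent_tau0 hN hcard hg) fun e he hc => ?_
  obtain ⟨g, rfl⟩ := isConj_iff.mp hc
  have h2 : (g * S.τ0 * g⁻¹) * (g * S.τ0 * g⁻¹) = 1 := by
    rw [show (g * S.τ0 * g⁻¹) * (g * S.τ0 * g⁻¹) = g * (S.τ0 * S.τ0) * g⁻¹ by group, S.τ0_sq,
      mul_one, mul_inv_cancel]
  have h1 : g * S.τ0 * g⁻¹ ≠ 1 := fun h => S.τ0_ne (conj_eq_one_iff.mp h)
  rcases M.classes he h2 h1 with h | h | h | ⟨h | h, -⟩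
  · exact h
  · exact absurd (hc.trans (M.cj_isConj h).symm) (M.tau0_nc hN hcard)
  · exact absurd (hc.trans (M.cj_isConj h).symm) (M.tau0_nd hN hcard)
  · exact absurd (hc.trans (M.cj_isConj h).symm) (M.tau0_nt hN hcard)
  · exact absurd (hc.trans (M.cj_isConj h).symm) (M.tau0_nu hN hcard)

theorem comm_tau0_reps : Commute S.τ0 (M.Θ pc) ∧ Commute S.τ0 (M.Θ pd) ∧ Commute S.τ0 S.t ∧
    Commute S.τ0 (S.τ0 * S.t) :=
  ⟨by rw [M.tau0_eq, M.comm_tt]; exact m2_ext (mul_comm_one_tau) perm_b_facts.2.2.1,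
   by rw [M.tau0_eq, M.comm_tt]; exact m2_ext perm_b_facts.2.2.1 perm_b_facts.2.2.1,
   S.tτ.symm, (Commute.refl _).mul_right S.tτ.symm⟩
where
  mul_comm_one_tau : tau * (1 : Perm (Fin 5)) = 1 * tau := by rw [mul_one, one_mul]

theorem not_conj_of_odd {a b : G} {m n : ℕ}
    (ha : Commute S.τ0 a) (hb : Commute S.τ0 b)
    (hm : Nat.card (M.H ⊓ Subgroup.centralizer ({a} : Set G) : Subgroup G) = m)
    (hn : Nat.card (M.H ⊓ Subgroup.centralizer ({b} : Set G) : Subgroup G) = n)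
    (h : ∀ o o', Odd o → Odd o' → o * m ≠ o' * n) : ¬ IsConj a b := by
  intro hc
  obtain ⟨g, rfl⟩ := isConj_iff.mp hc
  have hτ := M.good_tau0 hN hcard
  have hτH : S.τ0 ∈ M.H := by rw [M.tau0_eq]; exact M.mem_theta _
  obtain ⟨o, ho, e⟩ := index_odd_of_good S.τ0_sq hτ hτH ha
  obtain ⟨o', ho', e'⟩ := index_odd_of_good S.τ0_sq hτ hτH hb
  rw [card_cent_conj, e, hm, hn] at e'
  exact h o o' ho ho' e'

theorem c_nd : ¬ IsConj (M.Θ pc) (M.Θ pd) :=
  M.not_conj_of_odd hN hcard (M.comm_tau0_reps hN hcard).1 (M.comm_tau0_reps hN hcard).2.1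
    M.card_inter_c M.card_inter_d (by rintro o o' ⟨k, rfl⟩ ⟨l, rfl⟩; omega)

theorem c_nt : ¬ IsConj (M.Θ pc) S.t ∧ ¬ IsConj (M.Θ pc) (S.τ0 * S.t) := by
  obtain ⟨h1, -, h3, h4⟩ := M.comm_tau0_reps hN hcard
  exact ⟨M.not_conj_of_odd hN hcard h1 h3 M.card_inter_c M.card_inter_t
      (by rintro o o' ⟨k, rfl⟩ ⟨l, rfl⟩; omega),
    M.not_conj_of_odd hN hcard h1 h4 M.card_inter_c M.card_inter_u
      (by rintro o o' ⟨k, rfl⟩ ⟨l, rfl⟩; omega)⟩

theorem d_nt : ¬ IsConj (M.Θ pd) S.t ∧ ¬ IsConj (M.Θ pd) (S.τ0 * S.t) := by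
  obtain ⟨-, h2, h3, h4⟩ := M.comm_tau0_reps hN hcard
  exact ⟨M.not_conj_of_odd hN hcard h2 h3 M.card_inter_d M.card_inter_t
      (by rintro o o' ⟨k, rfl⟩ ⟨l, rfl⟩; omega),
    M.not_conj_of_odd hN hcard h2 h4 M.card_inter_d M.card_inter_u
      (by rintro o o' ⟨k, rfl⟩ ⟨l, rfl⟩; omega)⟩

theorem sq_one {p : M2} (h1 : p.1.1 * p.1.1 = 1) (h2 : p.1.2 * p.1.2 = 1) :
    M.Θ p * M.Θ p = 1 := by
  rw [← map_mul, show p * p = 1 from m2_ext h1 h2, map_one]

theorem pc_sq : M.Θ pc * M.Θ pc = 1 := M.sq_one hN hcard (one_mul _) perm_b_facts.2.2.2.1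

theorem pd_sq : M.Θ pd * M.Θ pd = 1 :=
  M.sq_one hN hcard perm_b_facts.2.2.2.1 perm_b_facts.2.2.2.1

theorem pc_ne : M.Θ pc ≠ 1 := fun h =>
  perm_b_facts.2.2.2.2.1 (congrArg (fun q : M2 => q.1.2) (M.inj (h.trans (map_one M.Θ).symm)))

theorem pd_ne : M.Θ pd ≠ 1 := fun h =>
  perm_b_facts.2.2.2.2.1 (congrArg (fun q : M2 => q.1.2) (M.inj (h.trans (map_one M.Θ).symm)))

theorem class_of_conj_c {e : G} (he : e ∈ M.H) (hc : IsConj (M.Θ pc) e) : M.Cj (M.Θ pc) e := by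
  obtain ⟨g, rfl⟩ := isConj_iff.mp hc
  have h2 : (g * M.Θ pc * g⁻¹) * (g * M.Θ pc * g⁻¹) = 1 := by
    rw [show (g * M.Θ pc * g⁻¹) * (g * M.Θ pc * g⁻¹) = g * (M.Θ pc * M.Θ pc) * g⁻¹ by group,
      M.pc_sq hN hcard, mul_one, mul_inv_cancel]
  have h1 : g * M.Θ pc * g⁻¹ ≠ 1 := fun h => M.pc_ne hN hcard (conj_eq_one_iff.mp h)
  rcases M.classes he h2 h1 with h | h | h | ⟨h | h, -⟩
  · exact absurd (hc.trans (M.cj_isConj h).symm).symm (M.tau0_nc hN hcard)
  · exact h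
  · exact absurd (hc.trans (M.cj_isConj h).symm) (M.c_nd hN hcard)
  · exact absurd (hc.trans (M.cj_isConj h).symm) (M.c_nt hN hcard).1
  · exact absurd (hc.trans (M.cj_isConj h).symm) (M.c_nt hN hcard).2

theorem class_of_conj_d {e : G} (he : e ∈ M.H) (hc : IsConj (M.Θ pd) e) : M.Cj (M.Θ pd) e := by
  obtain ⟨g, rfl⟩ := isConj_iff.mp hc
  have h2 : (g * M.Θ pd * g⁻¹) * (g * M.Θ pd * g⁻¹) = 1 := by
    rw [show (g * M.Θ pd * g⁻¹) * (g * M.Θ pd * g⁻¹) = g * (M.Θ pd * M.Θ pd) * g⁻¹ by group,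
      M.pd_sq hN hcard, mul_one, mul_inv_cancel]
  have h1 : g * M.Θ pd * g⁻¹ ≠ 1 := fun h => M.pd_ne hN hcard (conj_eq_one_iff.mp h)
  rcases M.classes he h2 h1 with h | h | h | ⟨h | h, -⟩
  · exact absurd (hc.trans (M.cj_isConj h).symm).symm (M.tau0_nd hN hcard)
  · exact absurd (hc.trans (M.cj_isConj h).symm).symm (M.c_nd hN hcard)
  · exact h
  · exact absurd (hc.trans (M.cj_isConj h).symm) (M.d_nt hN hcard).1
  · exact absurd (hc.trans (M.cj_isConj h).symm) (M.d_nt hN hcard).2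

theorem cent_c {g : G} (hg : Commute g (M.Θ pc)) : g ∈ M.H := by
  classical
  revert g
  set c := M.Θ pc with hcdef
  have hcψ : c = S.ψ dt := (M.psi_even dt perm_b_facts.2.2.2.2.2.2.2.1).symm
  set a := S.ψ aa with hadef
  have haΘ : a = M.Θ (m2 1 aa (by decide)) := M.psi_even aa d3_facts.2.2.2.2.2.2.2.2.1
  set B := Subgroup.centralizer ({c} : Set G) with hB
  have hmemB : ∀ {g : G}, g ∈ B ↔ Commute g c := Subgroup.mem_centralizer_singleton_iff
  have hmk : ∀ {q : M2}, q.1.2 * dt = dt * q.1.2 → M.Θ q ∈ B := fun {q} h =>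
    hmemB.mpr (M.comm_tt.mpr (m2_ext (by show q.1.1 * 1 = 1 * q.1.1; group) h))
  set cB : B := ⟨c, hmemB.mpr (Commute.refl _)⟩
  have hcB2 : cB * cB = 1 := Subtype.ext (M.pc_sq hN hcard)
  set Z := Subgroup.zpowers cB with hZ
  haveI : Z.Normal := ⟨fun x hx g => by
    obtain ⟨n, rfl⟩ := Subgroup.mem_zpowers_iff.mp hx
    have h : Commute g cB := Subtype.ext (hmemB.mp g.2).eq
    rw [(h.zpow_right n).eq, mul_inv_cancel_right]; exact hx⟩
  have hZmem : ∀ g : B, g ∈ Z → g = 1 ∨ g = cB := by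
    intro g hg
    obtain ⟨n, rfl⟩ := Subgroup.mem_zpowers_iff.mp hg
    rcases Int.even_or_odd n with ⟨m, rfl⟩ | ⟨m, rfl⟩
    · left; rw [zpow_add, ← (Commute.refl cB).mul_zpow, hcB2, one_zpow]
    · right; rw [zpow_add_one, zpow_mul, zpow_ofNat, pow_two, hcB2, one_zpow, one_mul]
  set π := QuotientGroup.mk' Z with hπdef
  have hπ : ∀ u v : B, π u = π v → (v : G) = u ∨ (v : G) = u * c := by
    intro u v h
    rcases hZmem _ ((QuotientGroup.eq).mp h) with e | e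
    · exact Or.inl (congrArg Subtype.val (inv_mul_eq_one.mp e)).symm
    · exact Or.inr (congrArg Subtype.val (inv_mul_eq_iff_eq_mul.mp e))
  have hπc : π cB = 1 := (QuotientGroup.eq_one_iff _).mpr (Subgroup.mem_zpowers _)
  set aB : B := ⟨a, haΘ ▸ hmk perm_b_facts.2.1⟩
  have ha2 : a * a = 1 := by rw [hadef, ← map_mul, aa_facts.1, map_one]
  have hπa2 : π aB * π aB = 1 := by
    rw [← map_mul, show aB * aB = 1 from Subtype.ext ha2, map_one]
  have hπa1 : π aB ≠ 1 := by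
    intro h
    rcases hZmem aB ((QuotientGroup.eq_one_iff _).mp h) with e | e
    · exact perm_b_facts.2.2.2.2.2.1 (S.inj ((congrArg Subtype.val e).trans (map_one S.ψ).symm))
    · exact perm_b_facts.2.2.2.2.2.2.1 (S.inj ((congrArg Subtype.val e).trans hcψ))
  have htac : S.τ0 * a * S.τ0 = a * c := by
    rw [hcψ, hadef]
    show S.ψ tau * S.ψ aa * S.ψ tau = _
    rw [← map_mul, ← map_mul, ← map_mul, perm_b_facts.1]
  have hτc : Commute S.τ0 c := (M.comm_tau0_reps hN hcard).1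
  -- conjugates of `a` modulo `c`
  have key : ∀ g : B, π (g * aB * g⁻¹) = π aB → (g : G) ∈ M.H := by
    intro g h
    rcases hπ _ _ h.symm with e | e
    · refine M.cent_two ?_ (mul_inv_eq_iff_eq_mul.mp e)
      rw [← hcψ]; exact hmemB.mp g.2
    · have e' : (g : G) * a * (g : G)⁻¹ = a * c := e
      have h1 : Commute (S.τ0 * g) a := by
        refine mul_inv_eq_iff_eq_mul.mp ?_
        rw [show S.τ0 * g * a * (S.τ0 * g)⁻¹ = S.τ0 * (g * a * (g : G)⁻¹) * S.τ0⁻¹ by group, e',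
          inv_eq_of_mul_eq_one_right S.τ0_sq, ← mul_assoc, mul_assoc _ c, ← hτc.eq, ← mul_assoc,
          htac, mul_assoc, M.pc_sq hN hcard, mul_one]
      have h2 : S.τ0 * g ∈ M.H := M.cent_two (by rw [← hcψ]; exact hτc.mul_left (hmemB.mp g.2)) h1
      have h3 := mul_mem (by rw [M.tau0_eq]; exact M.mem_theta _ : S.τ0 ∈ M.H) h2
      rwa [← mul_assoc, S.τ0_sq, one_mul] at h3
  have hac : IsConj c a := by
    obtain ⟨γ, hγ⟩ : ∃ γ : Perm (Fin 5), γ * dt * γ⁻¹ = aa := by decide +kernel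
    rw [hcψ, hadef, ← hγ, map_mul, map_mul, map_inv]
    exact isConj_iff.mpr ⟨_, rfl⟩
  have hcac : IsConj c (a * c) := hac.trans (isConj_iff.mpr
    ⟨S.τ0, by rw [inv_eq_of_mul_eq_one_right S.τ0_sq, htac]⟩)
  have hiso : Cfsg.IsIsolated (π aB) := by
    intro q hq
    obtain ⟨g, rfl⟩ := QuotientGroup.mk'_surjective Z q
    rw [← map_inv, ← map_mul, ← map_mul] at hq ⊢
    have h1 : π ((g * aB * g⁻¹) * aB * (g * aB * g⁻¹)⁻¹) = π aB := by
      rw [map_mul π (g * aB * g⁻¹ * aB), map_mul π (g * aB * g⁻¹), map_inv, ← hq.eq,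
        mul_inv_cancel_right]
    set y : G := (g : G) * a * (g : G)⁻¹ with hy
    have hyH : y ∈ M.H := key _ h1
    have hgc : Commute (g : G) c := hmemB.mp g.2
    have hyc : IsConj c y := hac.trans (isConj_iff.mpr ⟨_, rfl⟩)
    have hyc' : IsConj c (y * c) := hcac.trans (isConj_iff.mpr ⟨(g : G), by
      rw [hy, show (g : G) * (a * c) * (g : G)⁻¹ = (g : G) * a * (c * (g : G)⁻¹) by group,
        ← hgc.inv_left.eq, ← mul_assoc]⟩)
    obtain ⟨p, hp, hp'⟩ := M.shape_c (M.class_of_conj_c hN hcard hyH hyc)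
    obtain ⟨p', hp2, hp2'⟩ := M.shape_c (M.class_of_conj_c hN hcard
      (mul_mem hyH (M.mem_theta _)) hyc')
    have hpp : p' = p * pc := M.inj (by rw [← hp2, map_mul, ← hp])
    subst hpp
    have hyne : y ≠ 1 := fun h =>
      perm_b_facts.2.2.2.2.2.1 (S.inj ((conj_eq_one_iff.mp h).trans (map_one S.ψ).symm))
    have hp1 : p.1.1 = 1 := by
      rcases hp' with h | h
      · exact h
      · rcases hp2' with h' | h'
        · rw [show (p * pc).1.1 = p.1.1 * 1 from rfl, mul_one] at h'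
          exact h'
        · rw [show (p * pc).1.2 = p.1.2 * dt from rfl, h, one_mul] at h'
          exact absurd h' perm_b_facts.2.2.2.2.1
    have hy2 : p.1.2 * p.1.2 = 1 := by
      have h : y * y = 1 := by
        rw [hy, show (g : G) * a * (g : G)⁻¹ * ((g : G) * a * (g : G)⁻¹) =
          (g : G) * (a * a) * (g : G)⁻¹ by group, ha2, mul_one, mul_inv_cancel]
      rw [hp, ← map_mul, ← map_one M.Θ] at h
      exact congrArg (fun q : M2 => q.1.2) (M.inj h)
    have hy1 : p.1.2 ≠ 1 := fun h => hyne (by rw [hp, show p = 1 from m2_ext hp1 h, map_one])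
    have hsgn : Perm.sign p.1.2 = 1 := by rw [← mem_M2.mp p.2, hp1, map_one]
    have hpd : p.1.2 * dt = dt * p.1.2 := by
      have h : Commute y c := (hgc.mul_left (hmemB.mp aB.2)).mul_left hgc.inv_left
      rw [hp, hcdef, M.comm_tt] at h
      exact congrArg (fun q : M2 => q.1.2) h
    rcases dt_four _ hy2 hy1 hsgn hpd with e | e | e
    · exfalso
      have hyc2 : y = c := by rw [hp, hcdef, show p = pc from m2_ext hp1 e]
      have : a = c := by
        have h := congrArg (fun x => (g : G)⁻¹ * x * g) hyc2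
        simp only [hy] at h
        rwa [show (g : G)⁻¹ * ((g : G) * a * (g : G)⁻¹) * g = a by group, mul_assoc, ← hgc.eq,
          inv_mul_cancel_left] at h
      exact perm_b_facts.2.2.2.2.2.2.1 (S.inj (this.trans hcψ))
    · congr 1
      refine Subtype.ext ?_
      show y = a
      rw [hp, haΘ]
      exact congrArg M.Θ (m2_ext hp1 e)
    · have e' : g * aB * g⁻¹ = aB * cB := Subtype.ext (by
        show y = a * c
        rw [hp, haΘ, hcdef, ← map_mul]
        exact congrArg M.Θ (m2_ext (by rw [hp1]; rfl) e))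
      rw [e', map_mul, hπc, mul_one]
  haveI : (Cfsg.oddCore (B ⧸ Z)).Normal := by
    show (Cfsg.pPrimeCore 2 (B ⧸ Z)).Normal
    infer_instance
  set O := Cfsg.oddCore (B ⧸ Z) with hOdef
  have hOodd : Odd (Nat.card O) := Nat.coprime_two_right.mp Cores.coprime_card_pPrimeCore
  have hinv : ∀ x ∈ O, x * x = 1 → x = 1 := by
    intro x hx h2
    have h1 : orderOf x ∣ Nat.card O := Subgroup.orderOf_dvd_natCard O hx
    have h3 : orderOf x ∣ 2 := orderOf_dvd_of_pow_eq_one (by rw [pow_two]; exact h2)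
    have h4 := Nat.dvd_gcd h3 h1
    rw [Nat.coprime_two_left.mpr hOodd] at h4
    exact orderOf_eq_one_iff.mp (Nat.dvd_one.mp h4)
  -- the intersection of the preimage with `H`
  have hOH : ∀ g : B, π g ∈ O → (g : G) ∈ M.H → π g = 1 := by
    intro g hgO hgH
    have hgc : Commute (g : G) c := hmemB.mp g.2
    obtain ⟨p, hp⟩ : ∃ p, (g : G) = M.Θ p := by
      obtain ⟨p, hp | hp⟩ := hgH
      · exact ⟨p, hp⟩
      · rw [hp, hcdef, M.comm_st] at hgc
        have h : p.1.1 * dt = 1 * p.1.1 := congrArg (fun q : M2 => q.1.1) hgc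
        rw [one_mul] at h
        exact absurd (mul_eq_left.mp h) perm_b_facts.2.2.2.2.1
    let ι : alternatingGroup (Fin 5) →* B ⧸ Z :=
      π.comp ((M.Θ.comp (MonoidHom.mk' (fun γ : alternatingGroup (Fin 5) =>
        m2 (γ : Perm (Fin 5)) 1 (by rw [map_one]; exact Perm.mem_alternatingGroup.mp γ.2))
        fun _ _ => m2_ext rfl (one_mul _).symm)).codRestrict B fun γ =>
          hmk (by show (1 : Perm (Fin 5)) * dt = dt * 1; rw [one_mul, mul_one]))
    haveI : (O.comap ι).Normal := Subgroup.Normal.comap inferInstance ι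
    have hιinj : ∀ γ, ι γ = 1 → γ = 1 := by
      intro γ h
      rcases hZmem _ ((QuotientGroup.eq_one_iff _).mp h) with e | e
      · exact Subtype.ext (congrArg (fun q : M2 => q.1.1)
          (M.inj ((congrArg Subtype.val e).trans (map_one M.Θ).symm)))
      · exact Subtype.ext (congrArg (fun q : M2 => q.1.1) (M.inj (congrArg Subtype.val e)))
    have hbot : O.comap ι = ⊥ := by
      haveI : IsSimpleGroup (alternatingGroup (Fin 5)) := alternatingGroup.isSimpleGroup (by simp)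
      rcases Subgroup.Normal.eq_bot_or_eq_top (inferInstance : (O.comap ι).Normal) with h | h
      · exact h
      · exfalso
        set γ : alternatingGroup (Fin 5) := ⟨aa, Perm.mem_alternatingGroup.mpr d3_facts.2.2.2.2.2.2.2.2.1⟩
        have hm : ι γ ∈ O := by
          have : γ ∈ O.comap ι := h ▸ Subgroup.mem_top _
          exact this
        have h1 := hinv _ hm (by
          rw [← map_mul, show γ * γ = 1 from Subtype.ext aa_facts.1, map_one])
        exact perm_b_facts.2.2.2.2.2.1 (congrArg Subtype.val (hιinj _ h1))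
    have hcomm : ∀ γ : alternatingGroup (Fin 5),
        (γ : Perm (Fin 5)) * p.1.1 = p.1.1 * γ := by
      intro γ
      have hγ : Perm.sign (γ : Perm (Fin 5)) = 1 := Perm.mem_alternatingGroup.mp γ.2
      set δ : alternatingGroup (Fin 5) := ⟨(γ : Perm (Fin 5)) * p.1.1 * (γ : Perm (Fin 5))⁻¹ * p.1.1⁻¹,
        Perm.mem_alternatingGroup.mpr (by simp [hγ])⟩
      set xB : B := ⟨M.Θ (m2 (γ : Perm (Fin 5)) 1 (by rw [map_one, hγ])), hmk (by
        show (1 : Perm (Fin 5)) * dt = dt * 1; rw [one_mul, mul_one])⟩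
      have hδ : ι δ = π xB * π g * (π xB)⁻¹ * (π g)⁻¹ := by
        rw [← map_inv, ← map_inv, ← map_mul, ← map_mul, ← map_mul]
        refine congrArg π (Subtype.ext ?_)
        show M.Θ _ = M.Θ _ * (g : G) * (M.Θ _)⁻¹ * (g : G)⁻¹
        rw [hp, ← map_inv, ← map_inv, ← map_mul, ← map_mul, ← map_mul]
        refine congrArg M.Θ (m2_ext rfl ?_)
        show (1 : Perm (Fin 5)) = 1 * p.1.2 * 1⁻¹ * p.1.2⁻¹
        group
      have hmem : δ ∈ O.comap ι := by
        show ι δ ∈ O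
        rw [hδ]
        exact mul_mem (Subgroup.Normal.conj_mem inferInstance _ hgO _) (inv_mem hgO)
      rw [hbot, Subgroup.mem_bot] at hmem
      have h := congrArg Subtype.val hmem
      exact mul_inv_eq_iff_eq_mul.mp (mul_inv_eq_one.mp h)
    have hp1 : p.1.1 = 1 := cent_alt _
      (hcomm ⟨c3, Perm.mem_alternatingGroup.mpr d3_facts.2.2.2.2.2.2.1⟩).symm
      (hcomm ⟨d3, Perm.mem_alternatingGroup.mpr d3_facts.2.2.2.2.2.2.2.1⟩).symm
    have hsgn : Perm.sign p.1.2 = 1 := by rw [← mem_M2.mp p.2, hp1, map_one]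
    rw [hp, hcdef, M.comm_tt] at hgc
    have hsq := dt_even_sq _ hsgn (congrArg (fun q : M2 => q.1.2) hgc)
    refine hinv _ hgO ?_
    rw [← map_mul, show g * g = 1 from Subtype.ext (by
      show (g : G) * g = 1
      rw [hp]
      exact M.sq_one hN hcard (by rw [hp1, one_mul]) hsq), map_one]
  have hτgood := M.good_tau0 hN hcard
  have hfpf : ∀ (y : B) (_ : Good M.H (y : G)) (_ : (y : G) ∈ M.H), ∀ q ∈ O,
      Commute (π y) q → q = 1 := by
    intro y gy hy q hq hc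
    obtain ⟨g, rfl⟩ := QuotientGroup.mk'_surjective Z q
    refine hOH g hq (gy.2 _ ?_)
    have h : π (g * y * g⁻¹) = π y := by
      rw [map_mul, map_mul, map_inv, ← hc.eq, mul_inv_cancel_right]
    rcases hπ _ _ h.symm with e | e
    · rw [show (g : G) * y * (g : G)⁻¹ = y from e]; exact hy
    · rw [show (g : G) * y * (g : G)⁻¹ = y * c from e]; exact mul_mem hy (M.mem_theta _)
  have hObot : ∀ q ∈ O, q = 1 := by
    intro q hq
    set x1 : B := ⟨S.τ0, hmemB.mpr hτc⟩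
    set p2 : M2 := m2 (swap 2 3) tau (by rw [sign_tau]; exact perm_b_facts.2.2.2.2.2.2.2.2.1)
    set x2 : B := ⟨M.Θ p2, hmk perm_b_facts.2.2.1⟩
    have g2 : Good M.H (x2 : G) := by
      obtain ⟨γ, hγ, e⟩ : ∃ γ : Perm (Fin 5), Perm.sign γ = 1 ∧ γ * tau * γ⁻¹ = swap 2 3 := by
        decide +kernel
      refine M.cj_good ⟨M.Θ (m2 γ 1 (by rw [map_one, hγ])), M.mem_theta _, ?_⟩ hτgood
      show _ = M.Θ p2
      rw [M.tau0_eq, ← map_inv, ← map_mul, ← map_mul]
      exact congrArg M.Θ (m2_ext e (by show 1 * tau * 1⁻¹ = tau; group))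
    have hsq : ∀ y : B, (y : G) * y = 1 → π y * π y = 1 := fun y h => by
      rw [← map_mul, show y * y = 1 from Subtype.ext h, map_one]
    have s1 : π x1 * π x1 = 1 := hsq _ S.τ0_sq
    have s2 : π x2 * π x2 = 1 := hsq _ (M.sq_one hN hcard (Equiv.swap_mul_self _ _) tau_sq)
    have i1 : π x1 * q * (π x1)⁻¹ = q⁻¹ := H49.USix.inv_of_fpf (N := O) s1
      (fun a ha h => hfpf x1 hτgood (by show S.τ0 ∈ M.H; rw [M.tau0_eq]; exact M.mem_theta _) a ha h) hq
    have i2 : π x2 * q⁻¹ * (π x2)⁻¹ = q := by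
      have h := H49.USix.inv_of_fpf (N := O) (t := π x2) s2
        (fun a ha h => hfpf x2 g2 (M.mem_theta _) a ha h) (inv_mem hq)
      rwa [inv_inv] at h
    have hc : π (x2 * x1) * q * (π (x2 * x1))⁻¹ = q := by
      rw [map_mul, show π x2 * π x1 * q * (π x2 * π x1)⁻¹ =
        π x2 * (π x1 * q * (π x1)⁻¹) * (π x2)⁻¹ by group, i1, i2]
    obtain ⟨g, rfl⟩ := QuotientGroup.mk'_surjective Z q
    have h' : π (g * (x2 * x1) * g⁻¹) = π (x2 * x1) := by
      rw [map_mul π (g * (x2 * x1)), map_mul π g, map_inv, ← mul_inv_eq_iff_eq_mul.mp hc,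
        mul_inv_cancel_right]
    set ρ := ((x2 * x1 : B) : G) with hρ
    have hρv : ρ = M.Θ (m2 (swap 2 3 * tau) 1 (by rw [map_one]; exact perm_b_facts.2.2.2.2.2.2.2.2.2.2)) := by
      show M.Θ p2 * S.τ0 = _
      rw [M.tau0_eq, ← map_mul]
      exact congrArg M.Θ (m2_ext rfl tau_sq)
    have hρ3 : ρ * ρ * ρ = 1 := by
      rw [hρv, ← map_mul, ← map_mul, ← map_one M.Θ]
      exact congrArg M.Θ (m2_ext perm_b_facts.2.2.2.2.2.2.2.2.2.1 (by show (1 : Perm (Fin 5)) * 1 * 1 = 1; group))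
    have hfix : (g : G) * ρ * (g : G)⁻¹ = ρ := by
      rcases hπ _ _ h'.symm with e | e
      · exact e
      · exfalso
        have e' : (g : G) * ρ * (g : G)⁻¹ = ρ * c := e
        have h3 : (ρ * c) ^ 3 = 1 := by
          rw [← e', pow_succ, pow_two, show (g : G) * ρ * (g : G)⁻¹ * ((g : G) * ρ * (g : G)⁻¹) *
            ((g : G) * ρ * (g : G)⁻¹) = (g : G) * (ρ * ρ * ρ) * (g : G)⁻¹ by group, hρ3,
            mul_one, mul_inv_cancel]
        rw [(hmemB.mp (x2 * x1).2).mul_pow, pow_succ ρ 2, pow_two, hρ3, one_mul, pow_succ, pow_two,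
          M.pc_sq hN hcard, one_mul] at h3
        exact M.pc_ne hN hcard h3
    refine hOH g hq ?_
    have hzc : M.Cj S.z ρ := by
      obtain ⟨γ, hγ⟩ := rho_conj
      refine ⟨S.φ γ, M.phi_mem _, ?_⟩
      rw [← S.φ_c3, ← map_inv, ← map_mul, ← map_mul, hγ, hρv]
      exact M.phi_even _ perm_b_facts.2.2.2.2.2.2.2.2.2.2
    exact M.cj_cent hzc (fun _ h => M.cent_z h) _ (mul_inv_eq_iff_eq_mul.mp hfix)
  intro g hg
  refine key ⟨g, hmemB.mpr hg⟩ ?_
  have h := hObot _ (H49.USix.zstar_isolated hπa2 hπa1 hiso (π ⟨g, hmemB.mpr hg⟩))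
  rw [map_mul, map_mul, map_inv]
  exact mul_inv_eq_iff_eq_mul.mpr (mul_inv_eq_iff_eq_mul.mp (mul_inv_eq_one.mp h)).symm

theorem good_c : Good M.H (M.Θ pc) :=
  good_of_class (fun _ h => M.cent_c hN hcard h) fun _ he hc => M.class_of_conj_c hN hcard he hc

theorem cent_d {g : G} (hg : Commute g (M.Θ pd)) : g ∈ M.H := by
  set δ := M.Θ pd with hδ
  set y := M.Θ (m2 aa 1 (by decide)) with hy
  have hy2 : y * y = 1 := M.sq_one hN hcard aa_facts.1 (one_mul _)
  have hycj : M.Cj (M.Θ pc) y := by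
    obtain ⟨γ, hγ, e⟩ : ∃ γ : Perm (Fin 5), Perm.sign γ = 1 ∧ γ * dt * γ⁻¹ = aa := by decide +kernel
    refine ⟨M.Θ (m2 γ 1 (by rw [map_one, hγ])) * S.t, mul_mem (M.mem_theta _) M.t_mem, ?_⟩
    rw [mul_inv_rev, S.t_inv, show ∀ a b : G, a * S.t * b * (S.t * a⁻¹) = a * (S.t * b * S.t) * a⁻¹
      from fun a b => by group, M.tswap, ← map_inv, ← map_mul, ← map_mul, hy]
    exact congrArg M.Θ (m2_ext e (by show (1 : Perm (Fin 5)) * 1 * 1⁻¹ = 1; group))
  have gy : Good M.H y := M.cj_good hycj (M.good_c hN hcard)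
  have hyδ : Commute y δ :=
    M.comm_tt.mpr (m2_ext perm_b_facts.2.1 (by show 1 * dt = dt * 1; rw [one_mul, mul_one]))
  set v := g * y * g⁻¹ with hv
  have hv2 : v * v = 1 := by
    rw [show v * v = g * (y * y) * g⁻¹ by rw [hv]; group, hy2, mul_one, mul_inv_cancel]
  have hcv : IsConj (M.Θ pc) v := (M.cj_isConj hycj).trans (isConj_iff.mpr ⟨g, rfl⟩)
  have hnc : ¬ IsConj v S.τ0 := fun h => M.tau0_nc hN hcard ((hcv.trans h).symm)
  obtain ⟨jp, hj2, hj1, hjv, hjx, hjc, hcase⟩ := pair_central hv2 S.τ0_sq hnc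
  have hδv : Commute δ v := (hg.symm.mul_right hyδ.symm).mul_right hg.symm.inv_right
  have hδx : Commute δ S.τ0 := (M.comm_tau0_reps hN hcard).2.1.symm
  have hδj : Commute δ jp := hjc _ hδv hδx
  by_cases hjd : jp = δ
  · exfalso
    have hyd : M.Cj δ (y * δ) := by
      obtain ⟨γ, hγ, e⟩ : ∃ γ : Perm (Fin 5), Perm.sign γ = 1 ∧ γ * dt * γ⁻¹ = aa * dt := by
        decide +kernel
      refine ⟨M.Θ (m2 γ 1 (by rw [map_one, hγ])), M.mem_theta _, ?_⟩
      rw [hy, hδ, ← map_inv, ← map_mul, ← map_mul, ← map_mul]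
      exact congrArg M.Θ (m2_ext e (by show (1 : Perm (Fin 5)) * dt * 1⁻¹ = 1 * dt; group))
    have hvd : IsConj δ (v * δ) := (M.cj_isConj hyd).trans (isConj_iff.mpr ⟨g, by
      rw [hv, show g * (y * δ) * g⁻¹ = g * y * (δ * g⁻¹) by group, ← hg.inv_left.eq, ← mul_assoc]⟩)
    rw [hjd] at hcase
    rcases hcase with h | h
    · exact M.c_nd hN hcard ((hcv.trans h).trans hvd.symm)
    · exact M.tau0_nd hN hcard (h.trans hvd.symm)
  have hjH : jp ∈ M.H := M.cent_tau0 hN hcard hjx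
  have hmy : Commute (g⁻¹ * jp * g) y := by
    have h := hjv.map (MulAut.conj g⁻¹).toMonoidHom
    simp only [MulEquiv.coe_toMonoidHom, MulAut.conj_apply, inv_inv] at h
    rwa [show g⁻¹ * v * g = y by rw [hv]; group] at h
  have hback : ∀ e ∈ M.H, e * e = 1 → e ≠ 1 → Commute e S.τ0 → Commute (g⁻¹ * e * g) y →
      g ∈ M.H ∨ ∃ p, e = M.Θ p ∧ p.1.1 * tau = tau * p.1.1 ∧ p.1.1 ≠ 1 ∧ Perm.sign p.1.1 = 1 ∧
        p.1.1 * p.1.1 = 1 := by
    intro e he h2 h1 hτ hy'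
    have hm : g⁻¹ * e * g ∈ M.H := gy.1 _ hy'
    have hG : Good M.H e → g ∈ M.H := fun h => inv_mem_iff.mp (h.2 g⁻¹ (by rwa [inv_inv]))
    rcases M.classes he h2 h1 with h | h | h | ⟨h, -⟩
    · exact Or.inl (hG (M.cj_good h (M.good_tau0 hN hcard)))
    · exact Or.inl (hG (M.cj_good h (M.good_c hN hcard)))
    · right
      obtain ⟨p, rfl, hp1, hps⟩ := M.shape_d h
      rw [M.tau0_eq, M.comm_tt] at hτ
      rw [← map_mul, ← map_one M.Θ] at h2
      exact ⟨p, rfl, congrArg (fun q : M2 => q.1.1) hτ, hp1, hps,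
        congrArg (fun q : M2 => q.1.1) (M.inj h2)⟩
    · exfalso
      have hconj : IsConj e (g⁻¹ * e * g) := isConj_iff.mpr ⟨g⁻¹, by rw [inv_inv]⟩
      have hm2 : (g⁻¹ * e * g) * (g⁻¹ * e * g) = 1 := by
        rw [show (g⁻¹ * e * g) * (g⁻¹ * e * g) = g⁻¹ * (e * e) * g by group, h2, mul_one,
          inv_mul_cancel]
      have hm1 : g⁻¹ * e * g ≠ 1 := fun k => h1 (by
        have := congrArg (fun x => g * x * g⁻¹) k
        simpa [mul_assoc] using this)
      rcases M.classes hm hm2 hm1 with k | k | k | ⟨-, p, hp⟩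
      · rcases h with h | h
        · exact M.tau0_nt hN hcard (((M.cj_isConj k).trans hconj.symm).trans (M.cj_isConj h).symm)
        · exact M.tau0_nu hN hcard (((M.cj_isConj k).trans hconj.symm).trans (M.cj_isConj h).symm)
      · rcases h with h | h
        · exact (M.c_nt hN hcard).1 (((M.cj_isConj k).trans hconj.symm).trans (M.cj_isConj h).symm)
        · exact (M.c_nt hN hcard).2 (((M.cj_isConj k).trans hconj.symm).trans (M.cj_isConj h).symm)
      · rcases h with h | h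
        · exact (M.d_nt hN hcard).1 (((M.cj_isConj k).trans hconj.symm).trans (M.cj_isConj h).symm)
        · exact (M.d_nt hN hcard).2 (((M.cj_isConj k).trans hconj.symm).trans (M.cj_isConj h).symm)
      · rw [hp, hy, M.comm_st] at hy'
        have h' : p.1.2 * aa = 1 * p.1.2 := congrArg (fun q : M2 => q.1.2) hy'
        rw [one_mul] at h'
        exact perm_b_facts.2.2.2.2.2.1 (mul_eq_left.mp h')
  have hjd2 : jp * δ * (jp * δ) = 1 := by
    rw [show jp * δ * (jp * δ) = jp * (δ * jp) * δ by group, hδj.eq,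
      show jp * (jp * δ) * δ = (jp * jp) * (δ * δ) by group, hj2, M.pd_sq hN hcard, one_mul]
  have hjd1 : jp * δ ≠ 1 := fun h => hjd (by
    rw [eq_inv_of_mul_eq_one_left h, inv_eq_of_mul_eq_one_right (M.pd_sq hN hcard)])
  have hmy2 : Commute (g⁻¹ * (jp * δ) * g) y := by
    rw [show g⁻¹ * (jp * δ) * g = (g⁻¹ * jp * g) * (g⁻¹ * δ * g) by group,
      show g⁻¹ * δ * g = δ by rw [mul_assoc, ← hg.eq, inv_mul_cancel_left]]
    exact hmy.mul_left hyδ.symm
  rcases hback jp hjH hj2 hj1 hjx hmy with h | ⟨p, rfl, hpτ, hp1, hps, hpp⟩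
  · exact h
  rcases hback _ (mul_mem hjH (M.mem_theta _)) hjd2 hjd1 (hjx.mul_left hδx) hmy2 with
    h | ⟨p', hp', -, hp1', -, hpp'⟩
  · exact h
  exfalso
  rw [← map_mul] at hp'
  have he : p.1.1 * dt = p'.1.1 := congrArg (fun q : M2 => q.1.1) (M.inj hp')
  have := tau_dt_unique _ hpp hp1 hps hpτ (he ▸ hpp')
  rw [this, perm_b_facts.2.2.2.1] at he
  exact hp1' he.symm

theorem good_d : Good M.H (M.Θ pd) :=
  good_of_class (fun _ h => M.cent_d hN hcard h) fun _ he hc => M.class_of_conj_d hN hcard he hc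

theorem cent_s {b : G} (hb : b = S.t ∨ b = S.τ0 * S.t) {g : G} (hg : Commute g b) : g ∈ M.H := by
  obtain ⟨-, -, hτt, hτu⟩ := M.comm_tau0_reps hN hcard
  have hbH : b ∈ M.H := by
    rcases hb with rfl | rfl
    · exact M.t_mem
    · exact mul_mem (by rw [M.tau0_eq]; exact M.mem_theta _) M.t_mem
  have hbδ : Commute b (M.Θ pd) := by
    have h : Commute S.t (M.Θ pd) := M.t_mul pd
    rcases hb with rfl | rfl
    · exact h
    · exact (M.comm_tau0_reps hN hcard).2.1.mul_left h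
  have hbτ : Commute b S.τ0 := by
    rcases hb with rfl | rfl
    exacts [hτt.symm, hτu.symm]
  have hb2 : b * b = 1 := by
    rcases hb with rfl | rfl
    · exact S.t2
    · rw [show S.τ0 * S.t * (S.τ0 * S.t) = S.τ0 * (S.t * S.τ0) * S.t by group, ← hτt.eq,
        show S.τ0 * (S.τ0 * S.t) * S.t = (S.τ0 * S.τ0) * (S.t * S.t) by group, S.τ0_sq, S.t2,
        one_mul]
  set v := g * M.Θ pd * g⁻¹ with hv
  have hv2 : v * v = 1 := by
    rw [show v * v = g * (M.Θ pd * M.Θ pd) * g⁻¹ by rw [hv]; group, M.pd_sq hN hcard, mul_one,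
      mul_inv_cancel]
  have hdv : IsConj (M.Θ pd) v := isConj_iff.mpr ⟨g, rfl⟩
  have hnc : ¬ IsConj S.τ0 v := fun h => M.tau0_nd hN hcard (h.trans hdv.symm)
  obtain ⟨jp, hj2, hj1, hjx, hjv, hjc, hcase⟩ := pair_central S.τ0_sq hv2 hnc
  have hbj : Commute b jp :=
    hjc _ hbτ ((hg.symm.mul_right hbδ).mul_right hg.symm.inv_right)
  by_cases hjb : jp = b
  · exfalso
    have hxb : S.τ0 * jp = S.t ∨ S.τ0 * jp = S.τ0 * S.t := by
      rcases hb with e | e
      · exact Or.inr (by rw [hjb, e])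
      · exact Or.inl (by rw [hjb, e, ← mul_assoc, S.τ0_sq, one_mul])
    rcases hcase with h | h <;> rcases hxb with e | e <;> rw [e] at h
    exacts [M.tau0_nt hN hcard h, M.tau0_nu hN hcard h, (M.d_nt hN hcard).1 (hdv.trans h),
      (M.d_nt hN hcard).2 (hdv.trans h)]
  have hjH : jp ∈ M.H := M.cent_tau0 hN hcard hjx
  have hm : g⁻¹ * jp * g ∈ M.H := by
    refine M.cent_d hN hcard ?_
    have h := hjv.map (MulAut.conj g⁻¹).toMonoidHom
    simp only [MulEquiv.coe_toMonoidHom, MulAut.conj_apply, inv_inv] at h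
    rwa [show g⁻¹ * v * g = M.Θ pd by rw [hv]; group] at h
  have hback : ∀ e ∈ M.H, e * e = 1 → e ≠ 1 → g⁻¹ * e * g ∈ M.H →
      g ∈ M.H ∨ ∃ p, e = M.Θ p * S.t := by
    intro e he h2 h1 hm'
    have hG : Good M.H e → g ∈ M.H := fun h => inv_mem_iff.mp (h.2 g⁻¹ (by rwa [inv_inv]))
    rcases M.classes he h2 h1 with h | h | h | ⟨-, h⟩
    · exact Or.inl (hG (M.cj_good h (M.good_tau0 hN hcard)))
    · exact Or.inl (hG (M.cj_good h (M.good_c hN hcard)))
    · exact Or.inl (hG (M.cj_good h (M.good_d hN hcard)))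
    · exact Or.inr h
  have hjb2 : jp * b * (jp * b) = 1 := by
    rw [show jp * b * (jp * b) = jp * (b * jp) * b by group, hbj.eq,
      show jp * (jp * b) * b = (jp * jp) * (b * b) by group, hj2, hb2, one_mul]
  have hjb1 : jp * b ≠ 1 := fun h => hjb (by
    rw [eq_inv_of_mul_eq_one_left h, inv_eq_of_mul_eq_one_right hb2])
  have hm2 : g⁻¹ * (jp * b) * g ∈ M.H := by
    rw [show g⁻¹ * (jp * b) * g = (g⁻¹ * jp * g) * (g⁻¹ * b * g) by group,
      show g⁻¹ * b * g = b by rw [mul_assoc, ← hg.eq, inv_mul_cancel_left]]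
    exact mul_mem hm hbH
  rcases hback jp hjH hj2 hj1 hm with h | ⟨p, rfl⟩
  · exact h
  rcases hback _ (mul_mem hjH hbH) hjb2 hjb1 hm2 with h | ⟨p', hp'⟩
  · exact h
  exfalso
  rcases hb with rfl | rfl
  · rw [mul_assoc, S.t2, mul_one] at hp'
    refine M.ne_t (p'⁻¹ * p) ?_
    rw [map_mul, map_inv, hp', inv_mul_cancel_left]
  · rw [← mul_assoc, mul_assoc (M.Θ p), hτt.symm.eq, ← mul_assoc, mul_assoc _ S.t S.t, S.t2, mul_one,
      M.tau0_eq, ← map_mul] at hp'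
    refine M.ne_t (p'⁻¹ * (p * pt)) ?_
    rw [map_mul, map_inv, hp', inv_mul_cancel_left]

theorem H_eq_top : M.H = ⊤ := by
  refine eq_top_of_good S.τ0_sq (M.pc_sq hN hcard) (M.good_tau0 hN hcard) (M.good_c hN hcard)
    (M.tau0_nc hN hcard) fun j hj h2 h1 => ?_
  rcases M.classes hj h2 h1 with h | h | h | ⟨h | h, -⟩
  · exact M.cj_cent h fun _ k => M.cent_tau0 hN hcard k
  · exact M.cj_cent h fun _ k => M.cent_c hN hcard k
  · exact M.cj_cent h fun _ k => M.cent_d hN hcard k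
  · exact M.cj_cent h fun _ k => M.cent_s hN hcard (Or.inl rfl) k
  · exact M.cj_cent h fun _ k => M.cent_s hN hcard (Or.inr rfl) k

end Centralisers

end ModB

end Cfsg.Agent.H86.SymEight
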