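import Mathlib

/-!
Finite facts about the symmetric groups of degree three and five.
-/

set_option autoImplicit false
set_option synthInstance.maxSize 4000
set_option maxHeartbeats 800000

namespace Cfsg.Agent.H86.SymEight

open Equiv

/-- The three-cycle `(0 1 2)`. -/
def c3 : Perm (Fin 5) := swap 0 1 * swap 1 2

/-- The transposition `(3 4)`. -/
def tau : Perm (Fin 5) := swap 3 4

/-- The transposition `(1 2)`. -/
def uu : Perm (Fin 5) := swap 1 2

/-- The five-cycle. -/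
def c5 : Perm (Fin 5) := swap 0 1 * swap 1 2 * swap 2 3 * swap 3 4

theorem c3_cube : c3 * c3 * c3 = 1 := by decide

theorem c3_ne : c3 ≠ 1 := by decide

theorem tau_sq : tau * tau = 1 := by decide

theorem tau_ne : tau ≠ 1 := by decide

theorem uu_sq : uu * uu = 1 := by decide

theorem c5_pow : c5 ^ 5 = 1 := by decide

theorem c5_ne : c5 ≠ 1 := by decide

theorem tau_c3 : tau * c3 = c3 * tau := by decide

theorem uu_tau : uu * tau = tau * uu := by decide

theorem uu_c3 : uu * c3 * uu = c3⁻¹ := by decide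

/-- An element of order three of `Perm (Fin 5)` generates no normal subgroup. -/
theorem normal_three_trivial : ∀ b : Perm (Fin 5), b * b * b = 1 →
    (c5 * b * c5⁻¹ = b ∨ c5 * b * c5⁻¹ = b⁻¹) →
    (swap 0 1 * b * (swap 0 1)⁻¹ = b ∨ swap 0 1 * b * (swap 0 1)⁻¹ = b⁻¹) → b = 1 := by
  decide +kernel

/-- Elements of order three are conjugate. -/
theorem conj_c3 : ∀ b : Perm (Fin 5), b * b * b = 1 → b ≠ 1 → ∃ g, g * c3 * g⁻¹ = b := by
  decide +kernel

/-- The centraliser of an element of order three in `Perm (Fin 3)`. -/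
theorem cent_three : ∀ a x : Perm (Fin 3), a * a * a = 1 → a ≠ 1 → x * a * x⁻¹ = a →
    x = 1 ∨ x = a ∨ x = a * a := by
  decide +kernel

/-- An inverting involution in `Perm (Fin 3)`. -/
theorem inv_three : ∀ a : Perm (Fin 3), a * a * a = 1 → a ≠ 1 →
    ∃ x, x ≠ 1 ∧ x * x = 1 ∧ x * a * x = a⁻¹ ∧
      ∀ g, g * a * g⁻¹ = a⁻¹ → g = x ∨ g = a * x ∨ g = a * a * x := by
  decide +kernel

/-- The centraliser of `c3`. -/
theorem cent_c3 : ∀ σ : Perm (Fin 5), σ * c3 * σ⁻¹ = c3 →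
    ∃ i : Fin 3, ∃ j : Fin 2, σ = c3 ^ (i : ℕ) * tau ^ (j : ℕ) := by
  decide +kernel

/-- Elements normalising the subgroup of `c3` invert or centralise it. -/
theorem norm_c3 : ∀ σ : Perm (Fin 5), (σ * c3 * σ⁻¹ = c3 ∨ σ * c3 * σ⁻¹ = c3⁻¹) →
    ∃ i : Fin 3, ∃ j : Fin 2, ∃ k : Fin 2,
      σ = c3 ^ (i : ℕ) * uu ^ (k : ℕ) * tau ^ (j : ℕ) := by
  decide +kernel

/-- Normal form of an inverting involution. -/
theorem twist_choice : ∀ σ : Perm (Fin 5), σ * σ = 1 → σ * c3 * σ = c3⁻¹ →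
    σ * tau = tau * σ →
    ∃ k : Fin 3, c3 ^ (k : ℕ) * σ * (c3 ^ (k : ℕ))⁻¹ = uu ∨
      c3 ^ (k : ℕ) * σ * (c3 ^ (k : ℕ))⁻¹ = uu * tau := by
  decide +kernel

/-- The involution of the centraliser of `c3`. -/
theorem tau_unique : ∀ i : Fin 3, ∀ j : Fin 2,
    (c3 ^ (i : ℕ) * tau ^ (j : ℕ)) * (c3 ^ (i : ℕ) * tau ^ (j : ℕ)) = 1 → i = 0 := by
  decide +kernel

end Cfsg.Agent.H86.SymEight
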