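import Cfsg.Agent.H86.SymEight.CentV

/-!
Images in the component of the centraliser of `r`.
-/

set_option autoImplicit false
set_option synthInstance.maxSize 4000
set_option maxHeartbeats 800000

namespace Cfsg.Agent.H86.SymEight

open Equiv

theorem perm_six_inv : ∀ k : ℕ, k = 1 ∨ k = 2 ∨ k = 3 →
    ∀ σ : Perm (Fin 6), σ.cycleType = Multiset.replicate k 2 → ∀ ρ : Perm (Fin 6),
      σ * ρ = ρ * σ → ρ * ρ * ρ = 1 → ρ ≠ 1 →
      Nat.card (Subgroup.centralizer ({σ} : Set (Perm (Fin 6)))) = 48 := by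
  classical
  have reps : ∀ τ : Perm (Fin 6), τ = swap 0 1 ∨ τ = swap 0 1 * swap 2 3 * swap 4 5 →
      (Finset.univ.filter fun g : Perm (Fin 6) => g * τ = τ * g).card = 48 := by
    rintro τ (rfl | rfl) <;> decide +kernel
  have two : ∀ ρ : Perm (Fin 6), (swap 0 1 * swap 2 3) * ρ = ρ * (swap 0 1 * swap 2 3) →
      ρ * ρ * ρ = 1 → ρ = 1 := by
    decide +kernel
  intro k hk σ hσ ρ hc hρ hρ1
  obtain ⟨τ, hτ, hτk⟩ : ∃ τ : Perm (Fin 6), τ.cycleType = Multiset.replicate k 2 ∧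
      ((k = 2 → τ = swap 0 1 * swap 2 3) ∧
        (k ≠ 2 → τ = swap 0 1 ∨ τ = swap 0 1 * swap 2 3 * swap 4 5)) := by
    have h1 : (swap (0 : Fin 6) 1).cycleType = {2} :=
      (Perm.isCycle_swap (by decide)).cycleType.trans (by rw [Perm.card_support_swap (by decide)])
    have h2 : (swap (2 : Fin 6) 3).cycleType = {2} :=
      (Perm.isCycle_swap (by decide)).cycleType.trans (by rw [Perm.card_support_swap (by decide)])
    have h3 : (swap (4 : Fin 6) 5).cycleType = {2} :=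
      (Perm.isCycle_swap (by decide)).cycleType.trans (by rw [Perm.card_support_swap (by decide)])
    have d12 : (swap (0 : Fin 6) 1).Disjoint (swap 2 3) := by
      intro x; revert x; decide
    have d123 : (swap (0 : Fin 6) 1 * swap 2 3).Disjoint (swap 4 5) := by
      intro x; revert x; decide
    rcases hk with rfl | rfl | rfl
    · exact ⟨swap 0 1, by rw [h1]; rfl, by omega, fun _ => Or.inl rfl⟩
    · exact ⟨swap 0 1 * swap 2 3, by rw [d12.cycleType_mul, h1, h2]; rfl, fun _ => rfl, by omega⟩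
    · exact ⟨swap 0 1 * swap 2 3 * swap 4 5, by
        rw [d123.cycleType_mul, d12.cycleType_mul, h1, h2, h3]; rfl, by omega, fun _ => Or.inr rfl⟩
  obtain ⟨g, rfl⟩ := isConj_iff.mp (Perm.isConj_iff_cycleType_eq.mpr (hτ.trans hσ.symm))
  by_cases hk2 : k = 2
  · exfalso
    apply hρ1
    have h := two (g⁻¹ * ρ * g) (by
      rw [← hτk.1 hk2]
      calc τ * (g⁻¹ * ρ * g) = g⁻¹ * (g * τ * g⁻¹ * ρ) * g := by group
        _ = g⁻¹ * (ρ * (g * τ * g⁻¹)) * g := by rw [hc]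
        _ = _ := by group) (by
      calc g⁻¹ * ρ * g * (g⁻¹ * ρ * g) * (g⁻¹ * ρ * g) = g⁻¹ * (ρ * ρ * ρ) * g := by group
        _ = 1 := by rw [hρ, mul_one, inv_mul_cancel])
    calc ρ = g * (g⁻¹ * ρ * g) * g⁻¹ := by group
      _ = 1 := by rw [h, mul_one, mul_inv_cancel]
  · rw [card_cent_conj g τ, ← reps τ (hτk.2 hk2), Nat.card_eq_fintype_card]
    rw [← Fintype.card_coe]
    refine Fintype.card_congr (Equiv.subtypeEquivRight fun x => ?_)
    rw [Subgroup.mem_centralizer_singleton_iff, Finset.mem_filter]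
    simp

/-- An involution of `Perm (Fin 6)` commuting with an element of order three has centraliser of
order 48. -/
theorem perm_six_card (σ : Perm (Fin 6)) (hσ : σ * σ = 1) (hσ1 : σ ≠ 1) (ρ : Perm (Fin 6))
    (hc : σ * ρ = ρ * σ) (hρ : ρ * ρ * ρ = 1) (hρ1 : ρ ≠ 1) :
    Nat.card (Subgroup.centralizer ({σ} : Set (Perm (Fin 6)))) = 48 := by
  classical
  have ho : orderOf σ = 2 := orderOf_eq_prime (by rw [pow_two, hσ]) hσ1
  obtain ⟨n, hn⟩ := Perm.cycleType_prime_order (σ := σ) (by rw [ho]; exact Nat.prime_two)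
  rw [ho] at hn
  have hsum := Perm.sum_cycleType σ
  rw [hn, Multiset.sum_replicate] at hsum
  have hle : σ.support.card ≤ 6 := by
    have := σ.support.card_le_univ
    simpa using this
  simp only [smul_eq_mul] at hsum
  exact perm_six_inv (n + 1) (by omega) σ hn ρ hc hρ hρ1

theorem cent_tau : ∀ σ : Perm (Fin 5), σ * tau = tau * σ →
    σ * c3 * σ⁻¹ = c3 ∨ σ * c3 * σ⁻¹ = c3⁻¹ := by
  decide +kernel

theorem cent_uu_tau : ∀ σ : Perm (Fin 5), σ * uu = uu * σ → σ * tau = tau * σ →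
    σ = 1 ∨ σ = uu ∨ σ = tau ∨ σ = uu * tau := by
  decide +kernel

theorem klein_not_B : ∀ a : Perm (Fin 5), a ≠ 1 → a * a = 1 → c3 * a * c3⁻¹ ≠ a →
    a * (c3 * a * c3⁻¹) = (c3 * a * c3⁻¹) * a →
    ((uu * tau) * a * (uu * tau) = a ∨ (uu * tau) * a * (uu * tau) = c3 * a * c3⁻¹ ∨
      (uu * tau) * a * (uu * tau) = c3 * (c3 * a * c3⁻¹) * c3⁻¹) → False := by
  decide +kernel

theorem klein_x : ∀ a : Perm (Fin 5), a ≠ 1 → a * a = 1 → c3 * a * c3⁻¹ ≠ a →
    a * (c3 * a * c3⁻¹) = (c3 * a * c3⁻¹) * a →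
    (uu * a * uu = a ∨ uu * a * uu = c3 * a * c3⁻¹ ∨
      uu * a * uu = c3 * (c3 * a * c3⁻¹) * c3⁻¹) →
    ∃ j : Fin 3, ∀ n, n = c3 ^ (j : ℕ) * a * (c3 ^ (j : ℕ))⁻¹ →
      (n * c3⁻¹ * n ≠ 1 ∧ c3 * (n * c3⁻¹ * n) ≠ 1) ∧ (n * c3⁻¹ * n) * (n * c3⁻¹ * n) * (n * c3⁻¹ * n) = 1 ∧
      uu * (n * c3⁻¹ * n) * uu = (n * c3⁻¹ * n)⁻¹ ∧
      (c3 * (n * c3⁻¹ * n)) * (c3 * (n * c3⁻¹ * n)) = 1 := by
  decide +kernel

namespace Setting

variable {G : Type*} [Group G] (S : Setting G)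

theorem exists_pr (g : Subgroup.centralizer ({S.r} : Set G)) :
    ∃ σ, ∃ i : Fin 3, (g : G) = S.r ^ (i : ℕ) * S.φ σ := by
  obtain ⟨i, σ, h⟩ := S.cr g (Subgroup.mem_centralizer_singleton_iff.mp g.2)
  exact ⟨σ, i, h⟩

/-- The projection of the centraliser of `r` onto its component. -/
noncomputable def pr : Subgroup.centralizer ({S.r} : Set G) →* Perm (Fin 5) :=
  MonoidHom.mk' (fun g => (S.exists_pr g).choose) fun a b => by
    obtain ⟨i, hi⟩ := (S.exists_pr a).choose_spec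
    obtain ⟨j, hj⟩ := (S.exists_pr b).choose_spec
    obtain ⟨k, hk⟩ := (S.exists_pr (a * b)).choose_spec
    refine (S.sep_r (i := k) (j := ⟨((i : ℕ) + j) % 3, Nat.mod_lt _ three_pos⟩) ?_).2
    refine hk.symm.trans ?_
    refine (Subgroup.coe_mul _ a b).trans ((congr_arg₂ (· * ·) hi hj).trans ?_)
    rw [← pow_eq_pow_mod _ S.r_pow3, pow_add, map_mul]
    simp only [mul_assoc]
    congr 1
    rw [← mul_assoc, ← ((S.r_φ _).pow_left (j : ℕ)).eq, mul_assoc]

theorem pr_eq {g : G} (hg : g ∈ Subgroup.centralizer ({S.r} : Set G)) {i : Fin 3}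
    {σ : Perm (Fin 5)} (h : g = S.r ^ (i : ℕ) * S.φ σ) : S.pr ⟨g, hg⟩ = σ := by
  obtain ⟨j, hj⟩ := (S.exists_pr ⟨g, hg⟩).choose_spec
  exact (S.sep_r (hj.symm.trans h)).2

theorem X_mem_cr {g : G} (hg : g ∈ S.X 4) : g ∈ Subgroup.centralizer ({S.r} : Set G) :=
  Subgroup.mem_centralizer_singleton_iff.mpr (S.X_four_le_cr hg).eq

/-- The projection restricted to the centraliser of the alternating group. -/
noncomputable def prX : S.X 4 →* Perm (Fin 5) :=
  S.pr.comp (Subgroup.inclusion fun _ hg => S.X_mem_cr hg)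

theorem prX_spec (g : S.X 4) : ∃ i : Fin 3, (g : G) = S.r ^ (i : ℕ) * S.φ (S.prX g) :=
  (S.exists_pr ⟨g, S.X_mem_cr g.2⟩).choose_spec

theorem prX_inj : Function.Injective S.prX := by
  rw [injective_iff_map_eq_one]
  intro g hg
  obtain ⟨i, hi⟩ := S.prX_spec g
  rw [hg, map_one, mul_one] at hi
  have h := S.mem_X.mp g.2 va va_facts.2.2.2.1 va_facts.2.2.2.2.2.1
  rw [hi, r, ← map_pow] at h
  have h' : c3 ^ (i : ℕ) * va = va * c3 ^ (i : ℕ) := S.inj (by simpa [map_mul] using h.eq)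
  obtain rfl := pow_c3_comm i h'
  exact Subtype.ext (by rw [hi]; simp)

/-- The element `z` inside the centraliser of the alternating group. -/
def zX : S.X 4 := ⟨S.z, S.z_mem_X 4⟩

/-- The element `w` inside the centraliser of the alternating group. -/
def wX : S.X 4 := ⟨S.w, S.w_mem_X 4⟩

theorem prX_z : S.prX S.zX = c3 :=
  S.pr_eq _ (i := 0) (by simp [φ_c3, zX])

theorem prX_w {σ : Perm (Fin 5)} (h : S.w = S.φ σ) : S.prX S.wX = σ :=
  S.pr_eq _ (i := 0) (by simp [h, wX])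

end Setting

end Cfsg.Agent.H86.SymEight
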