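import Cfsg.Agent.H86.SymEight.TypeB

/-!
The model of the second type.
-/

set_option autoImplicit false
set_option synthInstance.maxSize 4000
set_option linter.style.haveILetI false

namespace Cfsg.Agent.H86.SymEight

open Equiv

/-- Pairs of permutations with the same sign. -/
def M2 : Subgroup (Perm (Fin 5) × Perm (Fin 5)) where
  carrier := {p | Perm.sign p.1 = Perm.sign p.2}
  one_mem' := by simp
  mul_mem' := fun {a b} ha hb => by
    simp only [Set.mem_ofPred_eq] at ha hb ⊢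
    simp [ha, hb]
  inv_mem' := fun {a} ha => by
    simp only [Set.mem_ofPred_eq] at ha ⊢
    simp [ha]

theorem mem_M2 {p : Perm (Fin 5) × Perm (Fin 5)} : p ∈ M2 ↔ Perm.sign p.1 = Perm.sign p.2 :=
  Iff.rfl

/-- Exchange of the two factors. -/
def sw : M2 →* M2 where
  toFun p := ⟨(p.1.2, p.1.1), p.2.symm⟩
  map_one' := rfl
  map_mul' _ _ := rfl

theorem sw_sw (p : M2) : sw (sw p) = p := rfl

/-- The sign representative. -/
def sg (σ : Perm (Fin 5)) : Perm (Fin 5) := if Perm.sign σ = 1 then 1 else tau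

theorem sign_tau : Perm.sign tau = -1 := by decide

theorem sign_sg (σ : Perm (Fin 5)) : Perm.sign (sg σ) = Perm.sign σ := by
  rcases Int.units_eq_one_or (Perm.sign σ) with h | h
  · simp [sg, h]
  · simp [sg, h, sign_tau]

theorem sg_mul_self (σ : Perm (Fin 5)) : sg σ * sg σ = 1 := by
  rcases Int.units_eq_one_or (Perm.sign σ) with h | h
  · simp [sg, h]
  · simp [sg, h, tau_sq]

theorem sg_mul (σ ρ : Perm (Fin 5)) : sg (σ * ρ) = sg σ * sg ρ := by
  rcases Int.units_eq_one_or (Perm.sign σ) with h | h <;>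
    rcases Int.units_eq_one_or (Perm.sign ρ) with h' | h' <;>
    simp [sg, h, h', tau_sq]

theorem sg_sg (σ : Perm (Fin 5)) : sg (sg σ) = sg σ := by
  unfold sg
  rcases Int.units_eq_one_or (Perm.sign σ) with h | h
  · simp [h]
  · simp [h, sign_tau]

theorem sg_eq_of_sign {σ ρ : Perm (Fin 5)} (h : Perm.sign σ = Perm.sign ρ) : sg σ = sg ρ := by
  unfold sg
  rw [h]

namespace Setting

variable {G : Type*} [Group G] (S : Setting G)
  (hcomm : ∀ α β : Perm (Fin 5), Perm.sign α = 1 → Perm.sign β = 1 → Commute (S.φ α) (S.ψ β))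

include hcomm

theorem exists_theta :
    ∃ Θ : M2 →* G, Function.Injective Θ ∧ (∀ p, S.t * Θ p * S.t = Θ (sw p)) ∧
      (∀ σ (h : (sg σ, σ) ∈ M2), S.ψ σ = Θ ⟨(sg σ, σ), h⟩) ∧
      (∀ σ (h : (σ, sg σ) ∈ M2), S.φ σ = Θ ⟨(σ, sg σ), h⟩) ∧
      ∀ p, Θ p ≠ S.t := by
  have hsgτ : ∀ σ, S.φ (sg σ) = S.ψ (sg σ) := by
    intro σ
    rcases Int.units_eq_one_or (Perm.sign σ) with h | h <;> simp [sg, h, S.φ_tau, τ0]
  have hev : ∀ σ, Perm.sign (σ * sg σ) = 1 := fun σ => by
    rw [Perm.sign_mul, sign_sg, Int.units_mul_self]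
  let T : M2 → G := fun p => S.φ (p.1.1 * sg p.1.1) * S.ψ p.1.2
  have hmul : ∀ p q : M2, T (p * q) = T p * T q := by
    intro p q
    set α1 := p.1.1
    set β1 := p.1.2
    set α2 := q.1.1
    set β2 := q.1.2
    have hp : sg β1 = sg α1 := sg_eq_of_sign p.2.symm
    show S.φ (α1 * α2 * sg (α1 * α2)) * S.ψ (β1 * β2) =
      S.φ (α1 * sg α1) * S.ψ β1 * (S.φ (α2 * sg α2) * S.ψ β2)
    set s := sg α1 with hs
    have hss : s * s = 1 := sg_mul_self α1
    have e1 : S.ψ β1 = S.ψ (β1 * s) * S.φ s := by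
      rw [hsgτ, ← map_mul, mul_assoc, hss, mul_one]
    have hβ : Perm.sign (β1 * s) = 1 := by rw [← hp]; exact hev β1
    have hmid : Commute (S.ψ (β1 * s)) (S.φ (s * (α2 * sg α2) * s)) := by
      refine (hcomm _ _ ?_ hβ).symm
      have := Int.units_mul_self (Perm.sign s)
      rw [Perm.sign_mul, Perm.sign_mul, hev, mul_one, this]
    calc S.φ (α1 * α2 * sg (α1 * α2)) * S.ψ (β1 * β2)
        = S.φ (α1 * sg α1) * S.φ (s * (α2 * sg α2) * s) * (S.ψ (β1 * s) * S.φ s) * S.ψ β2 := by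
          rw [← e1, map_mul S.ψ, ← mul_assoc, ← map_mul]
          congr 3
          rw [sg_mul, ← hs, show α1 * s * (s * (α2 * sg α2) * s) = α1 * (s * s) * α2 * sg α2 * s by
            group, hss, mul_one]
          rcases Int.units_eq_one_or (Perm.sign α1) with h | h <;>
            rcases Int.units_eq_one_or (Perm.sign α2) with h' | h' <;>
            simp [hs, sg, h, h', mul_assoc, tau_sq]
      _ = S.φ (α1 * sg α1) * (S.φ (s * (α2 * sg α2) * s) * S.ψ (β1 * s)) * S.φ s * S.ψ β2 := by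
          group
      _ = S.φ (α1 * sg α1) * S.ψ (β1 * s) * (S.φ (s * (α2 * sg α2) * s) * S.φ s) * S.ψ β2 := by
          rw [← hmid.eq]; group
      _ = S.φ (α1 * sg α1) * S.ψ (β1 * s) * (S.φ s * S.φ (α2 * sg α2)) * S.ψ β2 := by
          congr 2
          rw [← map_mul, ← map_mul]
          congr 1
          rw [mul_assoc _ s s, hss, mul_one]
      _ = _ := by rw [e1, ← hs]; group
  have hψ : ∀ σ (h : (sg σ, σ) ∈ M2), S.ψ σ = T ⟨(sg σ, σ), h⟩ := fun σ h => by
    show S.ψ σ = S.φ (sg σ * sg (sg σ)) * S.ψ σ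
    rw [sg_sg, sg_mul_self, map_one, one_mul]
  have hφ : ∀ σ (h : (σ, sg σ) ∈ M2), S.φ σ = T ⟨(σ, sg σ), h⟩ := fun σ h => by
    show S.φ σ = S.φ (σ * sg σ) * S.ψ (sg σ)
    rw [← hsgτ, ← map_mul, mul_assoc, sg_mul_self, mul_one]
  have hswap : ∀ p : M2, S.t * T p * S.t = T (sw p) := by
    intro p
    set α := p.1.1
    set β := p.1.2
    have hp : sg β = sg α := sg_eq_of_sign p.2.symm
    show S.t * (S.φ (α * sg α) * S.ψ β) * S.t = S.φ (β * sg β) * S.ψ α
    rw [S.t_conj_mul, ← S.φ_apply, S.φ_apply (α * sg α), S.tt_conj, hp]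
    have e1 : S.φ β = S.φ (β * sg α) * S.ψ (sg α) := by
      rw [← hsgτ, ← map_mul, mul_assoc, sg_mul_self, mul_one]
    have hc : Commute (S.φ (β * sg α)) (S.ψ (α * sg α)) :=
      hcomm _ _ (by rw [← hp]; exact hev β) (hev α)
    rw [e1, ← mul_assoc, ← hc.eq, mul_assoc, ← map_mul, mul_assoc, sg_mul_self, mul_one]
  let Θ : M2 →* G := MonoidHom.mk' T hmul
  have hinj : Function.Injective Θ := by
    rw [injective_iff_map_eq_one]
    intro p hp
    set α := p.1.1
    set β := p.1.2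
    have h : S.φ (α * sg α) * S.ψ β = 1 := hp
    have hβ : β = 1 := by
      have hc : ∀ γ, Perm.sign γ = 1 → β * γ = γ * β := by
        intro γ hγ
        have h1 : Commute (S.ψ β)⁻¹ (S.ψ γ) := by
          rw [← eq_inv_of_mul_eq_one_left h]
          exact hcomm _ _ (hev α) hγ
        have h2 := h1.inv_left
        rw [inv_inv] at h2
        exact S.inj (by rw [map_mul, map_mul]; exact h2.eq)
      exact cent_alt β (hc c3 d3_facts.2.2.2.2.2.2.1) (hc d3 d3_facts.2.2.2.2.2.2.2.1)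
    rw [hβ, map_one, mul_one, ← map_one S.φ] at h
    have hα := S.φ_inj h
    have hsα : Perm.sign α = 1 := by
      have := p.2
      change Perm.sign α = Perm.sign β at this
      rw [this, hβ, map_one]
    have hα1 : α = 1 := by
      have e : sg α = 1 := by simp [sg, hsα]
      rwa [e, mul_one] at hα
    exact Subtype.ext (Prod.ext hα1 hβ)
  refine ⟨Θ, hinj, hswap, hψ, hφ, fun p h => ?_⟩
  have hr : S.r = Θ ⟨(1, c3), by rw [mem_M2]; simp [d3_facts.2.2.2.2.2.2.1]⟩ := by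
    show S.ψ c3 = S.φ (1 * sg 1) * S.ψ c3
    simp [sg]
  have hz : S.z = Θ ⟨(c3, 1), by rw [mem_M2]; simp [d3_facts.2.2.2.2.2.2.1]⟩ := by
    show S.z = S.φ (c3 * sg c3) * S.ψ 1
    simp [sg, d3_facts.2.2.2.2.2.2.1, S.φ_c3]
  have h2 : Θ p * S.z * (Θ p)⁻¹ = S.r := by
    rw [h, S.t_inv]; exact S.tz
  rw [hz, hr, ← map_inv, ← map_mul, ← map_mul] at h2
  have h3 := congrArg (fun q : M2 => q.1.2) (hinj h2)
  simp at h3
  exact c3_ne h3.symm

end Setting

section Counts

theorem inv_classes : ∀ α : Perm (Fin 5), α * α = 1 → α ≠ 1 →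
    (Perm.sign α = -1 ∧ ∃ γ, Perm.sign γ = 1 ∧ γ * tau * γ⁻¹ = α) ∨
    (Perm.sign α = 1 ∧ ∃ γ, Perm.sign γ = 1 ∧ γ * (uu * tau) * γ⁻¹ = α) := by
  decide +kernel

theorem dt_counts :
    (Finset.univ.filter fun α : Perm (Fin 5) =>
      Perm.sign α = 1 ∧ α * (uu * tau) = (uu * tau) * α).card = 4 ∧
    (Finset.univ.filter fun α : Perm (Fin 5) =>
      Perm.sign α = -1 ∧ α * (uu * tau) = (uu * tau) * α).card = 4 ∧
    (Finset.univ.filter fun α : Perm (Fin 5) => Perm.sign α = 1 ∧ True).card = 60 ∧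
    (Finset.univ.filter fun α : Perm (Fin 5) => Perm.sign α = -1 ∧ True).card = 60 := by
  decide +kernel

theorem card_pairs (P Q : Perm (Fin 5) → Prop) [DecidablePred P] [DecidablePred Q] :
    Nat.card {q : M2 // P q.1.1 ∧ Q q.1.2} =
      (Finset.univ.filter fun α => Perm.sign α = 1 ∧ P α).card *
        (Finset.univ.filter fun β => Perm.sign β = 1 ∧ Q β).card +
      (Finset.univ.filter fun α => Perm.sign α = -1 ∧ P α).card *
        (Finset.univ.filter fun β => Perm.sign β = -1 ∧ Q β).card := by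
  classical
  let e : {q : M2 // P q.1.1 ∧ Q q.1.2} ≃
      ({α // Perm.sign α = 1 ∧ P α} × {β // Perm.sign β = 1 ∧ Q β}) ⊕
        ({α // Perm.sign α = -1 ∧ P α} × {β // Perm.sign β = -1 ∧ Q β}) :=
    { toFun := fun q =>
        if h : Perm.sign q.1.1.1 = 1 then
          Sum.inl (⟨q.1.1.1, h, q.2.1⟩, ⟨q.1.1.2, (mem_M2.mp q.1.2).symm.trans h, q.2.2⟩)
        else
          Sum.inr (⟨q.1.1.1, (Int.units_eq_one_or _).resolve_left h, q.2.1⟩,
            ⟨q.1.1.2, (mem_M2.mp q.1.2).symm.trans ((Int.units_eq_one_or _).resolve_left h), q.2.2⟩)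
      invFun := fun x =>
        match x with
        | Sum.inl (a, b) => ⟨⟨(a.1, b.1), a.2.1.trans b.2.1.symm⟩, a.2.2, b.2.2⟩
        | Sum.inr (a, b) => ⟨⟨(a.1, b.1), a.2.1.trans b.2.1.symm⟩, a.2.2, b.2.2⟩
      left_inv := fun q => by by_cases h : Perm.sign q.1.1.1 = 1 <;> simp [h]
      right_inv := fun x => by
        rcases x with ⟨a, b⟩ | ⟨a, b⟩
        · simp [a.2.1]
        · have : Perm.sign a.1 ≠ 1 := by rw [a.2.1]; decide
          simp [this] }
  rw [Nat.card_congr e, Nat.card_sum, Nat.card_prod, Nat.card_prod]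
  simp only [Nat.card_eq_fintype_card, Fintype.card_subtype]

theorem card_graph (f : Perm (Fin 5) → Perm (Fin 5)) (hf : ∀ α, Perm.sign (f α) = Perm.sign α) :
    Nat.card {q : M2 // q.1.2 = f q.1.1} = 120 := by
  let e : {q : M2 // q.1.2 = f q.1.1} ≃ Perm (Fin 5) :=
    { toFun := fun q => q.1.1.1
      invFun := fun α => ⟨⟨(α, f α), (hf α).symm⟩, rfl⟩
      left_inv := fun q => Subtype.ext (Subtype.ext (Prod.ext rfl q.2.symm))
      right_inv := fun _ => rfl }
  rw [Nat.card_congr e, Nat.card_perm, Nat.card_fin]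
  rfl

end Counts

end Cfsg.Agent.H86.SymEight
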