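import Cfsg.Agent.H86.SymEight.Basic

/-!
The normalised setting from the hypotheses.
-/

set_option autoImplicit false

namespace Cfsg.Agent.H86.SymEight

open Equiv

variable {G : Type*} [Group G]

/-- Data attached to the normaliser of an element of order three. -/
structure Pre (G : Type*) [Group G] (z : G) where
  /-- The involution. -/
  w : G
  /-- The component. -/
  ψ : Perm (Fin 5) →* G
  inj : Function.Injective ψ
  z_notin : z ∉ ψ.range
  w2 : w * w = 1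
  wz : w * z * w = z⁻¹
  z_comm : ∀ σ, Commute z (ψ σ)
  w_comm : ∀ σ, Commute w (ψ σ)
  cz : ∀ g, Commute g z → ∃ i : Fin 3, ∃ σ, g = z ^ (i : ℕ) * ψ σ
  nz : ∀ g, g * z * g⁻¹ = z⁻¹ → ∃ i : Fin 3, ∃ σ, g = z ^ (i : ℕ) * w * ψ σ

theorem exists_pre {z : G} (hz3 : z * z * z = 1) (hz1 : z ≠ 1)
    (eL : Subgroup.normalizer (Subgroup.zpowers z : Set G) ≃* Perm (Fin 3) × Perm (Fin 5)) :
    Nonempty (Pre G z) := by
  classical
  set L := Subgroup.normalizer (Subgroup.zpowers z : Set G) with hL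
  have hzi : z⁻¹ = z * z := inv_eq_of_mul_eq_one_right (by rw [← mul_assoc, hz3])
  let zL : L := ⟨z, Subgroup.le_normalizer (Subgroup.mem_zpowers z)⟩
  have hz3' : z ^ 3 = 1 := by rw [pow_succ, pow_two, hz3]
  have hconj : ∀ g : L, g * zL * g⁻¹ = zL ∨ g * zL * g⁻¹ = zL⁻¹ := by
    intro g
    have h : (g : G) * z * (g : G)⁻¹ ∈ Subgroup.zpowers z :=
      (Subgroup.mem_normalizer_iff.mp g.2 z).mp (Subgroup.mem_zpowers z)
    obtain ⟨n, hn⟩ := Subgroup.mem_zpowers_iff.mp h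
    have hn' : z ^ n = z ^ (n % 3) := zpow_eq_zpow_emod n (by exact_mod_cast hz3')
    rw [hn'] at hn
    rcases (show n % 3 = 0 ∨ n % 3 = 1 ∨ n % 3 = 2 by omega) with e | e | e <;> rw [e] at hn
    · exfalso
      apply hz1
      rw [zpow_zero] at hn
      exact conj_eq_one_iff.mp hn.symm
    · left; exact Subtype.ext (by rw [zpow_one] at hn; exact hn.symm)
    · right
      refine Subtype.ext ?_
      show (g : G) * z * (g : G)⁻¹ = z⁻¹
      rw [← hn, hzi, show (2 : ℤ) = 1 + 1 from rfl, zpow_add, zpow_one]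
  set a := (eL zL).1 with ha
  set b := (eL zL).2 with hb
  have hez : eL zL = (a, b) := rfl
  have hpow : (a, b) * (a, b) * (a, b) = 1 := by
    rw [← hez, ← map_mul, ← map_mul, show zL * zL * zL = 1 from Subtype.ext hz3, map_one]
  have ha3 : a * a * a = 1 := congrArg Prod.fst hpow
  have hb3 : b * b * b = 1 := congrArg Prod.snd hpow
  have hcb : ∀ σ : Perm (Fin 5), σ * b * σ⁻¹ = b ∨ σ * b * σ⁻¹ = b⁻¹ := by
    intro σ
    rcases hconj (eL.symm (1, σ)) with h | h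
    · left
      have := congrArg Prod.snd (congrArg eL h)
      simpa [hb] using this
    · right
      have := congrArg Prod.snd (congrArg eL h)
      simpa [hb] using this
  have hb1 : b = 1 := normal_three_trivial b hb3 (hcb _) (hcb _)
  have ha1 : a ≠ 1 := by
    intro h
    apply hz1
    have : zL = 1 := eL.injective (by rw [map_one, hez, h, hb1]; rfl)
    exact congrArg Subtype.val this
  obtain ⟨x, hx1, hx2, hxa, hxall⟩ := inv_three a ha3 ha1
  let ψ : Perm (Fin 5) →* G :=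
    L.subtype.comp (eL.symm.toMonoidHom.comp (MonoidHom.inr (Perm (Fin 3)) (Perm (Fin 5))))
  have hψ : ∀ σ, ψ σ = ((eL.symm (1, σ) : L) : G) := fun σ => rfl
  have hsymm : eL.symm (a, 1) = zL := by rw [← hb1, ← hez, MulEquiv.symm_apply_apply]
  have hzp : ∀ i : ℕ, eL.symm (a ^ i, 1) = zL ^ i := fun i => by
    rw [← hsymm, ← map_pow, Prod.pow_mk, one_pow]
  refine ⟨{ w := ((eL.symm (x, 1) : L) : G), ψ := ψ, inj := ?_, z_notin := ?_, w2 := ?_, wz := ?_,
            z_comm := ?_, w_comm := ?_, cz := ?_, nz := ?_ }⟩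
  · intro σ ρ h
    rw [hψ, hψ] at h
    exact congrArg Prod.snd (eL.symm.injective (Subtype.ext h))
  · rintro ⟨σ, hσ⟩
    rw [hψ] at hσ
    have h : eL.symm (1, σ) = zL := Subtype.ext hσ
    have := congrArg Prod.fst ((MulEquiv.symm_apply_eq eL).mp h)
    exact ha1 this.symm
  · rw [← Subgroup.coe_mul, ← map_mul, Prod.mk_mul_mk, hx2, one_mul]
    show ((eL.symm 1 : L) : G) = 1
    rw [map_one]; rfl
  · show ((eL.symm (x, 1) : L) : G) * ((zL : L) : G) * ((eL.symm (x, 1) : L) : G) = _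
    rw [← hsymm, ← Subgroup.coe_mul, ← Subgroup.coe_mul, ← map_mul, ← map_mul, Prod.mk_mul_mk,
      Prod.mk_mul_mk, hxa, one_mul, one_mul]
    rw [show (a⁻¹, (1 : Perm (Fin 5))) = (a, 1)⁻¹ from by simp, map_inv, hsymm]
    rfl
  · intro σ
    show ((zL : L) : G) * ((eL.symm (1, σ) : L) : G) = ((eL.symm (1, σ) : L) : G) * ((zL : L) : G)
    rw [← hsymm, ← Subgroup.coe_mul, ← Subgroup.coe_mul, ← map_mul, ← map_mul]
    simp
  · intro σ
    show ((eL.symm (x, 1) : L) : G) * ((eL.symm (1, σ) : L) : G)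
      = ((eL.symm (1, σ) : L) : G) * ((eL.symm (x, 1) : L) : G)
    rw [← Subgroup.coe_mul, ← Subgroup.coe_mul, ← map_mul, ← map_mul]
    simp
  · intro g hg
    have hgc : g ∈ Subgroup.centralizer ({z} : Set G) := by
      rw [Subgroup.mem_centralizer_singleton_iff]; exact hg.eq
    have hgL : g ∈ L := by
      apply Subgroup.centralizer_le_normalizer
      intro y hy
      obtain ⟨n, rfl⟩ := Subgroup.mem_zpowers_iff.mp hy
      exact (hg.zpow_right n).eq.symm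
    have hfix : (⟨g, hgL⟩ : L) * zL * (⟨g, hgL⟩ : L)⁻¹ = zL :=
      Subtype.ext (by show g * z * g⁻¹ = z; rw [hg.eq, mul_inv_cancel_right])
    have h := congrArg Prod.fst (congrArg eL hfix)
    simp only [map_mul, map_inv, Prod.fst_mul, Prod.fst_inv] at h
    have key : ∀ i : ℕ, i < 3 → (eL ⟨g, hgL⟩).1 = a ^ i →
        ∃ i : Fin 3, ∃ σ, g = z ^ (i : ℕ) * ψ σ := by
      intro i hi e
      refine ⟨⟨i, hi⟩, (eL ⟨g, hgL⟩).2, ?_⟩
      have e2 : (⟨g, hgL⟩ : L) = zL ^ i * eL.symm (1, (eL ⟨g, hgL⟩).2) := by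
        rw [← hzp, ← map_mul, Prod.mk_mul_mk, mul_one, one_mul, ← e]
        exact (eL.symm_apply_apply _).symm
      exact congrArg Subtype.val e2
    rcases cent_three a _ ha3 ha1 h with e | e | e
    · exact key 0 (by norm_num) (by rw [e, pow_zero])
    · exact key 1 (by norm_num) (by rw [e, pow_one])
    · exact key 2 (by norm_num) (by rw [e, pow_two])
  · intro g hg
    have hgL : g ∈ L := by
      rw [hL, Subgroup.mem_normalizer_iff]
      intro y
      have e : ∀ n : ℤ, g * z ^ n * g⁻¹ = z ^ (-n) := fun n => by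
        rw [← conj_zpow, hg, inv_zpow']
      constructor
      · intro hy
        obtain ⟨n, rfl⟩ := Subgroup.mem_zpowers_iff.mp hy
        exact Subgroup.mem_zpowers_iff.mpr ⟨-n, (e n).symm⟩
      · intro hy
        obtain ⟨n, hn⟩ := Subgroup.mem_zpowers_iff.mp hy
        refine Subgroup.mem_zpowers_iff.mpr ⟨-n, ?_⟩
        have := e (-n)
        rw [neg_neg, hn] at this
        exact mul_left_cancel (mul_right_cancel this)
    have hfix : (⟨g, hgL⟩ : L) * zL * (⟨g, hgL⟩ : L)⁻¹ = zL⁻¹ := Subtype.ext hg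
    have h := congrArg Prod.fst (congrArg eL hfix)
    simp only [map_mul, map_inv, Prod.fst_mul, Prod.fst_inv] at h
    have key : ∀ i : ℕ, i < 3 → (eL ⟨g, hgL⟩).1 = a ^ i * x →
        ∃ i : Fin 3, ∃ σ, g = z ^ (i : ℕ) * ((eL.symm (x, 1) : L) : G) * ψ σ := by
      intro i hi e
      refine ⟨⟨i, hi⟩, (eL ⟨g, hgL⟩).2, ?_⟩
      have e2 : (⟨g, hgL⟩ : L) = zL ^ i * eL.symm (x, 1) * eL.symm (1, (eL ⟨g, hgL⟩).2) := by
        rw [← hzp, ← map_mul, ← map_mul, Prod.mk_mul_mk, Prod.mk_mul_mk, mul_one, one_mul, one_mul,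
          ← e]
        exact (eL.symm_apply_apply _).symm
      exact congrArg Subtype.val e2
    rcases hxall _ h with e | e | e
    · exact key 0 (by norm_num) (by rw [e, pow_zero, one_mul])
    · exact key 1 (by norm_num) (by rw [e, pow_one])
    · exact key 2 (by norm_num) (by rw [e, pow_two])

/-- Conjugating the component. -/
def Pre.twist {z : G} (Q : Pre G z) (g : Perm (Fin 5)) : Pre G z where
  w := Q.w
  ψ := Q.ψ.comp (MulAut.conj g).toMonoidHom
  inj := Q.inj.comp (MulAut.conj g).injective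
  z_notin := fun ⟨σ, hσ⟩ => Q.z_notin ⟨_, hσ⟩
  w2 := Q.w2
  wz := Q.wz
  z_comm := fun _ => Q.z_comm _
  w_comm := fun _ => Q.w_comm _
  cz := fun x hx => by
    obtain ⟨i, σ, h⟩ := Q.cz x hx
    exact ⟨i, g⁻¹ * σ * g, by simpa [mul_assoc] using h⟩
  nz := fun x hx => by
    obtain ⟨i, σ, h⟩ := Q.nz x hx
    exact ⟨i, g⁻¹ * σ * g, by simpa [mul_assoc] using h⟩

namespace Pre

variable {z : G} (Q : Pre G z) (hz3 : z * z * z = 1)

include hz3

theorem sep {i j : Fin 3} {σ ρ : Perm (Fin 5)}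
    (h : z ^ (i : ℕ) * Q.ψ σ = z ^ (j : ℕ) * Q.ψ ρ) : i = j ∧ σ = ρ := by
  have hz : z ^ 3 = 1 := by rw [pow_succ, pow_two, hz3]
  have e : z ^ ((2 * (j : ℕ) + i) % 3) = Q.ψ (ρ * σ⁻¹) := by
    rw [← pow_eq_pow_mod _ hz, pow_add, map_mul, map_inv, eq_mul_inv_iff_mul_eq, mul_assoc, h,
      ← mul_assoc, ← pow_add, show 2 * (j : ℕ) + j = 3 * j by ring, pow_mul, hz, one_pow, one_mul]
  have h0 : (2 * (j : ℕ) + i) % 3 = 0 := by
    rcases (show (2 * (j : ℕ) + i) % 3 = 0 ∨ (2 * (j : ℕ) + i) % 3 = 1 ∨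
      (2 * (j : ℕ) + i) % 3 = 2 by omega) with e' | e' | e'
    · exact e'
    · rw [e', pow_one] at e; exact absurd ⟨_, e.symm⟩ Q.z_notin
    · exfalso
      refine Q.z_notin ⟨(ρ * σ⁻¹) * (ρ * σ⁻¹), ?_⟩
      rw [e'] at e
      rw [map_mul, ← e, ← pow_add, pow_succ, hz, one_mul]
  have hij : i = j := Fin.ext (by omega)
  subst hij
  exact ⟨rfl, Q.inj (mul_left_cancel h)⟩

/-- Elements of `D` in the component. -/
theorem mem_D {d : G} (hd : d ∈ Subgroup.closure {z, Q.ψ c3}) :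
    ∃ i j : Fin 3, d = z ^ (i : ℕ) * Q.ψ (c3 ^ (j : ℕ)) := by
  have hz : z ^ 3 = 1 := by rw [pow_succ, pow_two, hz3]
  have hc : c3 ^ 3 = 1 := by rw [pow_succ, pow_two, c3_cube]
  have red : ∀ a b : ℕ, ∃ i j : Fin 3,
      z ^ a * Q.ψ (c3 ^ b) = z ^ (i : ℕ) * Q.ψ (c3 ^ (j : ℕ)) :=
    fun a b => ⟨⟨a % 3, Nat.mod_lt _ (by norm_num)⟩, ⟨b % 3, Nat.mod_lt _ (by norm_num)⟩, by
      rw [← pow_eq_pow_mod a hz, ← pow_eq_pow_mod b hc]⟩
  refine Subgroup.closure_induction (fun x hx => ?_) ?_ ?_ ?_ hd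
  · rcases hx with rfl | hx
    · exact ⟨1, 0, by simp⟩
    · rw [Set.mem_singleton_iff.mp hx]
      exact ⟨0, 1, by simp⟩
  · exact ⟨0, 0, by simp⟩
  · rintro x y - - ⟨i, j, rfl⟩ ⟨k, l, rfl⟩
    obtain ⟨a, b, h⟩ := red ((i : ℕ) + k) ((j : ℕ) + l)
    refine ⟨a, b, h ▸ ?_⟩
    rw [pow_add, pow_add, map_mul, mul_assoc, ← mul_assoc (Q.ψ (c3 ^ (j : ℕ))),
      ← ((Q.z_comm (c3 ^ (j : ℕ))).pow_left (k : ℕ)).eq]
    group
  · rintro x - ⟨i, j, rfl⟩
    obtain ⟨a, b, h⟩ := red (2 * (i : ℕ)) (2 * (j : ℕ))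
    refine ⟨a, b, h ▸ ?_⟩
    rw [inv_eq_iff_mul_eq_one, show z ^ (i : ℕ) * Q.ψ (c3 ^ (j : ℕ)) *
      (z ^ (2 * (i : ℕ)) * Q.ψ (c3 ^ (2 * (j : ℕ)))) = z ^ (i : ℕ) * (Q.ψ (c3 ^ (j : ℕ)) *
      z ^ (2 * (i : ℕ))) * Q.ψ (c3 ^ (2 * (j : ℕ))) by group,
      ← ((Q.z_comm _).pow_left _).eq, ← mul_assoc, ← pow_add, mul_assoc, ← map_mul, ← pow_add,
      show (i : ℕ) + 2 * i = 3 * i by ring, show (j : ℕ) + 2 * j = 3 * j by ring,
      pow_mul, pow_mul, hz, hc, one_pow, one_pow, map_one, one_mul]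

end Pre

end Cfsg.Agent.H86.SymEight
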