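import Cfsg.Agent.H86.SymEight.Setup

/-!
Existence of the normalised setting.
-/

set_option autoImplicit false

namespace Cfsg.Agent.H86.SymEight

open Equiv

variable {G : Type*} [Group G]

theorem card_cent_conj (g d : G) :
    Nat.card (Subgroup.centralizer ({g * d * g⁻¹} : Set G)) =
      Nat.card (Subgroup.centralizer ({d} : Set G)) := by
  refine (Nat.card_congr ((MulAut.conj g).toEquiv.subtypeEquiv fun x => ?_)).symm
  rw [Subgroup.mem_centralizer_singleton_iff, Subgroup.mem_centralizer_singleton_iff]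
  show x * d = d * x ↔ (g * x * g⁻¹) * (g * d * g⁻¹) = (g * d * g⁻¹) * (g * x * g⁻¹)
  constructor
  · intro h
    calc g * x * g⁻¹ * (g * d * g⁻¹) = g * (x * d) * g⁻¹ := by group
      _ = g * (d * x) * g⁻¹ := by rw [h]
      _ = _ := by group
  · intro h
    calc x * d = g⁻¹ * (g * x * g⁻¹ * (g * d * g⁻¹)) * g := by group
      _ = g⁻¹ * (g * d * g⁻¹ * (g * x * g⁻¹)) * g := by rw [h]
      _ = _ := by group

theorem card_cent_inv (d : G) :
    Nat.card (Subgroup.centralizer ({d⁻¹} : Set G)) =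
      Nat.card (Subgroup.centralizer ({d} : Set G)) := by
  have : Subgroup.centralizer ({d⁻¹} : Set G) = Subgroup.centralizer ({d} : Set G) := by
    ext x
    rw [Subgroup.mem_centralizer_singleton_iff, Subgroup.mem_centralizer_singleton_iff]
    exact Commute.inv_right_iff (a := x) (b := d)
  rw [this]

theorem exists_setting [Finite G] (P : Sylow 3 G) (D : Subgroup G) (hDP : D = P) (y z : G)
    (hgen : Subgroup.closure {y, z} = D) (hcard : Nat.card D = 9)
    (hcomm : IsMulCommutative D) (hexp : ∀ a ∈ D, a ^ 3 = 1)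
    (hC : Nat.card (Subgroup.centralizer (D : Set G)) = 18)
    (hN : Nat.card (Subgroup.normalizer (D : Set G)) = 144)
    (hyn : (D.subgroupOf (Subgroup.centralizer ({y} : Set G))).Normal)
    (hycard : Nat.card (Subgroup.centralizer ({y} : Set G)) = 36)
    (hysq : ∀ g ∈ Subgroup.centralizer ({y} : Set G), g ^ 2 ∈ D)
    (hyNcard : Nat.card (Subgroup.normalizer (Subgroup.zpowers y : Set G)) = 72)
    (eC : Subgroup.centralizer ({z} : Set G) ≃* Multiplicative (ZMod 3) × Perm (Fin 5))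
    (eL : Subgroup.normalizer (Subgroup.zpowers z : Set G) ≃* Perm (Fin 3) × Perm (Fin 5)) :
    ∃ S : Setting G, S.D = D := by
  classical
  have hzD : z ∈ D := hgen ▸ Subgroup.subset_closure (by simp)
  have hyD : y ∈ D := hgen ▸ Subgroup.subset_closure (by simp)
  have hDc : ∀ a ∈ D, ∀ b ∈ D, Commute a b := fun a ha b hb =>
    congrArg Subtype.val ((IsMulCommutative.is_comm (M := D)).comm ⟨a, ha⟩ ⟨b, hb⟩)
  have hy_z : y ∉ Subgroup.zpowers z := by
    intro h
    have hle : D ≤ Subgroup.zpowers z := hgen ▸ (Subgroup.closure_le _).2 (by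
      rintro x (rfl | rfl)
      · exact h
      · exact Subgroup.mem_zpowers _)
    have h1 := Subgroup.card_le_of_le hle
    rw [hcard, Nat.card_zpowers] at h1
    have h2 : orderOf z ≤ 3 := Nat.le_of_dvd (by norm_num) (orderOf_dvd_of_pow_eq_one (hexp z hzD))
    omega
  have hz1 : z ≠ 1 := by
    intro h
    have : D ≤ Subgroup.zpowers y := hgen ▸ (Subgroup.closure_le _).2 (by
      rintro x (rfl | rfl)
      · exact Subgroup.mem_zpowers _
      · subst h; exact one_mem _)
    have h1 := Subgroup.card_le_of_le this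
    rw [hcard, Nat.card_zpowers] at h1
    have h2 : orderOf y ≤ 3 := Nat.le_of_dvd (by norm_num) (orderOf_dvd_of_pow_eq_one (hexp y hyD))
    omega
  have hz3 : z * z * z = 1 := by rw [← pow_two, ← pow_succ]; exact hexp z hzD
  have hzp : z ^ 3 = 1 := hexp z hzD
  obtain ⟨Q0⟩ := exists_pre hz3 hz1 eL
  -- choose the component so that the three-cycle lies in `D`
  obtain ⟨Q, i0, hy⟩ : ∃ Q : Pre G z, ∃ i : Fin 3, y = z ^ (i : ℕ) * Q.ψ c3 := by
    obtain ⟨i, σ, rfl⟩ := Q0.cz y (hDc _ hyD _ hzD)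
    have h3 : σ * σ * σ = 1 := by
      have h := hexp _ hyD
      rw [((Q0.z_comm σ).pow_left _).mul_pow, ← pow_mul, mul_comm, pow_mul, hzp, one_pow, one_mul,
        ← map_pow, ← map_one Q0.ψ] at h
      rw [← pow_two, ← pow_succ]
      exact Q0.inj h
    have h1 : σ ≠ 1 := by
      rintro rfl
      exact hy_z (by rw [map_one, mul_one]; exact pow_mem (Subgroup.mem_zpowers z) _)
    obtain ⟨g, hg⟩ := conj_c3 σ h3 h1
    exact ⟨Q0.twist g, i, by show _ = _ * Q0.ψ (g * c3 * g⁻¹); rw [hg]⟩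
  set r := Q.ψ c3 with hr
  have hrD : r ∈ D := by
    have : r = (z ^ (i0 : ℕ))⁻¹ * y := by rw [hy, inv_mul_cancel_left]
    rw [this]
    exact mul_mem (inv_mem (pow_mem hzD _)) hyD
  have hDeq : Subgroup.closure {z, r} = D := by
    refine le_antisymm ((Subgroup.closure_le _).2 (by rintro x (rfl | rfl) <;> assumption)) ?_
    rw [← hgen, Subgroup.closure_le]
    rintro x (rfl | rfl)
    · rw [hy]
      exact mul_mem (pow_mem (Subgroup.subset_closure (by simp)) _)
        (Subgroup.subset_closure (by simp))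
    · exact Subgroup.subset_closure (by simp)
  have hr3 : r * r * r = 1 := by rw [← pow_two, ← pow_succ]; exact hexp r hrD
  have hri : r⁻¹ = r * r := inv_eq_of_mul_eq_one_right (by rw [← mul_assoc, hr3])
  have hzi : z⁻¹ = z * z := inv_eq_of_mul_eq_one_right (by rw [← mul_assoc, hz3])
  have hzr : Commute z r := Q.z_comm c3
  have hwD : ∀ x ∈ D, Q.w * x * Q.w⁻¹ ∈ D := by
    have hwi : Q.w⁻¹ = Q.w := inv_eq_of_mul_eq_one_right Q.w2
    have hle : D ≤ D.comap (MulAut.conj Q.w).toMonoidHom := by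
      nth_rw 1 [← hDeq]
      rw [Subgroup.closure_le]
      rintro x (rfl | rfl)
      · show Q.w * x * Q.w⁻¹ ∈ D
        rw [hwi, Q.wz]; exact inv_mem hzD
      · show Q.w * r * Q.w⁻¹ ∈ D
        rw [hr, (Q.w_comm c3).eq, mul_inv_cancel_right]; exact hrD
    exact fun x hx => hle hx
  -- the type of an element of `D`
  have hDcases : ∀ d ∈ D, d ∈ Subgroup.zpowers z ∨ d = r ∨ d = r⁻¹ ∨
      d = z * r ∨ d = (z * r)⁻¹ ∨ d = z * r⁻¹ ∨ d = (z * r⁻¹)⁻¹ := by
    intro d hd
    rw [← hDeq] at hd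
    obtain ⟨i, j, hij⟩ := Q.mem_D hz3 hd
    rw [map_pow, ← hr] at hij
    subst hij
    fin_cases i <;> fin_cases j <;>
      simp only [pow_zero, pow_one, one_mul, mul_one, pow_two, ← hzi, ← hri, mul_inv_rev, inv_inv,
        true_or, or_true, one_mem, Subgroup.mem_zpowers]
    · exact Or.inl (inv_mem (Subgroup.mem_zpowers _))
    · exact Or.inr (Or.inr (Or.inr (Or.inr (Or.inr (Or.inr ((hzr.inv_left).eq))))))
    · exact Or.inr (Or.inr (Or.inr (Or.inr (Or.inl (hzr.inv_inv).eq))))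
  have hCz : Nat.card (Subgroup.centralizer ({z} : Set G)) = 360 := by
    rw [Nat.card_congr eC.toEquiv, Nat.card_prod, Nat.card_perm, Nat.card_fin,
      Nat.card_congr Multiplicative.toAdd, Nat.card_zmod]
    decide
  have hw_conj : ∀ d, Nat.card (Subgroup.centralizer ({Q.w * d * Q.w⁻¹} : Set G)) =
      Nat.card (Subgroup.centralizer ({d} : Set G)) := card_cent_conj Q.w
  have hw1 : Q.w * (z * r) * Q.w⁻¹ = (z * r⁻¹)⁻¹ := by
    rw [mul_inv_rev, inv_inv, show Q.w * (z * r) * Q.w⁻¹ =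
      (Q.w * z * Q.w⁻¹) * (Q.w * r * Q.w⁻¹) by group, inv_eq_of_mul_eq_one_right Q.w2, Q.wz,
      hr, (Q.w_comm c3).eq, mul_assoc (Q.ψ c3), Q.w2, mul_one, ← hr]
    exact (hzr.inv_left).eq
  have hw2 : Q.w * (z * r⁻¹) * Q.w⁻¹ = (z * r)⁻¹ := by
    rw [mul_inv_rev, show Q.w * (z * r⁻¹) * Q.w⁻¹ =
      (Q.w * z * Q.w⁻¹) * (Q.w * r * Q.w⁻¹)⁻¹ by group, inv_eq_of_mul_eq_one_right Q.w2, Q.wz,
      hr, (Q.w_comm c3).eq, mul_assoc (Q.ψ c3), Q.w2, mul_one, ← hr]
    exact (hzr.inv_inv).eq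
  -- `y` is neither in the component
  have hi0 : i0 ≠ 0 := by
    intro h0
    have hyr : y = r := by rw [hy, h0]; simp
    rw [hyr] at hycard hyNcard
    have hsmall : ∀ d ∈ D, Nat.card (Subgroup.centralizer ({d} : Set G)) = 36 →
        (∀ d', (d' = z * r ∨ d' = z * r⁻¹) →
          Nat.card (Subgroup.centralizer ({d'} : Set G)) = 360) → d = r ∨ d = r⁻¹ := by
      intro d hd hd36 hbig
      rcases hDcases d hd with h | h | h | h | h | h | h
      · exfalso
        have hle : Subgroup.centralizer ({z} : Set G) ≤ Subgroup.centralizer ({d} : Set G) := by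
          intro x hx
          rw [Subgroup.mem_centralizer_singleton_iff] at hx ⊢
          obtain ⟨n, rfl⟩ := Subgroup.mem_zpowers_iff.mp h
          exact (Commute.zpow_right (show Commute x z from hx) n).eq
        have := Subgroup.card_le_of_le hle
        omega
      · exact Or.inl h
      · exact Or.inr h
      · subst h; rw [hbig _ (Or.inl rfl)] at hd36; omega
      · subst h; rw [card_cent_inv, hbig _ (Or.inl rfl)] at hd36; omega
      · subst h; rw [hbig _ (Or.inr rfl)] at hd36; omega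
      · subst h; rw [card_cent_inv, hbig _ (Or.inr rfl)] at hd36; omega
    have hfix : ∀ g ∈ Subgroup.normalizer (D : Set G), g * r * g⁻¹ = r ∨ g * r * g⁻¹ = r⁻¹ := by
      by_cases hex : ∃ g ∈ Subgroup.normalizer (D : Set G), g * z * g⁻¹ ∉ Subgroup.zpowers z
      · obtain ⟨g0, hg0, hg0z⟩ := hex
        have hmem : g0 * z * g0⁻¹ ∈ D := (Subgroup.mem_normalizer_iff.mp hg0 z).mp hzD
        have h360 := (card_cent_conj g0 z).trans hCz
        have hbig : ∀ d', (d' = z * r ∨ d' = z * r⁻¹) →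
            Nat.card (Subgroup.centralizer ({d'} : Set G)) = 360 := by
          have hpair : Nat.card (Subgroup.centralizer ({z * r⁻¹} : Set G)) =
              Nat.card (Subgroup.centralizer ({z * r} : Set G)) := by
            rw [← hw_conj (z * r), hw1, card_cent_inv]
          rcases hDcases _ hmem with h | h | h | h | h | h | h
          · exact absurd h hg0z
          · rw [h] at h360; omega
          · rw [h, card_cent_inv] at h360; omega
          all_goals
            rintro d' (rfl | rfl) <;>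
              simp only [h, card_cent_inv, hpair] at h360 ⊢ <;> omega
        intro g hg
        exact hsmall _ ((Subgroup.mem_normalizer_iff.mp hg r).mp hrD)
          ((card_cent_conj g r).trans hycard) hbig
      · push Not at hex
        intro g hg
        have hgz := hex g hg
        have hgr : g * r * g⁻¹ ∈ D := (Subgroup.mem_normalizer_iff.mp hg r).mp hrD
        obtain ⟨n, hn⟩ := Subgroup.mem_zpowers_iff.mp hgz
        have hform : ∃ σ, g * r * g⁻¹ = Q.ψ σ := by
          have hcase : g * z * g⁻¹ = z ∨ g * z * g⁻¹ = z⁻¹ := by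
            rw [zpow_eq_zpow_emod n (by exact_mod_cast hzp : z ^ (3 : ℤ) = 1)] at hn
            rcases (show n % 3 = 0 ∨ n % 3 = 1 ∨ n % 3 = 2 by omega) with e | e | e <;>
              rw [e] at hn
            · rw [zpow_zero] at hn; exact absurd (conj_eq_one_iff.mp hn.symm) hz1
            · rw [zpow_one] at hn; exact Or.inl hn.symm
            · right
              rw [← hn, hzi, show (2 : ℤ) = 1 + 1 from rfl, zpow_add, zpow_one]
          rcases hcase with h | h
          · have hc : Commute g z := by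
              show g * z = z * g
              calc g * z = (g * z * g⁻¹) * g := by group
                _ = _ := by rw [h]
            obtain ⟨i, σ, rfl⟩ := Q.cz g hc
            refine ⟨σ * c3 * σ⁻¹, ?_⟩
            rw [map_mul, map_mul, map_inv, ← hr]
            have := (Q.z_comm (σ * c3 * σ⁻¹)).pow_left (i : ℕ)
            rw [map_mul, map_mul, map_inv, ← hr] at this
            calc z ^ (i : ℕ) * Q.ψ σ * r * (z ^ (i : ℕ) * Q.ψ σ)⁻¹
                = z ^ (i : ℕ) * (Q.ψ σ * r * (Q.ψ σ)⁻¹) * (z ^ (i : ℕ))⁻¹ := by group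
              _ = _ := by rw [this.eq, mul_inv_cancel_right]
          · obtain ⟨i, σ, rfl⟩ := Q.nz g h
            refine ⟨σ * c3 * σ⁻¹, ?_⟩
            rw [map_mul, map_mul, map_inv, ← hr]
            have := ((Q.z_comm (σ * c3 * σ⁻¹)).pow_left (i : ℕ)).mul_left (Q.w_comm (σ * c3 * σ⁻¹))
            rw [map_mul, map_mul, map_inv, ← hr] at this
            calc z ^ (i : ℕ) * Q.w * Q.ψ σ * r * (z ^ (i : ℕ) * Q.w * Q.ψ σ)⁻¹
                = z ^ (i : ℕ) * Q.w * (Q.ψ σ * r * (Q.ψ σ)⁻¹) * (z ^ (i : ℕ) * Q.w)⁻¹ := by group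
              _ = _ := by rw [this.eq, mul_inv_cancel_right]
        obtain ⟨σ, hσ⟩ := hform
        rw [← hDeq] at hgr
        obtain ⟨i, j, hij⟩ := Q.mem_D hz3 hgr
        rw [hσ] at hij
        obtain ⟨e1, e2⟩ := Q.sep hz3 (i := 0) (j := i) (σ := σ) (ρ := c3 ^ (j : ℕ))
          (by simpa using hij)
        rw [hσ, e2, map_pow, ← hr]
        fin_cases j
        · exfalso
          have h1 : g * r * g⁻¹ = 1 := by rw [hσ, e2]; simp
          have hr1 : r = 1 := conj_eq_one_iff.mp h1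
          exact c3_ne (Q.inj (hr1.trans (map_one Q.ψ).symm))
        · simp
        · right; simp [hri, pow_two]
    have hle : Subgroup.normalizer (D : Set G) ≤
        Subgroup.normalizer (Subgroup.zpowers r : Set G) := by
      intro g hg
      rw [Subgroup.mem_normalizer_iff_map_conj_eq, MonoidHom.map_zpowers]
      show Subgroup.zpowers (g * r * g⁻¹) = _
      rcases hfix g hg with h | h <;> rw [h]
      exact Subgroup.zpowers_inv
    have := Subgroup.card_le_of_le hle
    omega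
  -- centralisers of the diagonal elements
  have hyv : y = z * r ∨ y = (z * r⁻¹)⁻¹ := by
    fin_cases i0
    · exact absurd rfl hi0
    · left; simpa [pow_one] using hy
    · right
      rw [hy]
      simp only [pow_two, ← hzi, mul_inv_rev, inv_inv]
      exact (hzr.inv_left).eq
  have hynorm : ∀ g, Commute g y → ∀ x ∈ D, g * x * g⁻¹ ∈ D := by
    intro g hg x hx
    have hgC : g ∈ Subgroup.centralizer ({y} : Set G) := by
      rw [Subgroup.mem_centralizer_singleton_iff]; exact hg.eq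
    have hxC : x ∈ Subgroup.centralizer ({y} : Set G) := by
      rw [Subgroup.mem_centralizer_singleton_iff]; exact (hDc x hx y hyD).eq
    exact Subgroup.mem_subgroupOf.mp
      (hyn.conj_mem ⟨x, hxC⟩ (Subgroup.mem_subgroupOf.mpr hx) ⟨g, hgC⟩)
  have hconj_norm : ∀ d, (∀ g, Commute g d → ∀ x ∈ D, g * x * g⁻¹ ∈ D) →
      ∀ g, Commute g (Q.w * d * Q.w⁻¹) → ∀ x ∈ D, g * x * g⁻¹ ∈ D := by
    intro d hd g hg x hx
    have hwi : Q.w⁻¹ = Q.w := inv_eq_of_mul_eq_one_right Q.w2
    have hg' : Commute (Q.w * g * Q.w⁻¹) d := by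
      have := hg.map (MulAut.conj Q.w).toMonoidHom
      simp only [MulEquiv.coe_toMonoidHom, MulAut.conj_apply] at this
      rwa [show Q.w * (Q.w * d * Q.w⁻¹) * Q.w⁻¹ = d by
        rw [hwi, ← mul_assoc, ← mul_assoc, Q.w2, one_mul, mul_assoc, Q.w2, mul_one]] at this
    have := hwD _ (hd _ hg' _ (hwD x hx))
    rw [hwi] at this
    rwa [show Q.w * (Q.w * g * Q.w * (Q.w * x * Q.w) * (Q.w * g * Q.w)⁻¹) * Q.w = g * x * g⁻¹ by
      rw [mul_inv_rev, mul_inv_rev, hwi]
      simp only [mul_assoc, ← mul_assoc Q.w Q.w, Q.w2, one_mul, mul_one]] at this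
  have hcy : ∀ d, (d = z * r ∨ d = z * r⁻¹) →
      Nat.card (Subgroup.centralizer ({d} : Set G)) = 36 ∧
        ∀ g, Commute g d → ∀ x ∈ D, g * x * g⁻¹ ∈ D := by
    rcases hyv with h | h
    · have hA : Nat.card (Subgroup.centralizer ({z * r} : Set G)) = 36 := h ▸ hycard
      rintro d (rfl | rfl)
      · exact ⟨hA, h ▸ hynorm⟩
      · refine ⟨by rw [← hA, ← hw_conj (z * r), hw1, card_cent_inv], fun g hg => ?_⟩
        refine hconj_norm (z * r) (h ▸ hynorm) g ?_
        rw [hw1]; exact hg.inv_right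
    · have hB : Nat.card (Subgroup.centralizer ({z * r⁻¹} : Set G)) = 36 := by
        rw [← card_cent_inv, ← h, hycard]
      have hBn : ∀ g, Commute g (z * r⁻¹) → ∀ x ∈ D, g * x * g⁻¹ ∈ D :=
        fun g hg => hynorm g (h ▸ hg.inv_right)
      rintro d (rfl | rfl)
      · refine ⟨by rw [← hB, ← hw_conj (z * r⁻¹), hw2, card_cent_inv], fun g hg => ?_⟩
        refine hconj_norm (z * r⁻¹) hBn g ?_
        rw [hw2]; exact hg.inv_right
      · exact ⟨hB, hBn⟩
  -- an involution moving `z`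
  set τ0 := Q.ψ tau with hτ0
  have hzτ : Commute z τ0 := Q.z_comm tau
  have hrτ : Commute r τ0 := (show Commute c3 tau from tau_c3.symm).map Q.ψ
  have hCD_le : Subgroup.centralizer (D : Set G) ≤ Subgroup.centralizer ({y} : Set G) :=
    Subgroup.centralizer_le (by simpa using hyD)
  obtain ⟨g, hgy, hgD⟩ : ∃ g ∈ Subgroup.centralizer ({y} : Set G),
      g ∉ Subgroup.centralizer (D : Set G) := by
    by_contra hne
    push Not at hne
    have := Subgroup.card_le_of_le (show Subgroup.centralizer ({y} : Set G) ≤ _ from hne)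
    omega
  have hg2 : g ^ 2 ∈ D := hysq g hgy
  have hD_le : D ≤ Subgroup.centralizer (D : Set G) := fun a ha b hb => (hDc b hb a ha).eq
  set t1 := g ^ 3 with ht1
  have ht1sq : t1 * t1 = 1 := by
    rw [ht1, ← pow_add, show 3 + 3 = 2 * 3 from rfl, pow_mul]
    exact hexp _ hg2
  have ht1y : t1 ∈ Subgroup.centralizer ({y} : Set G) := pow_mem hgy 3
  have ht1D : t1 ∉ Subgroup.centralizer (D : Set G) := by
    intro h
    apply hgD
    have : g = t1 * (g ^ 2)⁻¹ := by rw [ht1, pow_succ' g 2]; group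
    rw [this]
    exact mul_mem h (inv_mem (hD_le hg2))
  have ht1c : Commute t1 y := Subgroup.mem_centralizer_singleton_iff.mp ht1y
  have ht1i : t1⁻¹ = t1 := inv_eq_of_mul_eq_one_right ht1sq
  have ht1z : t1 * z * t1 = r ∨ t1 * z * t1 = r⁻¹ := by
    have hm := hynorm t1 ht1c z hzD
    rw [ht1i] at hm
    have hcz : Nat.card (Subgroup.centralizer ({t1 * z * t1} : Set G)) = 360 := by
      have h := card_cent_conj t1 z
      rw [ht1i] at h
      exact h.trans hCz
    rcases hDcases _ hm with h | h | h | h | h | h | h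
    · exfalso
      obtain ⟨n, hn⟩ := Subgroup.mem_zpowers_iff.mp h
      have hn' := zpow_eq_zpow_emod n (by exact_mod_cast hzp : z ^ (3 : ℤ) = 1)
      rw [hn'] at hn
      have hcase : t1 * z * t1⁻¹ = z ∨ t1 * z * t1⁻¹ = z⁻¹ := by
        rw [ht1i]
        rcases (show n % 3 = 0 ∨ n % 3 = 1 ∨ n % 3 = 2 by omega) with e | e | e <;> rw [e] at hn
        · rw [zpow_zero] at hn
          exact absurd (conj_eq_one_iff.mp (by rw [ht1i]; exact hn.symm)) hz1
        · rw [zpow_one] at hn; exact Or.inl hn.symm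
        · right
          rw [← hn, hzi, show (2 : ℤ) = 1 + 1 from rfl, zpow_add, zpow_one]
      have hform : ∃ i : Fin 3, ∃ σ, (t1 * z * t1⁻¹ = z ∧ t1 = z ^ (i : ℕ) * Q.ψ σ) ∨
          (t1 * z * t1⁻¹ = z⁻¹ ∧ t1 = z ^ (i : ℕ) * Q.w * Q.ψ σ) := by
        rcases hcase with e | e
        · have hc : Commute t1 z := by
            show t1 * z = z * t1
            calc t1 * z = (t1 * z * t1⁻¹) * t1 := by group
              _ = _ := by rw [e]
          obtain ⟨i, σ, hσ⟩ := Q.cz _ hc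
          exact ⟨i, σ, Or.inl ⟨e, hσ⟩⟩
        · obtain ⟨i, σ, hσ⟩ := Q.nz _ e
          exact ⟨i, σ, Or.inr ⟨e, hσ⟩⟩
      obtain ⟨i, σ, hσ⟩ := hform
      have hr' : t1 * r * t1⁻¹ = Q.ψ (σ * c3 * σ⁻¹) := by
        rcases hσ with ⟨-, hσ⟩ | ⟨-, hσ⟩ <;> rw [hσ]
        · have := (Q.z_comm (σ * c3 * σ⁻¹)).pow_left (i : ℕ)
          calc z ^ (i : ℕ) * Q.ψ σ * r * (z ^ (i : ℕ) * Q.ψ σ)⁻¹
              = z ^ (i : ℕ) * Q.ψ (σ * c3 * σ⁻¹) * (z ^ (i : ℕ))⁻¹ := by
                rw [map_mul, map_mul, map_inv, ← hr]; group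
            _ = _ := by rw [this.eq, mul_inv_cancel_right]
        · have := ((Q.z_comm (σ * c3 * σ⁻¹)).pow_left (i : ℕ)).mul_left
            (Q.w_comm (σ * c3 * σ⁻¹))
          calc z ^ (i : ℕ) * Q.w * Q.ψ σ * r * (z ^ (i : ℕ) * Q.w * Q.ψ σ)⁻¹
              = z ^ (i : ℕ) * Q.w * Q.ψ (σ * c3 * σ⁻¹) * (z ^ (i : ℕ) * Q.w)⁻¹ := by
                rw [map_mul, map_mul, map_inv, ← hr]; group
            _ = _ := by rw [this.eq, mul_inv_cancel_right]
      have hfix : t1 * y * t1⁻¹ = y := by rw [ht1c.eq, mul_inv_cancel_right]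
      rw [hy, show t1 * (z ^ (i0 : ℕ) * r) * t1⁻¹ =
        (t1 * z ^ (i0 : ℕ) * t1⁻¹) * (t1 * r * t1⁻¹) by group, ← conj_pow, hr', hr] at hfix
      apply ht1D
      intro x hx
      rw [SetLike.mem_coe, ← hDeq] at hx
      have hzt : t1 * z * t1⁻¹ = z := by
        rcases hcase with e | e
        · exact e
        · exfalso
          rw [e, hzi, ← pow_two, ← pow_mul, pow_eq_pow_mod _ hzp] at hfix
          obtain ⟨e1, -⟩ := Q.sep hz3 (i := ⟨2 * (i0 : ℕ) % 3, Nat.mod_lt _ (by norm_num)⟩)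
            (j := i0) hfix
          have := congrArg Fin.val e1
          simp only at this
          have : (i0 : ℕ) ≠ 0 := fun h => hi0 (Fin.ext h)
          omega
      rw [hzt] at hfix
      have hrt : t1 * r * t1⁻¹ = r := by rw [hr', hr]; exact mul_left_cancel hfix
      have hle : Subgroup.closure ({z, r} : Set G) ≤ Subgroup.centralizer ({t1} : Set G) := by
        rw [Subgroup.closure_le]
        rintro u (rfl | rfl) <;> rw [SetLike.mem_coe, Subgroup.mem_centralizer_singleton_iff]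
        · exact (mul_inv_eq_iff_eq_mul.mp hzt).symm
        · exact (mul_inv_eq_iff_eq_mul.mp hrt).symm
      exact (Subgroup.mem_centralizer_singleton_iff.mp (hle hx))
    · exact Or.inl h
    · exact Or.inr h
    · rw [h, (hcy _ (Or.inl rfl)).1] at hcz; omega
    · rw [h, card_cent_inv, (hcy _ (Or.inl rfl)).1] at hcz; omega
    · rw [h, (hcy _ (Or.inr rfl)).1] at hcz; omega
    · rw [h, card_cent_inv, (hcy _ (Or.inr rfl)).1] at hcz; omega
  have ht1τ : Commute t1 τ0 := by
    have hmem : ∀ x ∈ D, Commute (t1 * τ0 * t1⁻¹) x := by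
      intro x hx
      have hm : t1⁻¹ * x * t1 ∈ D := by
        have h := hynorm t1⁻¹ ht1c.inv_left x hx
        rwa [inv_inv] at h
      have hle : D ≤ Subgroup.centralizer ({τ0} : Set G) := by
        rw [← hDeq, Subgroup.closure_le]
        rintro u (rfl | rfl) <;> rw [SetLike.mem_coe, Subgroup.mem_centralizer_singleton_iff]
        · exact hzτ.eq
        · exact hrτ.eq
      have h0 : Commute (t1⁻¹ * x * t1) τ0 := Subgroup.mem_centralizer_singleton_iff.mp (hle hm)
      have h := (h0.map (MulAut.conj t1).toMonoidHom).symm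
      simp only [MulEquiv.coe_toMonoidHom, MulAut.conj_apply] at h
      rwa [show t1 * (t1⁻¹ * x * t1) * t1⁻¹ = x by group] at h
    obtain ⟨i, σ, hσ⟩ := Q.cz _ (hmem z hzD)
    have hsq : (t1 * τ0 * t1⁻¹) * (t1 * τ0 * t1⁻¹) = 1 := by
      rw [show (t1 * τ0 * t1⁻¹) * (t1 * τ0 * t1⁻¹) = t1 * (τ0 * τ0) * t1⁻¹ by group, hτ0,
        ← map_mul, tau_sq, map_one, mul_one, mul_inv_cancel]
    rw [hσ, show z ^ (i : ℕ) * Q.ψ σ * (z ^ (i : ℕ) * Q.ψ σ) =
      z ^ (i : ℕ) * (Q.ψ σ * z ^ (i : ℕ)) * Q.ψ σ by group, ← ((Q.z_comm σ).pow_left _).eq,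
      ← mul_assoc, ← pow_add, mul_assoc, ← map_mul, pow_eq_pow_mod _ hzp] at hsq
    obtain ⟨e1, e2⟩ := Q.sep hz3 (i := ⟨((i : ℕ) + i) % 3, Nat.mod_lt _ (by norm_num)⟩) (j := 0)
      (σ := σ * σ) (ρ := 1) (by rw [map_one, mul_one, Fin.val_zero, pow_zero]; exact hsq)
    have hi : i = 0 := by
      have h0 : ((i : ℕ) + i) % 3 = 0 := congrArg Fin.val e1
      exact Fin.ext (by show (i : ℕ) = 0; omega)
    subst hi
    rw [Fin.val_zero, pow_zero, one_mul] at hσ
    have hc : Commute (Q.ψ σ) (Q.ψ c3) := hσ ▸ hmem r hrD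
    have hc' : σ * c3 * σ⁻¹ = c3 := by
      refine Q.inj ?_
      rw [map_mul, map_mul, map_inv, hc.eq, mul_inv_cancel_right]
    obtain ⟨j, k, rfl⟩ := cent_c3 σ hc'
    have hj := tau_unique j k e2
    subst hj
    fin_cases k
    · exfalso
      have h1 : t1 * τ0 * t1⁻¹ = 1 := by simpa using hσ
      exact tau_ne (Q.inj ((conj_eq_one_iff.mp h1).trans (map_one Q.ψ).symm))
    · have h1 : t1 * τ0 * t1⁻¹ = τ0 := by simpa [← hτ0] using hσ
      exact mul_inv_eq_iff_eq_mul.mp h1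
  -- adjust the sign
  obtain ⟨t2, ht2sq, ht2z, ht2τ, ht2y⟩ :
      ∃ t2, t2 * t2 = 1 ∧ t2 * z * t2 = r ∧ Commute t2 τ0 ∧ True := by
    have hwi : Q.w⁻¹ = Q.w := inv_eq_of_mul_eq_one_right Q.w2
    rcases ht1z with h | h
    · exact ⟨t1, ht1sq, h, ht1τ, trivial⟩
    · refine ⟨Q.w * t1 * Q.w, ?_, ?_, ?_, trivial⟩
      · simp only [mul_assoc, ← mul_assoc Q.w Q.w, Q.w2, one_mul]
        rw [← mul_assoc t1 t1, ht1sq, one_mul, Q.w2]
      · rw [show Q.w * t1 * Q.w * z * (Q.w * t1 * Q.w) =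
          Q.w * (t1 * (Q.w * z * Q.w) * t1) * Q.w by group, Q.wz,
          show t1 * z⁻¹ * t1 = (t1 * z * t1)⁻¹ by rw [mul_inv_rev, mul_inv_rev, ht1i, mul_assoc],
          h, inv_inv, hr, (Q.w_comm c3).eq, mul_assoc, Q.w2, mul_one]
      · exact ((Q.w_comm tau).mul_left ht1τ).mul_left (Q.w_comm tau)
  -- normalise the image of the inverting involution
  have ht2i : t2⁻¹ = t2 := inv_eq_of_mul_eq_one_right ht2sq
  have ht2r : t2 * r * t2 = z := by
    rw [← ht2z, show t2 * (t2 * z * t2) * t2 = (t2 * t2) * z * (t2 * t2) by group, ht2sq, one_mul,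
      mul_one]
  have htconj : ∀ a b : G, Commute (t2 * a * t2) (t2 * b * t2) ↔ Commute a b := by
    intro a b
    have e : ∀ c : G, t2 * c * t2 = (MulAut.conj t2) c := fun c => by
      show t2 * c * t2 = t2 * c * t2⁻¹
      rw [ht2i]
    rw [e, e]
    exact ⟨fun h => by simpa [mul_assoc] using h.map (MulAut.conj t2).symm.toMonoidHom,
      fun h => h.map (MulAut.conj t2).toMonoidHom⟩
  obtain ⟨i, σ, hσ⟩ := Q.cz (t2 * Q.w * t2) (by
    have h := (htconj Q.w r).mpr (Q.w_comm c3)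
    rwa [ht2r] at h)
  have hσsq : (t2 * Q.w * t2) * (t2 * Q.w * t2) = 1 := by
    rw [show t2 * Q.w * t2 * (t2 * Q.w * t2) = t2 * Q.w * (t2 * t2) * Q.w * t2 by group, ht2sq,
      mul_one, mul_assoc t2, Q.w2, mul_one, ht2sq]
  rw [hσ, show z ^ (i : ℕ) * Q.ψ σ * (z ^ (i : ℕ) * Q.ψ σ) =
    z ^ (i : ℕ) * (Q.ψ σ * z ^ (i : ℕ)) * Q.ψ σ by group, ← ((Q.z_comm σ).pow_left _).eq,
    ← mul_assoc, ← pow_add, mul_assoc, ← map_mul, pow_eq_pow_mod _ hzp] at hσsq
  obtain ⟨e1, e2⟩ := Q.sep hz3 (i := ⟨((i : ℕ) + i) % 3, Nat.mod_lt _ (by norm_num)⟩) (j := 0)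
    (σ := σ * σ) (ρ := 1) (by rw [map_one, mul_one, Fin.val_zero, pow_zero]; exact hσsq)
  have hi : i = 0 := by
    have h0 : ((i : ℕ) + i) % 3 = 0 := congrArg Fin.val e1
    exact Fin.ext (by show (i : ℕ) = 0; omega)
  subst hi
  rw [Fin.val_zero, pow_zero, one_mul] at hσ
  have hσc : σ * c3 * σ = c3⁻¹ := by
    refine Q.inj ?_
    rw [map_mul, map_mul, map_inv, ← hσ, ← hr]
    rw [show t2 * Q.w * t2 * r * (t2 * Q.w * t2) = t2 * (Q.w * (t2 * r * t2) * Q.w) * t2 by group,
      ht2r, Q.wz, show t2 * z⁻¹ * t2 = (t2 * z * t2)⁻¹ by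
        rw [mul_inv_rev, mul_inv_rev, ht2i, mul_assoc], ht2z]
  have hστ : σ * tau = tau * σ := by
    refine Q.inj ?_
    rw [map_mul, map_mul, ← hσ]
    exact ((ht2τ.mul_left (Q.w_comm tau)).mul_left ht2τ).eq
  obtain ⟨k, hk⟩ := twist_choice σ e2 hσc hστ
  set c := Q.ψ (c3 ^ (k : ℕ)) with hc
  have hcz : Commute c z := (Q.z_comm _).symm
  have hcr : Commute c r := ((Commute.refl c3).pow_left _).map Q.ψ
  have hcτ : Commute c τ0 := ((show Commute c3 tau from tau_c3.symm).pow_left _).map Q.ψ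
  refine ⟨{ z := z, w := Q.w, t := c * t2 * c⁻¹, ψ := Q.ψ, inj := Q.inj, z3 := hz3,
            z_notin := Q.z_notin, w2 := Q.w2, wz := Q.wz, z_comm := Q.z_comm,
            w_comm := Q.w_comm, cz := Q.cz, cz_card := hCz,
            t2 := ?_, tz := ?_, ttau := ?_, twt := ?_, P := P,
            P_eq := ?_, cy_card := fun d hd => (hcy d hd).1,
            cy_norm := fun d hd g hg => by rw [← hr, hDeq]; exact (hcy d hd).2 g hg }, hDeq⟩
  · rw [show c * t2 * c⁻¹ * (c * t2 * c⁻¹) = c * (t2 * t2) * c⁻¹ by group, ht2sq, mul_one,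
      mul_inv_cancel]
  · rw [show c * t2 * c⁻¹ * z * (c * t2 * c⁻¹) = c * (t2 * (c⁻¹ * z * c) * t2) * c⁻¹ by group,
      show c⁻¹ * z * c = z by rw [mul_assoc, ← hcz.eq, inv_mul_cancel_left], ht2z, hcr.eq,
      mul_inv_cancel_right]
  · exact (hcτ.mul_left ht2τ).mul_left hcτ.inv_left
  · have e : c * t2 * c⁻¹ * Q.w * (c * t2 * c⁻¹) = Q.ψ (c3 ^ (k : ℕ) * σ * (c3 ^ (k : ℕ))⁻¹) := by
      rw [show c * t2 * c⁻¹ * Q.w * (c * t2 * c⁻¹) = c * (t2 * (c⁻¹ * Q.w * c) * t2) * c⁻¹ by
        group, show c⁻¹ * Q.w * c = Q.w by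
          rw [mul_assoc, (Q.w_comm _).eq, inv_mul_cancel_left],
        hσ, map_mul, map_mul, map_inv]
    rcases hk with h | h
    · left; rw [e, h]
    · right; rw [e, h]
  · rw [← hDP, ← hr, hDeq]

end Cfsg.Agent.H86.SymEight
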