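import Cfsg.Agent.H86.SymEight.Elements
import Cfsg.Agent.S3333

/-!
The centraliser of the involution centralising the Sylow three-subgroup.
-/

set_option autoImplicit false
set_option linter.style.haveILetI false

namespace Cfsg.Agent.H86.SymEight

open Equiv

theorem cent_tau' : ∀ σ : Perm (Fin 5), σ * tau = tau * σ →
    σ * c3 * σ⁻¹ = c3 ∨ σ * c3 * σ⁻¹ = c3⁻¹ := by
  decide +kernel

theorem tau_pow_sq : ∀ j : Fin 3, ∀ k : Fin 2,
    (c3 ^ (j : ℕ) * tau ^ (k : ℕ)) * (c3 ^ (j : ℕ) * tau ^ (k : ℕ)) * (c3 ^ (j : ℕ) * tau ^ (k : ℕ))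
      = 1 → k = 0 := by
  decide +kernel

namespace Setting

variable {G : Type*} [Group G] (S : Setting G)

theorem normalizer_iff {g : G} [Finite G] :
    g ∈ Subgroup.normalizer (S.D : Set G) ↔ ∀ x ∈ S.D, g * x * g⁻¹ ∈ S.D := by
  refine ⟨fun h x hx => (Subgroup.mem_normalizer_iff.mp h x).mp hx, fun h => ?_⟩
  rw [Subgroup.mem_normalizer_iff_map_conj_eq]
  refine Subgroup.eq_of_le_of_card_ge ?_ ?_
  · rintro _ ⟨x, hx, rfl⟩; exact h x hx
  · exact (Subgroup.card_map_of_injective (MulAut.conj g).injective).ge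

/-- The normaliser of `D` centralises `τ0`. -/
theorem norm_fix_tau [Finite G] {g : G} (hg : g ∈ Subgroup.normalizer (S.D : Set G)) :
    Commute g S.τ0 := by
  have hmem : ∀ x ∈ S.D, Commute (g * S.τ0 * g⁻¹) x := by
    intro x hx
    have hm : g⁻¹ * x * g ∈ S.D := by
      have h := S.normalizer_iff.mp (inv_mem hg) x hx
      rwa [inv_inv] at h
    have h0 : Commute (g⁻¹ * x * g) S.τ0 := by
      obtain ⟨i, j, h⟩ := S.mem_D.1 hm
      rw [h]
      exact (S.zτ.pow_left _).mul_left (S.rτ.pow_left _)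
    have h := (h0.map (MulAut.conj g).toMonoidHom).symm
    simpa [mul_assoc] using h
  obtain ⟨i, σ, hσ⟩ := S.cz _ (hmem S.z S.z_mem_D)
  have hsq : (g * S.τ0 * g⁻¹) * (g * S.τ0 * g⁻¹) = 1 := by
    rw [show (g * S.τ0 * g⁻¹) * (g * S.τ0 * g⁻¹) = g * (S.τ0 * S.τ0) * g⁻¹ by group, S.τ0_sq,
      mul_one, mul_inv_cancel]
  rw [hσ, show S.z ^ (i : ℕ) * S.ψ σ * (S.z ^ (i : ℕ) * S.ψ σ) =
    S.z ^ (i : ℕ) * (S.ψ σ * S.z ^ (i : ℕ)) * S.ψ σ by group, ← ((S.z_comm σ).pow_left _).eq,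
    ← mul_assoc, ← pow_add, mul_assoc, ← map_mul, pow_eq_pow_mod _ S.z_pow3] at hsq
  obtain ⟨e1, e2⟩ := S.sep (i := ⟨((i : ℕ) + i) % 3, Nat.mod_lt _ (by norm_num)⟩) (j := 0)
    (σ := σ * σ) (ρ := 1) (by rw [map_one, mul_one, Fin.val_zero, pow_zero]; exact hsq)
  have hi : i = 0 := by
    have h0 : ((i : ℕ) + i) % 3 = 0 := congrArg Fin.val e1
    exact Fin.ext (by show (i : ℕ) = 0; omega)
  subst hi
  rw [Fin.val_zero, pow_zero, one_mul] at hσ
  have hc : Commute (S.ψ σ) (S.ψ c3) := hσ ▸ hmem S.r S.r_mem_D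
  have hc' : σ * c3 * σ⁻¹ = c3 := by
    refine S.inj ?_
    rw [map_mul, map_mul, map_inv, hc.eq, mul_inv_cancel_right]
  obtain ⟨j, k, rfl⟩ := cent_c3 σ hc'
  obtain rfl := tau_unique j k e2
  fin_cases k
  · exfalso
    have h1 : g * S.τ0 * g⁻¹ = 1 := by simpa using hσ
    exact S.τ0_ne (conj_eq_one_iff.mp h1)
  · have h1 : g * S.τ0 * g⁻¹ = S.τ0 := by simpa [τ0] using hσ
    exact mul_inv_eq_iff_eq_mul.mp h1

/-- In the centraliser of `τ0`, centralisers of elements of `D` normalise it. -/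
theorem cent_tau_norm {g d : G} (hgτ : Commute g S.τ0) (hd : d ∈ S.D) (hd1 : d ≠ 1)
    (hg : Commute g d) : ∀ x ∈ S.D, g * x * g⁻¹ ∈ S.D := by
  have hz : ∀ g : G, Commute g S.τ0 → Commute g S.z → ∀ x ∈ S.D, g * x * g⁻¹ ∈ S.D := by
    intro g hgτ hgz x hx
    obtain ⟨i, σ, rfl⟩ := S.cz g hgz
    have hσ : σ * tau = tau * σ := by
      have h := (((S.z_comm tau).pow_left (i : ℕ)).inv_left).mul_left hgτ
      rw [inv_mul_cancel_left] at h
      exact S.inj (by rw [map_mul, map_mul]; exact h.eq)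
    have hle : S.D ≤ S.D.comap (MulAut.conj (S.z ^ (i : ℕ) * S.ψ σ)).toMonoidHom := by
      nth_rw 1 [Setting.D]
      rw [Subgroup.closure_le]
      rintro y (rfl | rfl)
      · show S.z ^ (i : ℕ) * S.ψ σ * S.z * (S.z ^ (i : ℕ) * S.ψ σ)⁻¹ ∈ S.D
        rw [hgz.eq, mul_inv_cancel_right]
        exact S.z_mem_D
      · show S.z ^ (i : ℕ) * S.ψ σ * S.r * (S.z ^ (i : ℕ) * S.ψ σ)⁻¹ ∈ S.D
        rw [show S.z ^ (i : ℕ) * S.ψ σ * S.r * (S.z ^ (i : ℕ) * S.ψ σ)⁻¹ =
          S.z ^ (i : ℕ) * (S.ψ σ * S.r * (S.ψ σ)⁻¹) * (S.z ^ (i : ℕ))⁻¹ by group]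
        have h2 : S.ψ σ * S.r * (S.ψ σ)⁻¹ = S.ψ (σ * c3 * σ⁻¹) := by
          rw [map_mul, map_mul, map_inv]; rfl
        rw [h2, ((S.z_comm _).pow_left _).eq, mul_inv_cancel_right]
        rcases cent_tau' σ hσ with h | h <;> rw [h]
        · exact S.r_mem_D
        · rw [map_inv]; exact inv_mem S.r_mem_D
    exact hle hx
  have hr : ∀ g : G, Commute g S.τ0 → Commute g S.r → ∀ x ∈ S.D, g * x * g⁻¹ ∈ S.D := by
    intro g hgτ hgr
    have hti := S.t_inv
    have hconjD : ∀ y ∈ S.D, S.t * y * S.t ∈ S.D := by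
      intro y hy
      obtain ⟨i, j, rfl⟩ := S.mem_D.1 hy
      rw [S.t_conj_mul, S.t_conj_pow, S.t_conj_pow, S.tz, S.tr]
      exact mul_mem (pow_mem S.r_mem_D _) (pow_mem S.z_mem_D _)
    have h1 : Commute (S.t * g * S.t) S.τ0 := (S.tτ.mul_left hgτ).mul_left S.tτ
    have h2 : Commute (S.t * g * S.t) S.z := by
      have h := hgr.map (MulAut.conj S.t).toMonoidHom
      simpa [hti, S.tr] using h
    intro x hx
    have h3 := hconjD _ (hz _ h1 h2 _ (hconjD x hx))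
    have hti2 : (S.t * g * S.t)⁻¹ = S.t * g⁻¹ * S.t := by
      rw [mul_inv_rev, mul_inv_rev, hti, mul_assoc]
    rwa [hti2, S.t_conj_mul, S.t_conj_mul, S.tt_conj, S.tt_conj, S.tt_conj] at h3
  rcases S.D_cases hd with h | h | h | h | h | h
  · exact absurd h hd1
  · exact hz g hgτ (h ▸ hg)
  · exact hz g hgτ (by simpa using (h ▸ hg : Commute g S.z⁻¹).inv_right)
  · exact hr g hgτ (h ▸ hg)
  · exact hr g hgτ (by simpa using (h ▸ hg : Commute g S.r⁻¹).inv_right)
  · exact fun x hx => S.isY_norm h hg hx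

/-- The centraliser of `τ0` normalises `D` or maps onto the symmetric group of degree six. -/
theorem cent_tau_or [Finite G]
    [((Subgroup.centralizer (S.D : Set G)).subgroupOf (Subgroup.normalizer (S.D : Set G))).Normal]
    (eNC : Subgroup.normalizer (S.D : Set G) ⧸ (Subgroup.centralizer (S.D : Set G)).subgroupOf
      (Subgroup.normalizer (S.D : Set G)) ≃* DihedralGroup 4) :
    (∀ g, Commute g S.τ0 → g ∈ Subgroup.normalizer (S.D : Set G)) ∨
      ∃ f : Subgroup.centralizer ({S.τ0} : Set G) →* Perm (Fin 6), Function.Surjective f ∧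
        ∀ g, f g = 1 ↔ ((g : G) = 1 ∨ (g : G) = S.τ0) := by
  classical
  haveI : Fact (Nat.Prime 3) := ⟨Nat.prime_three⟩
  set C := Subgroup.centralizer ({S.τ0} : Set G) with hCdef
  set N := Subgroup.normalizer (S.D : Set G) with hNdef
  have hmemC : ∀ {g : G}, g ∈ C ↔ Commute g S.τ0 := Subgroup.mem_centralizer_singleton_iff
  have hNC : ∀ {g : G}, g ∈ N → g ∈ C := fun hg => hmemC.mpr (S.norm_fix_tau hg)
  have hDC : ∀ {d : G}, d ∈ S.D → d ∈ C := fun hd => hNC (Subgroup.le_normalizer hd)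
  set τC : C := ⟨S.τ0, hmemC.mpr (Commute.refl _)⟩
  set Z := Subgroup.zpowers τC with hZ
  haveI : Z.Normal := ⟨fun x hx g => by
    obtain ⟨n, rfl⟩ := Subgroup.mem_zpowers_iff.mp hx
    have h : g * τC ^ n * g⁻¹ = τC ^ n := by
      have : Commute g τC := Subtype.ext (hmemC.mp g.2).eq
      rw [(this.zpow_right n).eq, mul_inv_cancel_right]
    rw [h]; exact hx⟩
  have hZmem : ∀ g : C, g ∈ Z ↔ ((g : G) = 1 ∨ (g : G) = S.τ0) := by
    intro g
    constructor
    · intro hg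
      obtain ⟨n, rfl⟩ := Subgroup.mem_zpowers_iff.mp hg
      rcases Int.even_or_odd n with ⟨m, rfl⟩ | ⟨m, rfl⟩
      · left
        rw [zpow_add, ← (Commute.refl τC).mul_zpow, show τC * τC = 1 from Subtype.ext S.τ0_sq,
          one_zpow]
        rfl
      · right
        rw [zpow_add_one, zpow_mul, zpow_ofNat, pow_two, show τC * τC = 1 from Subtype.ext S.τ0_sq,
          one_zpow, one_mul]
    · rintro (h | h)
      · rw [show g = 1 from Subtype.ext h]; exact one_mem _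
      · rw [show g = τC from Subtype.ext h]; exact Subgroup.mem_zpowers _
  let π := QuotientGroup.mk' Z
  have hπ : ∀ g : C, π g = 1 ↔ ((g : G) = 1 ∨ (g : G) = S.τ0) :=
    fun g => (QuotientGroup.eq_one_iff g).trans (hZmem g)
  set SD := (S.D.subgroupOf C).map π with hSD
  have hdD : ∀ {d : G}, d ∈ S.D → d * d * d = 1 := by
    intro d hd
    obtain ⟨i, j, rfl⟩ := S.mem_D.1 hd
    rw [← pow_two, ← pow_succ, (S.zr.pow_pow _ _).mul_pow, ← pow_mul, ← pow_mul, mul_comm,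
      mul_comm (j : ℕ), pow_mul, pow_mul, S.z_pow3, S.r_pow3, one_pow, one_pow, one_mul]
  have hτD : S.τ0 ∉ S.D := fun h => by
    have h3 := hdD h
    rw [S.τ0_sq, one_mul] at h3
    exact S.τ0_ne h3
  have hinjD : ∀ d : C, (d : G) ∈ S.D → π d = 1 → d = 1 := by
    intro d hd h
    rcases (hπ d).mp h with e | e
    · exact Subtype.ext e
    · exact absurd (e ▸ hd) hτD
  have hcardSD : Nat.card SD = 9 := by
    rw [← S.card_D, ← Nat.card_congr (Subgroup.subgroupOfEquivOfLe (fun d hd => hDC hd :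
      S.D ≤ C)).toEquiv]
    refine (Nat.card_congr (Equiv.ofBijective
      (fun d : S.D.subgroupOf C => (⟨π d, ⟨d, d.2, rfl⟩⟩ : SD)) ⟨fun a b h => ?_, ?_⟩)).symm
    · have h' : π a = π b := congrArg Subtype.val h
      have h'' : π ((a : C)⁻¹ * b) = 1 := by rw [map_mul, map_inv, h', inv_mul_cancel]
      exact Subtype.ext (inv_mul_eq_one.mp
        (hinjD _ (S.D.mul_mem (S.D.inv_mem a.2) b.2) h''))
    · rintro ⟨_, d, hd, rfl⟩
      exact ⟨⟨d, hd⟩, rfl⟩
  -- conjugates modulo `τ0` of elements of `D`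
  have hmod : ∀ (g : C) (d e : G) (hd : d ∈ S.D) (he : e ∈ S.D),
      π (g * ⟨d, hDC hd⟩ * g⁻¹) = π ⟨e, hDC he⟩ → (g : G) * d * (g : G)⁻¹ = e := by
    intro g d e hd he h
    have h1 : π ((g * ⟨d, hDC hd⟩ * g⁻¹) * ⟨e, hDC he⟩⁻¹) = 1 := by
      rw [map_mul, h, map_inv, mul_inv_cancel]
    rcases (hπ _).mp h1 with e1 | e1
    · exact mul_inv_eq_one.mp e1
    · exfalso
      have e2 : (g : G) * d * (g : G)⁻¹ = S.τ0 * e := mul_inv_eq_iff_eq_mul.mp e1
      have h3 : S.τ0 * e * (S.τ0 * e) * (S.τ0 * e) = 1 := by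
        rw [← e2, show (g : G) * d * (g : G)⁻¹ * ((g : G) * d * (g : G)⁻¹) *
          ((g : G) * d * (g : G)⁻¹) = (g : G) * (d * d * d) * (g : G)⁻¹ by group, hdD hd, mul_one,
          mul_inv_cancel]
      have hc : Commute S.τ0 e := (hmemC.mp (hDC he)).symm
      rw [show S.τ0 * e * (S.τ0 * e) * (S.τ0 * e) = (S.τ0 * e) ^ 3 by
        rw [pow_succ, pow_two], hc.mul_pow, pow_succ, pow_two, S.τ0_sq, one_mul,
        pow_succ, pow_two, hdD he, mul_one] at h3
      exact S.τ0_ne h3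
  have hdvd : ¬ 3 ∣ SD.index := by
    intro h
    have h1 : 27 ∣ Nat.card (C ⧸ Z) := by
      rw [← SD.index_mul_card, hcardSD, mul_comm, show 27 = 9 * 3 from rfl]
      exact Nat.mul_dvd_mul_left 9 h
    have h2 : 27 ∣ Nat.card G :=
      (h1.trans (Subgroup.card_quotient_dvd_card Z)).trans (Subgroup.card_subgroup_dvd_card C)
    have h3 := S.P.not_dvd_index
    rw [S.D_eq_P] at h3
    rw [← S.D.index_mul_card, S.card_D, mul_comm, show 27 = 9 * 3 from rfl] at h2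
    exact h3 (Nat.dvd_of_mul_dvd_mul_left (by norm_num) h2)
  have hp : IsPGroup 3 SD := IsPGroup.of_card (n := 2) (by rw [hcardSD]; rfl)
  set P' : Sylow 3 (C ⧸ Z) := hp.toSylow hdvd with hP'
  have hP'eq : SD = (P' : Subgroup (C ⧸ Z)) := rfl
  have hCSD : Subgroup.centralizer (SD : Set (C ⧸ Z)) = SD := by
    refine le_antisymm (fun q hq => ?_) ?_
    · obtain ⟨g, rfl⟩ := QuotientGroup.mk'_surjective Z q
      have key : ∀ (d : G) (hd : d ∈ S.D), Commute (g : G) d := by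
        intro d hd
        have h := hq (π ⟨d, hDC hd⟩) ⟨⟨d, hDC hd⟩, hd, rfl⟩
        refine mul_inv_eq_iff_eq_mul.mp (hmod g d d hd hd ?_)
        rw [map_mul, map_mul, map_inv, ← h, mul_inv_cancel_right]
      obtain ⟨i, j, k, hg⟩ := S.cent_D g (key _ S.z_mem_D) (key _ S.r_mem_D)
      have hd : S.z ^ (i : ℕ) * S.r ^ (j : ℕ) ∈ S.D := S.mem_D.2 ⟨i, j, rfl⟩
      refine ⟨⟨_, hDC hd⟩, hd, ?_⟩
      rw [← inv_mul_eq_one, ← map_inv, ← map_mul, hπ]
      have e : ((⟨_, hDC hd⟩⁻¹ * g : C) : G) = S.τ0 ^ (k : ℕ) := by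
        show (S.z ^ (i : ℕ) * S.r ^ (j : ℕ))⁻¹ * (g : G) = _
        rw [hg, inv_mul_cancel_left]
      fin_cases k
      · exact Or.inl (by simpa using e)
      · exact Or.inr (by simpa using e)
    · rintro _ ⟨a, ha, rfl⟩ _ ⟨b, hb, rfl⟩
      rw [← map_mul, ← map_mul]
      congr 1
      obtain ⟨i, j, hi⟩ := S.mem_D.1 (show (a : G) ∈ S.D from ha)
      obtain ⟨k, l, hk⟩ := S.mem_D.1 (show (b : G) ∈ S.D from hb)
      refine Subtype.ext ?_
      show (b : G) * a = a * b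
      rw [hi, hk]
      exact ((((Commute.refl S.z).pow_pow _ _).mul_right (S.zr.pow_pow _ _)).mul_left
        ((S.zr.symm.pow_pow _ _).mul_right ((Commute.refl S.r).pow_pow _ _))).eq
  have hnormSD : ∀ g : C, π g ∈ Subgroup.normalizer (SD : Set (C ⧸ Z)) ↔ (g : G) ∈ N := by
    intro g
    constructor
    · intro hg
      rw [hNdef, S.normalizer_iff]
      intro d hd
      obtain ⟨e, he, hee⟩ :=
        (Subgroup.mem_normalizer_iff.mp hg (π ⟨d, hDC hd⟩)).mp ⟨⟨d, hDC hd⟩, hd, rfl⟩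
      rw [hmod g d e hd he (by rw [map_mul, map_mul, map_inv]; exact hee.symm)]
      exact he
    · intro hg
      rw [Subgroup.mem_normalizer_iff_map_conj_eq]
      refine Subgroup.eq_of_le_of_card_ge ?_
        (Subgroup.card_map_of_injective (MulAut.conj (π g)).injective).ge
      rintro _ ⟨_, ⟨d, hd, rfl⟩, rfl⟩
      refine ⟨g * d * g⁻¹, (S.normalizer_iff.mp hg) d hd, ?_⟩
      simp
  have hcent : ∀ x ∈ SD, x ≠ 1 →
      Subgroup.centralizer ({x} : Set (C ⧸ Z)) ≤ Subgroup.normalizer (SD : Set (C ⧸ Z)) := by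
    rintro _ ⟨d, hd, rfl⟩ hx1 q hq
    obtain ⟨g, rfl⟩ := QuotientGroup.mk'_surjective Z q
    rw [hnormSD, hNdef, S.normalizer_iff]
    have h := Subgroup.mem_centralizer_singleton_iff.mp hq
    have hgd : Commute (g : G) (d : G) := by
      refine mul_inv_eq_iff_eq_mul.mp (hmod g d d hd hd ?_)
      show π (g * d * g⁻¹) = π d
      rw [map_mul, map_mul, map_inv, h, mul_inv_cancel_right]
    refine S.cent_tau_norm (hmemC.mp g.2) hd ?_ hgd
    intro h1
    exact hx1 (by rw [show d = 1 from Subtype.ext h1, map_one])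
  -- the quotient of the normaliser
  let incl : N →* Subgroup.normalizer (SD : Set (C ⧸ Z)) :=
    (π.comp (Subgroup.inclusion (fun _ hg => hNC hg : N ≤ C))).codRestrict _
      fun g => (hnormSD ⟨g, hNC g.2⟩).mpr g.2
  let q := (QuotientGroup.mk' (SD.subgroupOf (Subgroup.normalizer (SD : Set (C ⧸ Z))))).comp incl
  have hqs : Function.Surjective q := by
    intro x
    obtain ⟨⟨y, hy⟩, rfl⟩ := QuotientGroup.mk'_surjective _ x
    obtain ⟨g, rfl⟩ := QuotientGroup.mk'_surjective Z y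
    exact ⟨⟨g, (hnormSD g).mp hy⟩, rfl⟩
  have hqk : q.ker = (Subgroup.centralizer (S.D : Set G)).subgroupOf N := by
    ext g
    rw [MonoidHom.mem_ker]
    show (QuotientGroup.mk' _) (incl g) = 1 ↔ _
    rw [QuotientGroup.mk'_apply, QuotientGroup.eq_one_iff, Subgroup.mem_subgroupOf,
      Subgroup.mem_subgroupOf]
    constructor
    · rintro ⟨d, hd, hdg⟩
      have h1 : π (d⁻¹ * ⟨g, hNC g.2⟩) = 1 := by
        rw [map_mul, map_inv, inv_mul_eq_one]; exact hdg
      intro x hx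
      obtain ⟨i, j, hi⟩ := S.mem_D.1 (show (d : G) ∈ S.D from hd)
      obtain ⟨k, l, rfl⟩ := S.mem_D.1 hx
      have hg : (g : G) = d * ((d : G)⁻¹ * g) := (mul_inv_cancel_left _ _).symm
      have hdx : Commute (S.z ^ (k : ℕ) * S.r ^ (l : ℕ)) (d : G) := by
        rw [hi]
        exact (((Commute.refl S.z).pow_pow _ _).mul_right (S.zr.pow_pow _ _)).mul_left
          ((S.zr.symm.pow_pow _ _).mul_right ((Commute.refl S.r).pow_pow _ _))
      have htx : Commute (S.z ^ (k : ℕ) * S.r ^ (l : ℕ)) ((d : G)⁻¹ * g) := by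
        rcases (hπ _).mp h1 with e | e
        · rw [show (d : G)⁻¹ * g = 1 from e]; exact Commute.one_right _
        · rw [show (d : G)⁻¹ * g = S.τ0 from e]
          exact (S.zτ.pow_left _).mul_left (S.rτ.pow_left _)
      rw [hg]
      exact hdx.mul_right htx
    · intro hg
      obtain ⟨i, j, k, h⟩ := S.cent_D g (hg _ S.z_mem_D).symm (hg _ S.r_mem_D).symm
      have hd : S.z ^ (i : ℕ) * S.r ^ (j : ℕ) ∈ S.D := S.mem_D.2 ⟨i, j, rfl⟩
      refine ⟨⟨_, hDC hd⟩, hd, ?_⟩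
      show π _ = π ⟨g, hNC g.2⟩
      rw [← inv_mul_eq_one, ← map_inv, ← map_mul, hπ]
      have e : (S.z ^ (i : ℕ) * S.r ^ (j : ℕ))⁻¹ * (g : G) = S.τ0 ^ (k : ℕ) := by
        rw [h, inv_mul_cancel_left]
      fin_cases k
      · exact Or.inl (by simpa using e)
      · exact Or.inr (by simpa using e)
  have eN : Subgroup.normalizer (SD : Set (C ⧸ Z)) ⧸
      SD.subgroupOf (Subgroup.normalizer (SD : Set (C ⧸ Z))) ≃* DihedralGroup 4 :=
    ((QuotientGroup.quotientKerEquivOfSurjective q hqs).symm.trans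
      (QuotientGroup.quotientMulEquivOfEq hqk)).trans eNC
  rcases Cfsg.Agent.S3333.result P' SD hP'eq hcardSD hCSD eN hcent with h | ⟨⟨e⟩⟩
  · left
    intro g hg
    refine (hnormSD ⟨g, hmemC.mpr hg⟩).mp ?_
    rw [Subgroup.normalizer_eq_top_iff.mpr h]
    trivial
  · right
    refine ⟨e.toMonoidHom.comp π, e.surjective.comp (QuotientGroup.mk'_surjective Z), fun g => ?_⟩
    rw [← hπ]
    exact e.map_eq_one_iff

end Setting

end Cfsg.Agent.H86.SymEight
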