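import Cfsg.Agent.H86.SymEight.Image
import Cfsg.Agent.H86.SymEight.Tau

/-!
The two types of configurations.
-/

set_option autoImplicit false
set_option synthInstance.maxSize 4000
set_option linter.style.haveILetI false

namespace Cfsg.Agent.H86.SymEight

open Equiv

/-- The permutation `(1 3)(2 4)`. -/
def aa : Perm (Fin 5) := swap 1 3 * swap 2 4

/-- The transposition `(0 4)`. -/
def s04 : Perm (Fin 5) := swap 0 4

theorem aa_facts : aa * aa = 1 ∧ aa * tau * aa = uu ∧ aa * uu * aa = tau ∧ s04 * s04 = 1 ∧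
    s04 * (uu * tau) * s04 = va * vb ∧ s04 * aa * s04 = vb := by
  decide +kernel

theorem cent_dt : ∀ σ : Perm (Fin 5), σ * (uu * tau) = (uu * tau) * σ → σ * σ * σ = 1 → σ = 1 := by
  decide +kernel

theorem tau_conj_uu : ∃ g : Perm (Fin 5), g * tau * g⁻¹ = uu := by
  decide +kernel

theorem three_noncomm : ∃ g : Perm (Fin 5),
    (g * c3 * g⁻¹) * c3 ≠ c3 * (g * c3 * g⁻¹) := by
  decide +kernel

namespace Setting

variable {G : Type*} [Group G] (S : Setting G)

/-- The inverting involution acts as a transposition on the component of `r`. -/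
def TypeA : Prop := S.w = S.φ uu

/-- The inverting involution acts as a double transposition on the component of `r`. -/
def TypeB : Prop := S.w = S.φ (uu * tau)

theorem typeA_or_typeB : S.TypeA ∨ S.TypeB := S.w_cases

/-- The property defining the Carmichael generator attached to the last point. -/
def IsX (k : Fin 5) (x : G) : Prop :=
  x ∈ S.X k ∧ (x ≠ 1 ∧ S.z * x ≠ 1) ∧ x * x * x = 1 ∧ S.w * x * S.w = x⁻¹ ∧ (S.z * x) * (S.z * x) = 1

include S in
theorem card_dvd_three [Finite G] {H : Subgroup G} (hp : IsPGroup 3 H) : Nat.card H ≤ 9 := by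
  haveI : Fact (Nat.Prime 3) := ⟨Nat.prime_three⟩
  obtain ⟨n, hn⟩ := hp.exists_card_eq
  rw [hn]
  by_contra hlt
  have hn3 : 3 ≤ n := by
    by_contra h
    interval_cases n <;> norm_num at hlt
  have h27 : 27 ∣ Nat.card G :=
    ((pow_dvd_pow 3 hn3).trans hn.symm.dvd).trans (Subgroup.card_subgroup_dvd_card H)
  have h3 := S.P.not_dvd_index
  rw [S.D_eq_P] at h3
  rw [← S.D.index_mul_card, S.card_D, mul_comm, show 27 = 9 * 3 from rfl] at h27
  exact h3 (Nat.dvd_of_mul_dvd_mul_left (by norm_num) h27)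

/-- `τ0` is not conjugate to a double transposition of the component. -/
theorem dt_not_conj [Finite G] (g : G) : g * S.τ0 * g⁻¹ ≠ S.ψ (uu * tau) := by
  intro hg
  haveI : Fact (Nat.Prime 3) := ⟨Nat.prime_three⟩
  set C := Subgroup.centralizer ({S.ψ (uu * tau)} : Set G) with hC
  set Q := (S.D.map (MulAut.conj g).toMonoidHom) with hQ
  have hQC : Q ≤ C := by
    rintro _ ⟨d, hd, rfl⟩
    obtain ⟨i, j, rfl⟩ := S.mem_D.1 hd
    have h : Commute (S.z ^ (i : ℕ) * S.r ^ (j : ℕ)) S.τ0 :=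
      (S.zτ.pow_left _).mul_left (S.rτ.pow_left _)
    have h' := h.map (MulAut.conj g).toMonoidHom
    rw [MulEquiv.coe_toMonoidHom, MulAut.conj_apply _ S.τ0, hg] at h'
    exact Subgroup.mem_centralizer_singleton_iff.mpr h'.eq
  have hQcard : Nat.card (Q.subgroupOf C) = 9 := by
    rw [Nat.card_congr (Subgroup.subgroupOfEquivOfLe hQC).toEquiv,
      Subgroup.card_map_of_injective (MulAut.conj g).injective, S.card_D]
  have hzC : S.z ∈ C := Subgroup.mem_centralizer_singleton_iff.mpr (S.z_comm _).eq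
  have hzp : IsPGroup 3 (Subgroup.zpowers (⟨S.z, hzC⟩ : C)) := by
    refine IsPGroup.of_card (n := 1) ?_
    rw [Nat.card_zpowers, pow_one]
    exact orderOf_eq_prime (Subtype.ext S.z_pow3) fun h => S.z_ne (congrArg Subtype.val h)
  obtain ⟨P1, hP1⟩ := hzp.exists_le_sylow
  have hQp : IsPGroup 3 (Q.subgroupOf C) := IsPGroup.of_card (n := 2) (by rw [hQcard]; rfl)
  obtain ⟨P2, hP2⟩ := hQp.exists_le_sylow
  have hP : Nat.card P1 = 9 := by
    have h1 : 9 ≤ Nat.card P2 := hQcard ▸ Subgroup.card_le_of_le hP2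
    have h2 : Nat.card P1 = Nat.card P2 := by rw [P1.card_eq_multiplicity, P2.card_eq_multiplicity]
    have h3 : Nat.card ((P1 : Subgroup C).map C.subtype) ≤ 9 :=
      S.card_dvd_three (P1.isPGroup'.map C.subtype)
    rw [Subgroup.card_map_of_injective C.subtype_injective] at h3
    omega
  haveI := IsPGroup.isMulCommutative_of_card_eq_prime_sq (G := P1) (p := 3) (by rw [hP]; rfl)
  have hzP : (⟨S.z, hzC⟩ : C) ∈ (P1 : Subgroup C) := hP1 (Subgroup.mem_zpowers _)
  have key : ∀ p : P1, ∃ i : Fin 3, ((p : C) : G) = S.z ^ (i : ℕ) := by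
    intro p
    have hc : Commute ((p : C) : G) S.z :=
      congrArg (fun x : P1 => ((x : C) : G))
        ((IsMulCommutative.is_comm (M := P1)).comm p ⟨_, hzP⟩)
    obtain ⟨i, σ, hσ⟩ := S.cz _ hc
    refine ⟨i, ?_⟩
    have h9 : (((p : C) : G)) ^ 9 = 1 := by
      have h := pow_card_eq_one' (x := p)
      have h' := congrArg (fun x : P1 => ((x : C) : G)) h
      simp only [SubgroupClass.coe_pow, OneMemClass.coe_one] at h'
      exact (congrArg ((((p : C) : G)) ^ ·) hP.symm).trans h'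
    have hcm : σ * (uu * tau) = (uu * tau) * σ := by
      have h : Commute (S.z ^ (i : ℕ) * S.ψ σ) (S.ψ (uu * tau)) :=
        hσ ▸ Subgroup.mem_centralizer_singleton_iff.mp (p : C).2
      have h' := (((S.z_comm (uu * tau)).pow_left (i : ℕ)).inv_left).mul_left h
      rw [inv_mul_cancel_left] at h'
      exact S.inj (by rw [map_mul S.ψ σ, map_mul S.ψ _ σ]; exact h'.eq)
    have hσ9 : σ ^ 9 = 1 := by
      rw [hσ, ((S.z_comm σ).pow_left _).mul_pow, ← pow_mul, mul_comm, show 9 = 3 * 3 from rfl,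
        mul_assoc, pow_mul, S.z_pow3, one_pow, one_mul, ← map_pow] at h9
      exact S.inj (h9.trans (map_one S.ψ).symm)
    have h3 := cent_dt (σ ^ 3) ((Commute.pow_left (show Commute σ (uu * tau) from hcm) 3).eq)
      (by rw [← pow_add, ← pow_add, show 3 + 3 + 3 = 9 from rfl, hσ9])
    have h1 := cent_dt σ hcm (by rw [← pow_two, ← pow_succ]; exact h3)
    rw [hσ, h1, map_one, mul_one]
  have hinj : Function.Injective fun p : P1 => (key p).choose := by
    intro p q h
    refine Subtype.ext (Subtype.ext ?_)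
    rw [(key p).choose_spec, (key q).choose_spec]
    exact congrArg (fun i : Fin 3 => S.z ^ (i : ℕ)) h
  have := Nat.card_le_card_of_injective _ hinj
  have h93 : (9 : ℕ) ≤ 3 := hP.symm.le.trans (this.trans (Nat.card_fin 3).le)
  norm_num at h93

/-- In the first type the centraliser of `τ0` does not normalise `D`. -/
theorem typeA_not_norm [Finite G] (hA : S.TypeA) :
    ¬ ∀ g, Commute g S.τ0 → g ∈ Subgroup.normalizer (S.D : Set G) := by
  intro hn
  haveI : Fact (Nat.Prime 3) := ⟨Nat.prime_three⟩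
  obtain ⟨g0, hg0⟩ := tau_conj_uu
  obtain ⟨g1, hg1⟩ := three_noncomm
  set γ := S.φ g0 with hγ
  have hwτ : γ * S.τ0 * γ⁻¹ = S.w := by
    rw [hA, hγ, ← S.φ_tau, ← map_inv, ← map_mul, ← map_mul, hg0]
  have key : ∀ σ : Perm (Fin 5), σ * σ * σ = 1 → γ⁻¹ * S.ψ σ * γ ∈ S.D := by
    intro σ hσ
    set x := γ⁻¹ * S.ψ σ * γ with hxdef
    have hc : Commute x S.τ0 := by
      have h := (S.w_comm σ).symm.map (MulAut.conj γ⁻¹).toMonoidHom
      simp only [MulEquiv.coe_toMonoidHom, MulAut.conj_apply, inv_inv] at h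
      rwa [show γ⁻¹ * S.w * γ = S.τ0 by rw [← hwτ]; group] at h
    set N := Subgroup.normalizer (S.D : Set G) with hN
    have hxN : x ∈ N := hn x hc
    have hxp : IsPGroup 3 (Subgroup.zpowers x) := by
      intro a
      refine ⟨1, ?_⟩
      obtain ⟨n, hn⟩ := Subgroup.mem_zpowers_iff.mp a.2
      refine Subtype.ext ?_
      show (a : G) ^ (3 ^ 1) = 1
      have hx3 : x ^ (3 : ℕ) = 1 := by
        rw [hxdef, show γ⁻¹ * S.ψ σ * γ = γ⁻¹ * S.ψ σ * (γ⁻¹)⁻¹ by group, conj_pow, ← map_pow,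
          show σ ^ 3 = 1 by rw [pow_succ, pow_two, hσ], map_one]
        group
      rw [← hn, pow_one, ← zpow_natCast, ← zpow_mul, mul_comm, zpow_mul, zpow_natCast, hx3,
        one_zpow]
    have hle : Subgroup.zpowers x ≤ N := Subgroup.zpowers_le.mpr hxN
    have hsup : IsPGroup 3 (Subgroup.zpowers x ⊔ S.D : Subgroup G) := by
      refine hxp.to_sup_of_normal_right' ?_ hle
      exact IsPGroup.of_card (n := 2) (by rw [S.card_D]; rfl)
    have h9 := S.card_dvd_three hsup
    have heq : S.D = Subgroup.zpowers x ⊔ S.D :=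
      Subgroup.eq_of_le_of_card_ge le_sup_right (by rw [S.card_D]; exact h9)
    rw [heq]
    exact Subgroup.mem_sup_left (Subgroup.mem_zpowers x)
  have h1 := key c3 c3_cube
  have h2 := key (g1 * c3 * g1⁻¹) (by
    rw [show g1 * c3 * g1⁻¹ * (g1 * c3 * g1⁻¹) * (g1 * c3 * g1⁻¹) = g1 * (c3 * c3 * c3) * g1⁻¹ by
      group, c3_cube, mul_one, mul_inv_cancel])
  obtain ⟨i, j, hi⟩ := S.mem_D.1 h1
  obtain ⟨k, l, hk⟩ := S.mem_D.1 h2
  have hc : Commute (γ⁻¹ * S.ψ (g1 * c3 * g1⁻¹) * γ) (γ⁻¹ * S.ψ c3 * γ) := by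
    rw [hi, hk]
    exact (((Commute.refl S.z).pow_pow _ _).mul_right (S.zr.pow_pow _ _)).mul_left
      ((S.zr.symm.pow_pow _ _).mul_right ((Commute.refl S.r).pow_pow _ _))
  have h := hc.map (MulAut.conj γ).toMonoidHom
  simp only [MulEquiv.coe_toMonoidHom, MulAut.conj_apply] at h
  have e : ∀ a : G, γ * (γ⁻¹ * a * γ) * γ⁻¹ = a := fun a => by group
  rw [e, e] at h
  exact hg1 (S.inj (by rw [map_mul S.ψ _ c3, map_mul S.ψ c3]; exact h.eq))

/-- The symmetric group of degree six forces the first type. -/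
theorem six_typeA [Finite G]
    {C : Subgroup G} (hCdef : C = Subgroup.centralizer ({S.τ0} : Set G))
    (f : C →* Perm (Fin 6)) (hf : Function.Surjective f)
    (hk : ∀ g, f g = 1 ↔ ((g : G) = 1 ∨ (g : G) = S.τ0)) :
    S.TypeA ∧ Nat.card C = 1440 ∧ ∃ x, S.IsX 4 x := by
  classical
  have hmemC : ∀ {g : G}, g ∈ C ↔ Commute g S.τ0 := fun {g} => by
    rw [hCdef]; exact Subgroup.mem_centralizer_singleton_iff
  have hkcard : Nat.card f.ker = 2 := by
    rw [← Nat.card_fin 2]
    refine (Nat.card_congr (Equiv.ofBijective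
      (fun i : Fin 2 => (⟨⟨S.τ0 ^ (i : ℕ), pow_mem (hmemC.mpr (Commute.refl _)) _⟩, by
        rw [MonoidHom.mem_ker, hk]
        fin_cases i
        · left; simp
        · right; simp⟩ : f.ker)) ⟨fun a b h => ?_, fun x => ?_⟩)).symm
    · have h' : S.τ0 ^ (a : ℕ) = S.τ0 ^ (b : ℕ) :=
        congrArg (fun y : f.ker => ((y : C) : G)) h
      fin_cases a <;> fin_cases b <;> simp at h' <;> first
        | rfl
        | exact absurd h' S.τ0_ne
        | exact absurd h'.symm S.τ0_ne
    · rcases (hk x.1).mp x.2 with h | h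
      · exact ⟨0, Subtype.ext (Subtype.ext (by simpa using h.symm))⟩
      · exact ⟨1, Subtype.ext (Subtype.ext (by simpa using h.symm))⟩
  have hcardC : Nat.card C = 1440 := by
    rw [Subgroup.card_eq_card_quotient_mul_card_subgroup f.ker, hkcard,
      Nat.card_congr (QuotientGroup.quotientKerEquivOfSurjective f hf).toEquiv, Nat.card_perm,
      Nat.card_fin]
    rfl
  -- the involution `u` of the component
  set u := S.ψ uu with hu
  have huC : u ∈ C := hmemC.mpr ((show Commute uu tau from uu_tau).map S.ψ)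
  have hzC : S.z ∈ C := hmemC.mpr S.zτ
  have hwC : S.w ∈ C := hmemC.mpr S.wτ
  set uC : C := ⟨u, huC⟩
  set zC : C := ⟨S.z, hzC⟩
  have hfu : f uC ≠ 1 := by
    rw [ne_eq, hk]
    rintro (h | h)
    · exact absurd (S.inj (h.trans (map_one S.ψ).symm)) (by decide +kernel)
    · exact absurd (S.inj h) (by decide +kernel)
  have hfz : f zC ≠ 1 := by
    rw [ne_eq, hk]
    rintro (h | h)
    · exact S.z_ne h
    · exact S.z_notin ⟨tau, h.symm⟩
  set CU := C ⊓ Subgroup.centralizer ({u} : Set G) with hCU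
  have hmemCU : ∀ {g : G}, g ∈ CU ↔ Commute g S.τ0 ∧ Commute g u := fun {g} =>
    and_congr hmemC Subgroup.mem_centralizer_singleton_iff
  have hCUcard : Nat.card CU = 96 := by
    have h1 : Nat.card ((Subgroup.centralizer ({f uC} : Set (Perm (Fin 6)))).comap f) = 96 := by
      rw [card_comap_surj f hf, hkcard, perm_six_card (f uC)
        (by rw [← map_mul, show uC * uC = 1 from Subtype.ext (by
          show u * u = 1
          rw [hu, ← map_mul, uu_sq, map_one]), map_one]) hfu (f zC)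
        (by rw [← map_mul, ← map_mul]; exact congrArg f (Subtype.ext (S.z_comm uu).symm.eq))
        (by rw [← map_mul, ← map_mul, show zC * zC * zC = 1 from Subtype.ext S.z3, map_one]) hfz]
    have e : (Subgroup.centralizer ({f uC} : Set (Perm (Fin 6)))).comap f = CU.subgroupOf C := by
      ext g
      rw [Subgroup.mem_comap, Subgroup.mem_centralizer_singleton_iff, Subgroup.mem_subgroupOf,
        hmemCU]
      constructor
      · intro h
        refine ⟨hmemC.mp g.2, ?_⟩
        have h1 : f (g * uC * g⁻¹ * uC⁻¹) = 1 := by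
          rw [map_mul, map_mul, map_mul, map_inv, map_inv, h, mul_inv_cancel_right, mul_inv_cancel]
        rcases (hk _).mp h1 with e | e
        · exact mul_inv_eq_iff_eq_mul.mp (mul_inv_eq_one.mp e)
        · exfalso
          have e2 : (g : G) * u * (g : G)⁻¹ = S.τ0 * u := mul_inv_eq_iff_eq_mul.mp e
          obtain ⟨g0, hg0⟩ := tau_conj_uu
          refine S.dt_not_conj ((g : G) * S.ψ g0) ?_
          rw [show S.ψ (uu * tau) = S.τ0 * u by rw [map_mul, hu]; exact
            ((show Commute uu tau from uu_tau).map S.ψ).eq, ← e2,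
            show u = S.ψ g0 * S.τ0 * (S.ψ g0)⁻¹ by
              rw [hu, τ0, ← map_inv, ← map_mul, ← map_mul, hg0]]
          group
      · rintro ⟨-, h⟩
        rw [← map_mul, ← map_mul]
        exact congrArg f (Subtype.ext h.eq)
    rw [e, Nat.card_congr (Subgroup.subgroupOfEquivOfLe inf_le_left).toEquiv] at h1
    exact h1
  -- the four-group
  set U : Subgroup G := (Subgroup.closure {uu, tau}).map S.ψ with hU
  have hUel : ∀ σ ∈ Subgroup.closure ({uu, tau} : Set (Perm (Fin 5))),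
      σ = 1 ∨ σ = uu ∨ σ = tau ∨ σ = uu * tau := by
    intro σ hσ
    have hle : Subgroup.closure ({uu, tau} : Set (Perm (Fin 5))) ≤
        Subgroup.centralizer ({uu} : Set (Perm (Fin 5))) ⊓ Subgroup.centralizer {tau} := by
      rw [Subgroup.closure_le]
      rintro x (rfl | rfl) <;>
        simp only [SetLike.mem_coe, Subgroup.mem_inf, Subgroup.mem_centralizer_singleton_iff]
      · exact ⟨trivial, uu_tau⟩
      · exact ⟨uu_tau.symm, trivial⟩
    obtain ⟨h1, h2⟩ := hle hσ
    exact cent_uu_tau σ (Subgroup.mem_centralizer_singleton_iff.mp h1)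
      (Subgroup.mem_centralizer_singleton_iff.mp h2)
  have hUcard : Nat.card U = 4 := by
    rw [hU, Subgroup.card_map_of_injective S.inj]
    let l : Fin 4 → Perm (Fin 5) := ![1, uu, tau, uu * tau]
    have hl : Function.Injective l := by decide +kernel
    have hr : Set.range l = (Subgroup.closure ({uu, tau} : Set (Perm (Fin 5))) : Set _) := by
      ext σ
      constructor
      · rintro ⟨i, rfl⟩
        have h1 : uu ∈ Subgroup.closure ({uu, tau} : Set (Perm (Fin 5))) :=
          Subgroup.subset_closure (by simp)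
        have h2 : tau ∈ Subgroup.closure ({uu, tau} : Set (Perm (Fin 5))) :=
          Subgroup.subset_closure (by simp)
        fin_cases i
        exacts [one_mem _, h1, h2, mul_mem h1 h2]
      · intro h
        rcases hUel σ h with rfl | rfl | rfl | rfl
        exacts [⟨0, rfl⟩, ⟨1, rfl⟩, ⟨2, rfl⟩, ⟨3, rfl⟩]
    calc Nat.card (Subgroup.closure ({uu, tau} : Set (Perm (Fin 5)))) = Nat.card (Set.range l) := by
          rw [hr]; rfl
      _ = 4 := by rw [Nat.card_range_of_injective hl, Nat.card_fin]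
  have hUcomm : ∀ v ∈ U, Commute v S.τ0 ∧ Commute v u ∧ Commute v S.z ∧
      ∀ g, Commute g S.τ0 → Commute g u → Commute g v := by
    rintro _ ⟨σ, hσ, rfl⟩
    have hτ0 : S.τ0 = S.ψ tau := rfl
    refine ⟨?_, ?_, (S.z_comm σ).symm, fun g h1 h2 => ?_⟩
    · rw [hτ0]; refine Commute.map ?_ S.ψ
      rcases hUel σ hσ with rfl | rfl | rfl | rfl
      exacts [Commute.one_left _, uu_tau, Commute.refl _,
        (show Commute uu tau from uu_tau).mul_left (Commute.refl _)]
    · rw [hu]; refine Commute.map ?_ S.ψ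
      rcases hUel σ hσ with rfl | rfl | rfl | rfl
      exacts [Commute.one_left _, Commute.refl _, uu_tau.symm,
        (Commute.refl uu).mul_left uu_tau.symm]
    · rcases hUel σ hσ with rfl | rfl | rfl | rfl
      · simp
      · exact h2
      · exact h1
      · rw [map_mul]; exact h2.mul_right h1
  have hUle : U ≤ CU := fun v hv => hmemCU.mpr ⟨(hUcomm v hv).1, (hUcomm v hv).2.1⟩
  set UC := U.subgroupOf CU with hUC
  haveI : UC.Normal := ⟨fun v hv g => by
    have h := (hUcomm v.1 hv).2.2.2 g.1 (hmemCU.mp g.2).1 (hmemCU.mp g.2).2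
    have e : g * v * g⁻¹ = v := Subtype.ext (by
      show (g : G) * v * (g : G)⁻¹ = v
      rw [h.eq, mul_inv_cancel_right])
    rw [e]; exact hv⟩
  have hUCcard : Nat.card UC = 4 := by
    rw [hUC, Nat.card_congr (Subgroup.subgroupOfEquivOfLe hUle).toEquiv, hUcard]
  let π := QuotientGroup.mk' UC
  have hzU : S.z ∈ CU := hmemCU.mpr ⟨S.zτ, S.z_comm uu⟩
  have hwU : S.w ∈ CU := hmemCU.mpr ⟨S.wτ, S.w_comm uu⟩
  set zU : CU := ⟨S.z, hzU⟩
  set wU : CU := ⟨S.w, hwU⟩
  set zb := π zU with hzb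
  have hz3 : zb ^ 3 = 1 := by
    rw [hzb, ← map_pow, show zU ^ 3 = 1 from Subtype.ext S.z_pow3, map_one]
  have hz1 : zb ≠ 1 := by
    intro h
    obtain ⟨σ, -, hσ⟩ := (QuotientGroup.eq_one_iff zU).mp h
    exact S.z_notin ⟨σ, hσ⟩
  haveI : Fact (Nat.Prime 3) := ⟨Nat.prime_three⟩
  have hX3 : Nat.card (Subgroup.zpowers zb) = 3 := by
    rw [Nat.card_zpowers]; exact orderOf_eq_prime hz3 hz1
  have hcentz : ∀ g : CU, π g * zb = zb * π g → ∃ i : ℕ, π g = zb ^ i := by
    intro g h
    have hv : g * zU * g⁻¹ * zU⁻¹ ∈ UC := by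
      refine (QuotientGroup.eq_one_iff _).mp ?_
      show π (g * zU * g⁻¹ * zU⁻¹) = 1
      rw [map_mul, map_mul, map_mul, map_inv, map_inv, ← hzb, h, mul_inv_cancel_right,
        mul_inv_cancel]
    set v : G := (g : G) * S.z * (g : G)⁻¹ * S.z⁻¹ with hvdef
    have hvU : v ∈ U := hv
    have hcv : Commute v S.z := (hUcomm v hvU).2.2.1
    have hv3 : v ^ 3 = 1 := by
      have h1 : (v * S.z) ^ 3 = 1 := by
        rw [hvdef, inv_mul_cancel_right, conj_pow, S.z_pow3, mul_one, mul_inv_cancel]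
      rw [hcv.mul_pow, S.z_pow3, mul_one] at h1
      exact h1
    have hv1 : v = 1 := by
      have h4 : v ^ 4 = 1 := by
        rw [← hUcard]
        exact congrArg Subtype.val (pow_card_eq_one' (x := (⟨v, hvU⟩ : U)))
      have := pow_gcd_eq_one.mpr ⟨hv3, h4⟩
      simpa using this
    have hgz : Commute (g : G) S.z := by
      rw [hvdef, mul_inv_eq_one, mul_inv_eq_iff_eq_mul] at hv1
      exact hv1
    obtain ⟨i, σ, hσ⟩ := S.cz _ hgz
    have hc : ∀ ρ : Perm (Fin 5), Commute (g : G) (S.ψ ρ) → σ * ρ = ρ * σ := by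
      intro ρ h
      rw [hσ] at h
      have h' := (((S.z_comm ρ).pow_left (i : ℕ)).inv_left).mul_left h
      rw [inv_mul_cancel_left] at h'
      exact S.inj (by rw [map_mul, map_mul]; exact h'.eq)
    have hσU : S.ψ σ ∈ U := by
      refine ⟨σ, ?_, rfl⟩
      rcases cent_uu_tau σ (hc uu (hmemCU.mp g.2).2) (hc tau (hmemCU.mp g.2).1) with
        rfl | rfl | rfl | rfl
      exacts [one_mem _, Subgroup.subset_closure (by simp), Subgroup.subset_closure (by simp),
        mul_mem (Subgroup.subset_closure (by simp)) (Subgroup.subset_closure (by simp))]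
    refine ⟨i, ?_⟩
    have e : g = zU ^ (i : ℕ) * ⟨S.ψ σ, hUle hσU⟩ := Subtype.ext (by simpa using hσ)
    rw [e, map_mul, map_pow, ← hzb,
      show π ⟨S.ψ σ, hUle hσU⟩ = 1 from (QuotientGroup.eq_one_iff _).mpr hσU, mul_one]
  have hC3 : Subgroup.centralizer (Subgroup.zpowers zb : Set (CU ⧸ UC)) = Subgroup.zpowers zb := by
    refine le_antisymm (fun q hq => ?_) (fun q hq p hp => ?_)
    · obtain ⟨g, rfl⟩ := QuotientGroup.mk'_surjective UC q
      obtain ⟨i, hi⟩ := hcentz g (hq zb (Subgroup.mem_zpowers zb)).symm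
      rw [hi]
      exact pow_mem (Subgroup.mem_zpowers _) _
    · obtain ⟨n, rfl⟩ := Subgroup.mem_zpowers_iff.mp hq
      obtain ⟨m, rfl⟩ := Subgroup.mem_zpowers_iff.mp hp
      exact ((Commute.refl zb).zpow_zpow m n).eq
  have hQcard : Nat.card (CU ⧸ UC) = 24 := by
    have h := Subgroup.card_eq_card_quotient_mul_card_subgroup UC
    rw [hCUcard, hUCcard] at h
    omega
  have hwz : S.w * S.z * S.w = S.z⁻¹ := S.wz
  obtain ⟨N, hN, hNcard, hQ⟩ : ∃ N : Subgroup (CU ⧸ UC), ∃ _ : N.Normal, Nat.card N = 4 ∧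
      Nonempty ((CU ⧸ UC) ⧸ N ≃* Perm (Fin 3)) := by
    rcases Cfsg.Agent.S3331.result (Subgroup.zpowers zb) hX3 hC3 with
      ⟨N, hN, -, hcop, hQ⟩ | ⟨N, hN, -, -, ⟨e⟩⟩ | ⟨⟨e⟩⟩
    · have h := Subgroup.card_eq_card_quotient_mul_card_subgroup N
      rw [hQcard] at h
      rcases hQ with hQ | hQ
      · exfalso
        rw [hQ] at h
        have hp2 : (π wU) ^ 2 = 1 := by
          rw [← map_pow, show wU ^ 2 = 1 from Subtype.ext (by rw [pow_two]; exact S.w2), map_one]
        have hwN : π wU ∈ N := by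
          refine (QuotientGroup.eq_one_iff _).mp ?_
          set q := QuotientGroup.mk' N (π wU)
          have h1 : q ^ 3 = 1 := by rw [← hQ]; exact pow_card_eq_one'
          have h2 : q ^ 2 = 1 := by
            show (QuotientGroup.mk' N (π wU)) ^ 2 = 1
            rw [← map_pow, hp2, map_one]
          have := pow_gcd_eq_one.mpr ⟨h1, h2⟩
          rw [show Nat.gcd 3 2 = 1 from rfl, pow_one] at this
          exact this
        have hm : π wU * zb * (π wU)⁻¹ * zb⁻¹ = zb := by
          rw [hzb, ← map_inv, ← map_inv, ← map_mul, ← map_mul, ← map_mul]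
          congr 1
          refine Subtype.ext ?_
          show S.w * S.z * S.w⁻¹ * S.z⁻¹ = S.z
          rw [S.w_inv, hwz, S.z_inv, ← mul_assoc, show S.z * S.z * S.z * S.z = S.z by
            rw [S.z3, one_mul]]
        have hzN : zb ∈ N := by
          rw [← hm]
          rw [show π wU * zb * (π wU)⁻¹ * zb⁻¹ = π wU * (zb * (π wU)⁻¹ * zb⁻¹) by group]
          exact mul_mem hwN (hN.conj_mem _ (inv_mem hwN) zb)
        have h3 := Subgroup.orderOf_dvd_natCard N hzN
        rw [orderOf_eq_prime hz3 hz1] at h3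
        exact (Nat.prime_three.coprime_iff_not_dvd.mp hcop.symm) h3
      · refine ⟨N, hN, ?_, hQ⟩
        obtain ⟨e⟩ := hQ
        rw [Nat.card_congr e.toEquiv, Nat.card_perm, Nat.card_fin,
          show Nat.factorial 3 = 6 from rfl] at h
        omega
    · exfalso
      have h := Subgroup.card_eq_card_quotient_mul_card_subgroup N
      rw [hQcard, Nat.card_congr e.toEquiv, nat_card_alternatingGroup, Nat.card_eq_fintype_card,
        Fintype.card_fin, show Nat.factorial 5 / 2 = 60 from rfl] at h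
      omega
    · exfalso
      have h := Nat.card_congr e.toEquiv
      rw [hQcard, card_PSL_seven] at h
      omega
  obtain ⟨eQ⟩ := hQ
  -- the action of `z` on the four-group `N`
  have hfix : ∀ n ∈ N, Commute n zb → n = 1 := by
    intro n hn hc
    obtain ⟨g, rfl⟩ := QuotientGroup.mk'_surjective UC n
    obtain ⟨i, hi⟩ := hcentz g hc.eq
    have h4 : (π g) ^ 4 = 1 := by
      rw [← hNcard]
      exact congrArg Subtype.val (pow_card_eq_one' (x := (⟨_, hn⟩ : N)))
    have h3 : (π g) ^ 3 = 1 := by rw [hi, ← pow_mul, mul_comm, pow_mul, hz3, one_pow]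
    have := pow_gcd_eq_one.mpr ⟨h3, h4⟩
    rw [show Nat.gcd 3 4 = 1 from rfl, pow_one] at this
    exact this
  obtain ⟨n0, hn0N, hn01⟩ : ∃ n ∈ N, n ≠ 1 := by
    haveI : Nontrivial N := Finite.one_lt_card_iff_nontrivial.mp (by rw [hNcard]; norm_num)
    obtain ⟨n, hn⟩ := exists_ne (1 : N)
    exact ⟨n, n.2, fun h => hn (Subtype.ext h)⟩
  have horbit : ∀ n ∈ N, n ≠ 1 →
      (∀ m ∈ N, m = 1 ∨ m = n ∨ m = zb * n * zb⁻¹ ∨ m = zb * (zb * n * zb⁻¹) * zb⁻¹) := by
    intro n hn hn1 m hm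
    have hcj : ∀ a, a ∈ N → zb * a * zb⁻¹ ∈ N := fun a ha => hN.conj_mem a ha zb
    have hne : ∀ a, a ∈ N → a ≠ 1 → zb * a * zb⁻¹ ≠ a := fun a ha ha1 h =>
      ha1 (hfix a ha (show Commute a zb from (mul_inv_eq_iff_eq_mul.mp h).symm))
    set n1 := zb * n * zb⁻¹ with hn1def
    set n2 := zb * n1 * zb⁻¹ with hn2def
    have hn1N : n1 ∈ N := hcj n hn
    have hn11 : n1 ≠ 1 := fun h => hn1 (conj_eq_one_iff.mp h)
    have hn21 : n2 ≠ 1 := fun h => hn11 (conj_eq_one_iff.mp h)
    have hn20 : n2 ≠ n := by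
      intro h
      apply hne n hn hn1
      have e : zb * (zb * (zb * n * zb⁻¹) * zb⁻¹) * zb⁻¹ = n := by
        have hz' : zb * zb * zb = 1 := by rw [← pow_two, ← pow_succ]; exact hz3
        calc _ = (zb * zb * zb) * n * (zb * zb * zb)⁻¹ := by group
          _ = n := by rw [hz', one_mul, inv_one, mul_one]
      rw [show zb * (zb * n * zb⁻¹) * zb⁻¹ = n from h] at e
      exact e
    let f4 : Fin 4 → N := ![1, ⟨n, hn⟩, ⟨n1, hn1N⟩, ⟨n2, hcj n1 hn1N⟩]
    have hf4 : Function.Injective f4 := by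
      intro a b hab
      have hab' : (f4 a : CU ⧸ UC) = f4 b := congrArg Subtype.val hab
      fin_cases a <;> fin_cases b <;> simp [f4] at hab' ⊢
      all_goals first
        | exact hn1 hab' | exact hn1 hab'.symm | exact hn11 hab' | exact hn11 hab'.symm
        | exact hn21 hab' | exact hn21 hab'.symm | exact hn20 hab' | exact hn20 hab'.symm
        | exact hne n hn hn1 hab' | exact hne n hn hn1 hab'.symm
        | exact hne n1 hn1N hn11 hab' | exact hne n1 hn1N hn11 hab'.symm
    haveI : Fintype N := Fintype.ofFinite _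
    have hbij : Function.Bijective f4 := (Fintype.bijective_iff_injective_and_card f4).mpr
      ⟨hf4, by rw [Fintype.card_fin, ← Nat.card_eq_fintype_card, hNcard]⟩
    obtain ⟨a, ha⟩ := hbij.2 ⟨m, hm⟩
    have ha' : (f4 a : CU ⧸ UC) = m := congrArg Subtype.val ha
    fin_cases a
    exacts [Or.inl ha'.symm, Or.inr (Or.inl ha'.symm), Or.inr (Or.inr (Or.inl ha'.symm)),
      Or.inr (Or.inr (Or.inr ha'.symm))]
  have hsq : ∀ n ∈ N, n * n = 1 := by
    intro n hn
    by_contra hnn
    have hn1 : n ≠ 1 := fun h => hnn (by rw [h, one_mul])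
    have h4 : n ^ 4 = 1 := by
      rw [← hNcard]
      exact congrArg Subtype.val (pow_card_eq_one' (x := (⟨_, hn⟩ : N)))
    have hnn4 : (n * n) * (n * n) = 1 := by
      rw [← h4, pow_succ, pow_succ, pow_succ, pow_one]
      group
    have hnn3 : zb * (n * n) * zb⁻¹ ≠ n * n := fun h =>
      hnn (hfix _ (mul_mem hn hn) (show Commute (n * n) zb from (mul_inv_eq_iff_eq_mul.mp h).symm))
    have hsq' : ∀ a, a * a = n * n → (zb * a * zb⁻¹) * (zb * a * zb⁻¹) = zb * (n * n) * zb⁻¹ :=
      fun a h => by rw [← h]; group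
    -- the squares of all conjugates are squares of `n`
    rcases horbit n hn hn1 (n * n) (mul_mem hn hn) with h | h | h | h
    · exact hnn h
    · exact hn1 (mul_eq_left.mp h)
    · have h2 : (n * n) * (n * n) = zb * (n * n) * zb⁻¹ := by
        nth_rw 1 [h]; nth_rw 1 [h]; group
      rw [hnn4] at h2
      exact hnn (conj_eq_one_iff.mp h2.symm)
    · have h2 : (n * n) * (n * n) = zb * (zb * (n * n) * zb⁻¹) * zb⁻¹ := by
        nth_rw 1 [h]; nth_rw 1 [h]; group
      rw [hnn4] at h2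
      exact hnn (conj_eq_one_iff.mp (conj_eq_one_iff.mp h2.symm))
  have hNcomm : ∀ a ∈ N, ∀ b ∈ N, a * b = b * a := by
    intro a ha b hb
    have h := hsq (a * b) (mul_mem ha hb)
    calc a * b = a * (a * b * (a * b)) * b := by rw [h, mul_one]
      _ = (a * a) * (b * a) * (b * b) := by group
      _ = b * a := by rw [hsq a ha, hsq b hb, one_mul, mul_one]
  -- an element centralising a larger four-group
  set a := S.ψ aa with ha
  have haa : a * a = 1 := by rw [ha, ← map_mul, aa_facts.1, map_one]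
  have hai : a⁻¹ = a := inv_eq_of_mul_eq_one_right haa
  have haτ : a * S.τ0 * a = u := by
    show S.ψ aa * S.ψ tau * S.ψ aa = S.ψ uu
    rw [← map_mul, ← map_mul, aa_facts.2.1]
  have hau : a * u * a = S.τ0 := by
    show S.ψ aa * S.ψ uu * S.ψ aa = S.ψ tau
    rw [← map_mul, ← map_mul, aa_facts.2.2.1]
  have haCU : ∀ g ∈ CU, a * g * a ∈ CU := by
    intro g hg
    obtain ⟨h1, h2⟩ := hmemCU.mp hg
    have h1' := h1.map (MulAut.conj a).toMonoidHom
    have h2' := h2.map (MulAut.conj a).toMonoidHom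
    simp only [MulEquiv.coe_toMonoidHom, MulAut.conj_apply, hai, haτ, hau] at h1' h2'
    exact hmemCU.mpr ⟨h2', h1'⟩
  let α : MulAut CU :=
    { toFun := fun g => ⟨a * g * a, haCU g g.2⟩
      invFun := fun g => ⟨a * g * a, haCU g g.2⟩
      left_inv := fun g => Subtype.ext (by
        show a * (a * g * a) * a = g
        rw [show a * (a * (g : G) * a) * a = (a * a) * g * (a * a) by group, haa, one_mul, mul_one])
      right_inv := fun g => Subtype.ext (by
        show a * (a * g * a) * a = g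
        rw [show a * (a * (g : G) * a) * a = (a * a) * g * (a * a) by group, haa, one_mul, mul_one])
      map_mul' := fun g h => Subtype.ext (by
        show a * (g * h) * a = (a * g * a) * (a * h * a)
        rw [show a * (g : G) * a * (a * h * a) = a * g * (a * a) * h * a by group, haa, mul_one]
        group) }
  set M := N.comap π with hM
  haveI : M.Normal := hN.comap π
  have hMcard : Nat.card M = 16 := by
    rw [hM, card_comap_surj π (QuotientGroup.mk'_surjective UC), QuotientGroup.ker_mk', hUCcard,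
      hNcard]
  have hαM : ∀ g ∈ M, α g ∈ M := by
    have eM : CU ⧸ M ≃* Perm (Fin 3) := by
      let ρ : CU →* Perm (Fin 3) := eQ.toMonoidHom.comp ((QuotientGroup.mk' N).comp π)
      have hρs : Function.Surjective ρ :=
        eQ.surjective.comp ((QuotientGroup.mk'_surjective N).comp (QuotientGroup.mk'_surjective UC))
      have hker : ρ.ker = M := by ext g; simp [ρ, hM]
      exact (QuotientGroup.quotientMulEquivOfEq hker.symm).trans
        (QuotientGroup.quotientKerEquivOfSurjective ρ hρs)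
    haveI : (M.map α.toMonoidHom).Normal := Subgroup.Normal.map inferInstance _ α.surjective
    have hle := le_of_quot_three (N := M) (M := M.map α.toMonoidHom) (by
      rw [Subgroup.card_map_of_injective α.injective, hMcard]; norm_num) (Or.inr ⟨eM⟩)
    exact fun g hg => hle ⟨g, hg, rfl⟩
  obtain ⟨m, rfl⟩ := QuotientGroup.mk'_surjective UC n0
  have haz : a * S.z * a = S.z := by
    rw [ha, ← (S.z_comm aa).eq, mul_assoc, ← ha, haa, mul_one]
  -- `α` fixes the coset of `m`
  have hαm : π (α m) = π m := by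
    have hαN : π (α m) ∈ N := hαM m hn0N
    have hαα : π (α (α m)) = π m := congrArg π (α.left_inv m)
    have hαconj : ∀ g : CU, α (zU * g * zU⁻¹) = zU * α g * zU⁻¹ := by
      intro g
      have hzα : α zU = zU := Subtype.ext haz
      rw [map_mul, map_mul, map_inv, hzα]
    have hres : ∀ g h : CU, π g = π h → π (α g) = π (α h) := by
      intro g h e
      have hm : g⁻¹ * h ∈ UC := (QuotientGroup.eq_one_iff _).mp (by
        show π (g⁻¹ * h) = 1
        rw [map_mul, map_inv, e, inv_mul_cancel])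
      have hm' : α (g⁻¹ * h) ∈ UC := by
        obtain ⟨σ, hσ, he⟩ := (hm : ((g⁻¹ * h : CU) : G) ∈ U)
        show a * ((g⁻¹ * h : CU) : G) * a ∈ U
        rw [show ((g⁻¹ * h : CU) : G) = S.ψ σ from he.symm, ha, ← map_mul, ← map_mul]
        refine ⟨_, ?_, rfl⟩
        have h1 : uu ∈ Subgroup.closure ({uu, tau} : Set (Perm (Fin 5))) :=
          Subgroup.subset_closure (by simp)
        have h2 : tau ∈ Subgroup.closure ({uu, tau} : Set (Perm (Fin 5))) :=
          Subgroup.subset_closure (by simp)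
        rcases hUel σ hσ with rfl | rfl | rfl | rfl
        · rw [mul_one, aa_facts.1]; exact one_mem _
        · rw [aa_facts.2.2.1]; exact h2
        · rw [aa_facts.2.1]; exact h1
        · rw [show aa * (uu * tau) * aa = (aa * uu * aa) * (aa * tau * aa) by
            rw [show aa * uu * aa * (aa * tau * aa) = aa * uu * (aa * aa) * tau * aa by group,
              aa_facts.1, mul_one]; group, aa_facts.2.1, aa_facts.2.2.1]
          exact mul_mem h2 h1
      have h2 : π (α (g⁻¹ * h)) = 1 := (QuotientGroup.eq_one_iff _).mpr hm'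
      rwa [map_mul, map_inv, map_mul, map_inv, inv_mul_eq_one] at h2
    rcases horbit (π m) hn0N hn01 (π (α m)) hαN with h | h | h | h
    · exfalso
      apply hn01
      rw [← hαα, hres (α m) 1 (h.trans (map_one π).symm), map_one, map_one]
    · exact h
    · exfalso
      have e1 : π (α m) = π (zU * m * zU⁻¹) := by rw [h, map_mul, map_mul, map_inv, hzb]
      have e2 : π m = zb * (zb * π m * zb⁻¹) * zb⁻¹ := by
        rw [← h]
        nth_rw 1 [← hαα]
        rw [hres _ _ e1, hαconj, map_mul, map_mul, map_inv, ← hzb]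
      refine hn01 (hfix _ hn0N ?_)
      have hz' : zb * zb * zb = 1 := by rw [← pow_two, ← pow_succ]; exact hz3
      show π m * zb = zb * π m
      calc π m * zb = (zb * zb * zb) * π m * (zb * zb * zb)⁻¹ * zb := by
            rw [hz', one_mul, inv_one, mul_one]
        _ = zb * (zb * (zb * π m * zb⁻¹) * zb⁻¹) := by group
        _ = zb * π m := by rw [← e2]
    · exfalso
      have e1 : π (α m) = π (zU * (zU * m * zU⁻¹) * zU⁻¹) := by
        rw [h, map_mul, map_mul, map_mul, map_mul, map_inv, hzb]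
      have e2 : π m = zb * (zb * π (α m) * zb⁻¹) * zb⁻¹ := by
        nth_rw 1 [← hαα]
        rw [hres _ _ e1, hαconj, hαconj, map_mul, map_mul, map_mul, map_mul, map_inv, ← hzb]
      rw [h] at e2
      refine hn01 (hfix _ hn0N ?_)
      have hz' : zb * zb * zb = 1 := by rw [← pow_two, ← pow_succ]; exact hz3
      have e3 : π m = zb * π m * zb⁻¹ := by
        calc π m = zb * (zb * (zb * (zb * π m * zb⁻¹) * zb⁻¹) * zb⁻¹) * zb⁻¹ := e2
          _ = (zb * zb * zb) * (zb * π m * zb⁻¹) * (zb * zb * zb)⁻¹ := by group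
          _ = _ := by rw [hz', one_mul, inv_one, mul_one]
      show π m * zb = zb * π m
      nth_rw 1 [e3]
      rw [inv_mul_cancel_right]
  -- the commutator with `z`
  set q := m * zU * m⁻¹ * zU⁻¹ with hq
  have hmM : m ∈ M := hn0N
  have hqM : q ∈ M := by
    rw [hq, show m * zU * m⁻¹ * zU⁻¹ = m * (zU * m⁻¹ * zU⁻¹) by group]
    exact mul_mem hmM (Subgroup.Normal.conj_mem inferInstance _ (inv_mem hmM) zU)
  have hcomm1 : ∀ n ∈ N, n ≠ 1 → n * zb * n⁻¹ * zb⁻¹ ≠ 1 := by
    intro n hn hn1 h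
    refine hn1 (hfix n hn ?_)
    show n * zb = zb * n
    exact mul_inv_eq_iff_eq_mul.mp (mul_inv_eq_one.mp h)
  have hπq : π q ≠ 1 := by
    rw [hq, map_mul, map_mul, map_mul, map_inv, map_inv, ← hzb]
    exact hcomm1 _ hn0N hn01
  have haq : a * (q : G) * a = (q : G) := by
    have hv : ((m⁻¹ * α m : CU) : G) ∈ U := by
      have h2 : π (m⁻¹ * α m) = 1 := by rw [map_mul, map_inv, hαm, inv_mul_cancel]
      exact (QuotientGroup.eq_one_iff (N := UC) (m⁻¹ * α m)).mp h2
    set v := ((m⁻¹ * α m : CU) : G) with hvdef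
    have hvz : Commute v S.z := (hUcomm v hv).2.2.1
    have e1 : a * (m : G) * a = (m : G) * v := by
      show a * (m : G) * a = (m : G) * ((m : G)⁻¹ * (a * (m : G) * a))
      rw [mul_inv_cancel_left]
    have e2 : a * (m : G)⁻¹ * a = (a * (m : G) * a)⁻¹ := by
      rw [mul_inv_rev, mul_inv_rev, hai, mul_assoc]
    have e3 : a * S.z⁻¹ * a = S.z⁻¹ := by
      have h := congrArg (·⁻¹) haz
      simp only [mul_inv_rev, hai] at h
      rw [mul_assoc]; exact h
    show a * ((m : G) * S.z * (m : G)⁻¹ * S.z⁻¹) * a = (m : G) * S.z * (m : G)⁻¹ * S.z⁻¹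
    calc a * ((m : G) * S.z * (m : G)⁻¹ * S.z⁻¹) * a
        = (a * (m : G) * a) * (a * S.z * a) * (a * (m : G)⁻¹ * a) * (a * S.z⁻¹ * a) := by
          have : ∀ x y : G, x * a * (a * y) = x * y := fun x y => by
            rw [mul_assoc, ← mul_assoc a a, haa, one_mul]
          simp only [mul_assoc, ← mul_assoc a a, haa, one_mul]
      _ = ((m : G) * v) * S.z * ((m : G) * v)⁻¹ * S.z⁻¹ := by rw [e2, e1, haz, e3]
      _ = (m : G) * (v * S.z) * v⁻¹ * (m : G)⁻¹ * S.z⁻¹ := by group
      _ = _ := by rw [hvz.eq]; group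
  -- transport to the last point
  set s := S.ψ s04 with hs
  have hss : s * s = 1 := by rw [hs, ← map_mul, aa_facts.2.2.2.1, map_one]
  have hsi : s⁻¹ = s := inv_eq_of_mul_eq_one_right hss
  have hsz : s * S.z * s = S.z := by
    rw [hs, ← (S.z_comm s04).eq, mul_assoc, ← hs, hss, mul_one]
  have hsw : s * S.w * s = S.w := by
    rw [hs, ← (S.w_comm s04).eq, mul_assoc, ← hs, hss, mul_one]
  have hmulc : ∀ x y : G, s * (x * y) * s = (s * x * s) * (s * y * s) := fun x y => by
    rw [show s * x * s * (s * y * s) = s * x * (s * s) * y * s by group, hss, mul_one]; group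
  have hinvc : ∀ x : G, s * x⁻¹ * s = (s * x * s)⁻¹ := fun x => by
    rw [mul_inv_rev, mul_inv_rev, hsi, mul_assoc]
  have hqV : s * (q : G) * s ∈ Subgroup.centralizer (S.V : Set G) := by
    obtain ⟨h1, h2⟩ := hmemCU.mp q.2
    have hc1 : Commute (q : G) (S.ψ (uu * tau)) := by rw [map_mul]; exact h2.mul_right h1
    have hc2 : Commute (q : G) a := by
      show (q : G) * a = a * q
      calc (q : G) * a = (a * q * a) * a := by rw [haq]
        _ = _ := by rw [mul_assoc, haa, mul_one]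
    have k1 := hc1.map (MulAut.conj s).toMonoidHom
    have k2 := hc2.map (MulAut.conj s).toMonoidHom
    simp only [MulEquiv.coe_toMonoidHom, MulAut.conj_apply, hsi] at k1 k2
    rw [hs, ← map_mul S.ψ, ← map_mul S.ψ, aa_facts.2.2.2.2.1, ← hs] at k1
    rw [hs, ha, ← map_mul S.ψ, ← map_mul S.ψ, aa_facts.2.2.2.2.2, ← hs] at k2
    rintro _ ⟨σ, hσ, rfl⟩
    have k3 : Commute (s * (q : G) * s) (S.ψ va) := by
      have := k1.mul_right k2.inv_right
      rwa [map_mul, mul_inv_cancel_right] at this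
    rcases K4_mul σ (mem_VS.mp hσ) with rfl | rfl | rfl | rfl
    · simp
    · exact k3.eq.symm
    · exact k2.eq.symm
    · exact k1.eq.symm
  obtain ⟨v, hv, x, hx, hqx⟩ := S.CV_prod hqV
  set q2 := q * zU * q⁻¹ * zU⁻¹ with hq2
  have hvz : Commute v S.z := by
    obtain ⟨σ, -, rfl⟩ := hv
    exact (S.z_comm σ).symm
  have hvx : ∀ y ∈ S.X 4, Commute v y := fun y hy => (S.X_le_CV hy v hv)
  have hqx2 : s * (q2 : G) * s ∈ S.X 4 := by
    have e : s * (q2 : G) * s = x * S.z * x⁻¹ * S.z⁻¹ := by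
      show s * ((q : G) * S.z * (q : G)⁻¹ * S.z⁻¹) * s = _
      rw [hmulc, hmulc, hmulc, hinvc, hinvc, hsz, hqx]
      calc v * x * S.z * (v * x)⁻¹ * S.z⁻¹ = v * (x * S.z * x⁻¹) * v⁻¹ * S.z⁻¹ := by group
        _ = (x * S.z * x⁻¹) * S.z⁻¹ := by
          rw [(hvx _ (mul_mem (mul_mem hx (S.z_mem_X 4)) (inv_mem hx))).eq, mul_inv_cancel_right]
    rw [e]
    exact mul_mem (mul_mem (mul_mem hx (S.z_mem_X 4)) (inv_mem hx)) (inv_mem (S.z_mem_X 4))
  -- a subgroup of `M` embedded in both groups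
  let T : Subgroup CU :=
    { carrier := {g | g ∈ M ∧ s * (g : G) * s ∈ S.X 4}
      one_mem' := ⟨one_mem _, by rw [Subgroup.coe_one, mul_one, hss]; exact one_mem _⟩
      mul_mem' := fun {x y} hx hy => ⟨mul_mem hx.1 hy.1, by
        rw [Subgroup.coe_mul, hmulc]; exact mul_mem hx.2 hy.2⟩
      inv_mem' := fun {x} hx => ⟨inv_mem hx.1, by
        rw [Subgroup.coe_inv, hinvc]; exact inv_mem hx.2⟩ }
  have hTinj : ∀ g ∈ T, π g = 1 → g = 1 := by
    intro g hg h
    obtain ⟨σ, hσ, hgσ⟩ := ((QuotientGroup.eq_one_iff g).mp h : (g : G) ∈ U)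
    refine Subtype.ext ?_
    rw [Subgroup.coe_one, show (g : G) = S.ψ σ from hgσ.symm]
    have hX := hg.2
    rw [show (g : G) = S.ψ σ from hgσ.symm, hs, ← map_mul, ← map_mul] at hX
    have key : ∀ τ : Perm (Fin 5), (τ = 1 ∨ τ = uu ∨ τ = tau ∨ τ = uu * tau) →
        (s04 * τ * s04) * va = va * (s04 * τ * s04) →
        (s04 * τ * s04) * c3 = c3 * (s04 * τ * s04) → τ = 1 := by
      rintro τ (rfl | rfl | rfl | rfl) <;> decide +kernel
    have h1 := S.mem_X.mp hX va va_facts.2.2.2.1 va_facts.2.2.2.2.2.1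
    have h2 := S.mem_X.mp hX c3 (by decide) (by decide)
    rw [key σ (hUel σ hσ) (S.inj (by rw [map_mul S.ψ _ va, map_mul S.ψ va]; exact h1.eq))
      (S.inj (by rw [map_mul S.ψ _ c3, map_mul S.ψ c3]; exact h2.eq)), map_one]
  have hq2T : q2 ∈ T := ⟨by
    rw [hq2, show q * zU * q⁻¹ * zU⁻¹ = q * (zU * q⁻¹ * zU⁻¹) by group]
    exact mul_mem hqM (Subgroup.Normal.conj_mem inferInstance _ (inv_mem hqM) zU), hqx2⟩
  have hzT : ∀ g ∈ T, zU * g * zU⁻¹ ∈ T := fun g hg =>
    ⟨Subgroup.Normal.conj_mem inferInstance _ hg.1 zU, by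
      rw [Subgroup.coe_mul, Subgroup.coe_mul, hmulc, hmulc, Subgroup.coe_inv, hinvc]
      show s * S.z * s * _ * (s * S.z * s)⁻¹ ∈ _
      rw [hsz]
      exact mul_mem (mul_mem (S.z_mem_X 4) hg.2) (inv_mem (S.z_mem_X 4))⟩
  have hπq2 : π q2 ≠ 1 := by
    rw [hq2, map_mul, map_mul, map_mul, map_inv, map_inv, ← hzb]
    exact hcomm1 _ hqM hπq
  set y0 := q2 with hy0def
  set y1 := zU * q2 * zU⁻¹ with hy1
  set y2 := zU * y1 * zU⁻¹ with hy2
  set yw := wU * q2 * wU⁻¹ with hyw
  have hy1T : y1 ∈ T := hzT _ hq2T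
  have hy2T : y2 ∈ T := hzT _ hy1T
  have hywT : yw ∈ T := ⟨Subgroup.Normal.conj_mem inferInstance _ hq2T.1 wU, by
    rw [hyw, Subgroup.coe_mul, Subgroup.coe_mul, hmulc, hmulc, Subgroup.coe_inv, hinvc]
    show s * S.w * s * _ * (s * S.w * s)⁻¹ ∈ _
    rw [hsw]
    exact mul_mem (mul_mem (S.w_mem_X 4) hqx2) (inv_mem (S.w_mem_X 4))⟩
  have hTeq : ∀ g ∈ T, ∀ h ∈ T, π g = π h → g = h := by
    intro g hg h hh e
    refine inv_mul_eq_one.mp (hTinj _ (mul_mem (inv_mem hg) hh) ?_)
    rw [map_mul, map_inv, e, inv_mul_cancel]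
  have hsq0 : y0 * y0 = 1 := hTinj _ (mul_mem hq2T hq2T) (by rw [map_mul]; exact hsq _ hq2T.1)
  have hcy : y0 * y1 = y1 * y0 := hTeq _ (mul_mem hq2T hy1T) _ (mul_mem hy1T hq2T) (by
    rw [map_mul, map_mul]; exact hNcomm _ hq2T.1 _ hy1T.1)
  have hywc : yw = y0 ∨ yw = y1 ∨ yw = y2 := by
    rcases horbit (π y0) hq2T.1 hπq2 (π yw) hywT.1 with h | h | h | h
    · exfalso
      apply hπq2
      rw [hyw, map_mul, map_mul, map_inv] at h
      exact conj_eq_one_iff.mp h
    · exact Or.inl (hTeq _ hywT _ hq2T h)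
    · exact Or.inr (Or.inl (hTeq _ hywT _ hy1T (by
        rw [h]; simp only [hy1, map_mul, map_inv, hzb]; rfl)))
    · exact Or.inr (Or.inr (hTeq _ hywT _ hy2T (by
        rw [h]; simp only [hy2, hy1, map_mul, map_inv, hzb]; rfl)))
  -- images in the component
  let toX : T →* S.X 4 :=
    MonoidHom.mk' (fun g => (⟨s * ((g : CU) : G) * s, g.2.2⟩ : S.X 4))
      fun g h => Subtype.ext (hmulc _ _)
  let A : T →* Perm (Fin 5) := S.prX.comp toX
  have hA : Function.Injective A := by
    refine S.prX_inj.comp fun g h e => Subtype.ext (Subtype.ext ?_)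
    have e' : s * ((g : CU) : G) * s = s * ((h : CU) : G) * s := congrArg Subtype.val e
    exact mul_left_cancel (mul_right_cancel e')
  have hAz : ∀ g (hg : g ∈ T), A ⟨zU * g * zU⁻¹, hzT g hg⟩ = c3 * A ⟨g, hg⟩ * c3⁻¹ := by
    intro g hg
    show S.prX _ = c3 * S.prX _ * c3⁻¹
    rw [← S.prX_z, ← map_inv, ← map_mul, ← map_mul]
    congr 1
    refine Subtype.ext ?_
    show s * (S.z * g * S.z⁻¹) * s = S.z * (s * (g : G) * s) * S.z⁻¹
    rw [hmulc, hmulc, hinvc, hsz]
  obtain ⟨σw, hσw, hσwcase⟩ : ∃ σw, S.w = S.φ σw ∧ (σw = uu ∨ σw = uu * tau) := by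
    rcases S.w_cases with h | h
    exacts [⟨_, h, Or.inl rfl⟩, ⟨_, h, Or.inr rfl⟩]
  set a1 := A ⟨y0, hq2T⟩ with ha1
  have hA1 : A ⟨y1, hy1T⟩ = c3 * a1 * c3⁻¹ := hAz y0 hq2T
  have hA2 : A ⟨y2, hy2T⟩ = c3 * (c3 * a1 * c3⁻¹) * c3⁻¹ := by rw [← hA1]; exact hAz y1 hy1T
  have hAw : A ⟨yw, hywT⟩ = σw * a1 * σw := by
    have hσsq : σw * σw = 1 := by rcases hσwcase with rfl | rfl <;> decide +kernel
    show S.prX _ = σw * S.prX _ * σw
    rw [← S.prX_w hσw, ← map_mul, ← map_mul]
    congr 1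
    refine Subtype.ext ?_
    show s * (S.w * (q2 : G) * S.w⁻¹) * s = S.w * (s * (q2 : G) * s) * S.w
    rw [hmulc, hmulc, hinvc, hsw, S.w_inv]
  have ha1ne : a1 ≠ 1 := by
    intro h
    have h' : (⟨y0, hq2T⟩ : T) = 1 := hA (h.trans (map_one A).symm)
    have e : y0 = 1 := congrArg Subtype.val h'
    exact hπq2 (by rw [e, map_one])
  have ha1sq : a1 * a1 = 1 := by
    rw [ha1, ← map_mul, show (⟨y0, hq2T⟩ * ⟨y0, hq2T⟩ : T) = 1 from Subtype.ext hsq0, map_one]
  have ha1ne' : c3 * a1 * c3⁻¹ ≠ a1 := by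
    intro h
    have h' : y1 = y0 := congrArg Subtype.val (hA (hA1.trans h))
    refine hπq2 (hfix _ hq2T.1 ?_)
    show π y0 * zb = zb * π y0
    have h'' := congrArg π h'
    rw [hy1, map_mul, map_mul, map_inv, ← hzb] at h''
    exact (mul_inv_eq_iff_eq_mul.mp h'').symm
  have ha1c : a1 * (c3 * a1 * c3⁻¹) = c3 * a1 * c3⁻¹ * a1 := by
    rw [← hA1, ha1, ← map_mul, ← map_mul]
    exact congrArg A (Subtype.ext hcy)
  have ha1w : σw * a1 * σw = a1 ∨ σw * a1 * σw = c3 * a1 * c3⁻¹ ∨
      σw * a1 * σw = c3 * (c3 * a1 * c3⁻¹) * c3⁻¹ := by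
    rw [← hAw]
    rcases hywc with h | h | h
    · exact Or.inl (congrArg A (Subtype.ext h))
    · exact Or.inr (Or.inl ((congrArg A (Subtype.ext h)).trans hA1))
    · exact Or.inr (Or.inr ((congrArg A (Subtype.ext h)).trans hA2))
  rcases hσwcase with rfl | rfl
  · refine ⟨hσw, hcardC, ?_⟩
    obtain ⟨j, hj⟩ := klein_x a1 ha1ne ha1sq ha1ne' ha1c ha1w
    set qX : S.X 4 := toX ⟨y0, hq2T⟩ with hqX
    have hpq : S.prX qX = a1 := rfl
    set n : S.X 4 := S.zX ^ (j : ℕ) * qX * (S.zX ^ (j : ℕ))⁻¹ with hn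
    set xX : S.X 4 := n * S.zX⁻¹ * n with hxX
    have hpn : S.prX n = c3 ^ (j : ℕ) * a1 * (c3 ^ (j : ℕ))⁻¹ := by
      rw [hn, map_mul, map_mul, map_inv, map_pow, S.prX_z, hpq]
    obtain ⟨h1, h2, h3, h4⟩ := hj _ hpn
    have hpx : S.prX xX = S.prX n * c3⁻¹ * S.prX n := by
      rw [hxX, map_mul, map_mul, map_inv, S.prX_z]
    rw [← hpx] at h1 h2 h3 h4
    refine ⟨(xX : G), xX.2, ⟨fun h => ?_, fun h => ?_⟩, ?_, ?_, ?_⟩
    · exact h1.1 (by rw [show xX = 1 from Subtype.ext h, map_one])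
    · refine h1.2 ?_
      rw [← S.prX_z, ← map_mul, show S.zX * xX = 1 from Subtype.ext h, map_one]
    · rw [← map_mul, ← map_mul] at h2
      exact congrArg Subtype.val (S.prX_inj (h2.trans (map_one _).symm))
    · rw [← S.prX_w hσw, ← map_mul, ← map_mul, ← map_inv] at h3
      exact congrArg Subtype.val (S.prX_inj h3)
    · rw [← S.prX_z, ← map_mul, ← map_mul] at h4
      exact congrArg Subtype.val (S.prX_inj (h4.trans (map_one _).symm))
  · exact (klein_not_B a1 ha1ne ha1sq ha1ne' ha1c ha1w).elim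

/-- The two cases. -/
theorem main_cases [Finite G]
    [((Subgroup.centralizer (S.D : Set G)).subgroupOf (Subgroup.normalizer (S.D : Set G))).Normal]
    (eNC : Subgroup.normalizer (S.D : Set G) ⧸ (Subgroup.centralizer (S.D : Set G)).subgroupOf
      (Subgroup.normalizer (S.D : Set G)) ≃* DihedralGroup 4)
    (hN : Nat.card (Subgroup.normalizer (S.D : Set G)) = 144) :
    (S.TypeA ∧ Nat.card (Subgroup.centralizer ({S.τ0} : Set G)) = 1440 ∧ ∃ x, S.IsX 4 x) ∨
      (S.TypeB ∧ Subgroup.centralizer ({S.τ0} : Set G) = Subgroup.normalizer (S.D : Set G) ∧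
        Nat.card (Subgroup.centralizer ({S.τ0} : Set G)) = 144) := by
  rcases S.cent_tau_or eNC with h | ⟨f, hf, hk⟩
  · right
    have hB : S.TypeB := by
      rcases S.typeA_or_typeB with hA | hB
      · exact absurd h (S.typeA_not_norm hA)
      · exact hB
    have he : Subgroup.centralizer ({S.τ0} : Set G) = Subgroup.normalizer (S.D : Set G) := by
      ext g
      rw [Subgroup.mem_centralizer_singleton_iff]
      exact ⟨fun hg => h g hg, fun hg => (S.norm_fix_tau hg).eq⟩
    exact ⟨hB, he, by rw [he, hN]⟩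
  · exact Or.inl (S.six_typeA rfl f hf hk)

end Setting

end Cfsg.Agent.H86.SymEight
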