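import Cfsg.Agent.H86.SymEight.TauSix
import Cfsg.Agent.H86.SymEight.Carmichael
import Cfsg.Agent.H86.SymEight.Eight

/-!
The symmetric group of degree eight in the first type.
-/

set_option autoImplicit false
set_option synthInstance.maxSize 4000
set_option linter.style.haveILetI false

namespace Cfsg.Agent.H86.SymEight

open Equiv Cfsg.Agent.H99.BoundedPres

theorem x_cands : ∀ σ : Perm (Fin 5), σ ≠ 1 → c3 * σ ≠ 1 → σ * σ * σ = 1 → uu * σ * uu = σ⁻¹ →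
    (c3 * σ) * (c3 * σ) = 1 → σ = swap 1 2 * swap 2 3 ∨ σ = swap 1 2 * swap 2 4 := by
  decide +kernel

theorem cent_c3_va : ∀ σ : Perm (Fin 5), σ * c3 = c3 * σ → σ * va = va * σ → σ = 1 := by
  decide +kernel

theorem pow_c3_ne_tau : ∀ i : Fin 3, c3 ^ (i : ℕ) ≠ tau := by
  decide +kernel

theorem tau_word : ∀ x y : Perm (Fin 5),
    (x = swap 1 2 * swap 2 3 ∧ y = swap 1 2 * swap 2 4) →
    uu * (x * (x * y) * x⁻¹) = tau := by
  rintro x y ⟨rfl, rfl⟩
  decide +kernel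

theorem x_pair : ∀ σ ρ : Perm (Fin 5), (σ = swap 1 2 * swap 2 3 ∨ σ = swap 1 2 * swap 2 4) →
    (ρ = swap 1 2 * swap 2 3 ∨ ρ = swap 1 2 * swap 2 4) →
    (σ ≠ ρ → (σ * ρ) * (σ * ρ) = 1) ∧ σ * tau ≠ tau * σ ∧ tau ∉ ([1, c3, c3 * c3] : List _) := by
  rintro σ ρ (rfl | rfl) (rfl | rfl) <;> decide +kernel

theorem two_trans : ∀ i j : Fin 5, i ≠ j → ∃ g : Perm (Fin 5), g 3 = i ∧ g 4 = j := by
  decide +kernel

theorem c3_perms : c3 3 = 3 ∧ c3 4 = 4 ∧ tau 4 = 3 ∧ Perm.sign c3 = 1 := by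
  decide +kernel

/-- A second three-cycle together with `c3` and the alternating group on four points generates. -/
theorem alt_gen : ∀ σ : Perm (Fin 5), Perm.sign σ = 1 →
    ∃ α β : Perm (Fin 5), (α 3 = 3 ∧ Perm.sign α = 1) ∧ (β 4 = 4 ∧ Perm.sign β = 1) ∧
      (σ = α * β ∨ σ = β * α ∨ ∃ γ : Perm (Fin 5), (γ 3 = 3 ∧ Perm.sign γ = 1) ∧ σ = α * β * γ) := by
  decide +kernel

theorem cent_alt_three : ∀ x : Perm (Fin 5),
    (x = swap 1 2 * swap 2 3 ∨ x = swap 1 2 * swap 2 4) → x * tau ≠ tau * x := by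
  rintro x (rfl | rfl) <;> decide +kernel

/-- The point set of the model. -/
def e8 : Fin 2 ⊕ Option (Fin 5) ≃ Fin 8 where
  toFun := fun a => match a with
    | Sum.inl 0 => 5
    | Sum.inl 1 => 6
    | Sum.inr none => 7
    | Sum.inr (some k) => ⟨k, by omega⟩
  invFun := fun n =>
    if n = 5 then Sum.inl 0 else if n = 6 then Sum.inl 1 else
      if h : (n : ℕ) < 5 then Sum.inr (some ⟨n, h⟩) else Sum.inr none
  left_inv := by decide +kernel
  right_inv := by decide +kernel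

/-- The three-cycle `(5 6 7)`. -/
def zz : Perm (Fin 8) := swap 5 6 * swap 6 7

/-- The transposition `(5 6)`. -/
def ww : Perm (Fin 8) := swap 5 6

/-- The three-cycle `(5 6 k)`. -/
def xp (k : Fin 5) : Perm (Fin 8) := swap 5 6 * swap 6 ⟨k, by omega⟩

/-- The embedding of `Perm (Fin 5)` fixing the last three points. -/
def e5 : Perm (Fin 5) →* Perm (Fin 8) :=
  (finSumFinEquiv (m := 5) (n := 3)).permCongrHom.toMonoidHom.comp
    ((Perm.sumCongrHom (Fin 5) (Fin 3)).comp (MonoidHom.inl _ _))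

theorem e5_low (σ : Perm (Fin 5)) (k : Fin 5) :
    e5 σ ⟨k, by omega⟩ = (⟨σ k, by omega⟩ : Fin 8) := by
  have h : (⟨k, by omega⟩ : Fin 8) = finSumFinEquiv (m := 5) (n := 3) (Sum.inl k) := rfl
  rw [h]
  show finSumFinEquiv (Perm.sumCongr σ (1 : Perm (Fin 3))
    (finSumFinEquiv.symm (finSumFinEquiv (Sum.inl k)))) = _
  rw [Equiv.symm_apply_apply]
  rfl

theorem e5_high (σ : Perm (Fin 5)) (j : Fin 3) :
    e5 σ ⟨5 + j, by omega⟩ = (⟨5 + j, by omega⟩ : Fin 8) := by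
  have h : (⟨5 + j, by omega⟩ : Fin 8) = finSumFinEquiv (m := 5) (n := 3) (Sum.inr j) := rfl
  rw [h]
  show finSumFinEquiv (Perm.sumCongr σ (1 : Perm (Fin 3))
    (finSumFinEquiv.symm (finSumFinEquiv (Sum.inr j)))) = _
  rw [Equiv.symm_apply_apply]
  rfl

theorem e5_zz (σ : Perm (Fin 5)) : e5 σ * zz * (e5 σ)⁻¹ = zz ∧ e5 σ * ww * (e5 σ)⁻¹ = ww := by
  have h5 : e5 σ 5 = 5 := e5_high σ 0
  have h6 : e5 σ 6 = 6 := e5_high σ 1
  have h7 : e5 σ 7 = 7 := e5_high σ 2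
  constructor
  · rw [zz, show e5 σ * (swap 5 6 * swap 6 7) * (e5 σ)⁻¹ =
      (e5 σ * swap 5 6 * (e5 σ)⁻¹) * (e5 σ * swap 6 7 * (e5 σ)⁻¹) by group, ← swap_apply_apply,
      ← swap_apply_apply, h5, h6, h7]
  · rw [ww, ← swap_apply_apply, h5, h6]

theorem e5_xp (σ : Perm (Fin 5)) (k : Fin 5) : e5 σ * xp k * (e5 σ)⁻¹ = xp (σ k) := by
  have h5 : e5 σ 5 = 5 := e5_high σ 0
  have h6 : e5 σ 6 = 6 := e5_high σ 1
  rw [xp, show e5 σ * (swap 5 6 * swap 6 (⟨k, by omega⟩ : Fin 8)) * (e5 σ)⁻¹ =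
    (e5 σ * swap 5 6 * (e5 σ)⁻¹) * (e5 σ * swap 6 (⟨k, by omega⟩ : Fin 8) * (e5 σ)⁻¹) by group,
    ← swap_apply_apply, ← swap_apply_apply, h5, h6, e5_low]
  rfl

theorem xp_inj : Function.Injective xp := by
  decide +kernel

theorem e5_vals : e5 tau = t8 ∧ e5 (uu * tau) = c8 ∧ e5 c3 = swap 0 1 * swap 1 2 := by
  decide +kernel

theorem g8_conj : ∃ g : Perm (Fin 8), g * zz * g⁻¹ = swap 0 1 * swap 1 2 := by
  refine ⟨swap 5 0 * swap 6 1 * swap 7 2, ?_⟩
  decide +kernel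

namespace Setting

variable {G : Type*} [Group G] (S : Setting G)

/-- The projection of an element of `X 4`, with all the defining relations. -/
theorem isX_image (hA : S.TypeA) {x : G} (hx : S.IsX 4 x) :
    (S.prX ⟨x, hx.1⟩ = swap 1 2 * swap 2 3 ∨ S.prX ⟨x, hx.1⟩ = swap 1 2 * swap 2 4) ∧
      x = S.φ (S.prX ⟨x, hx.1⟩) := by
  obtain ⟨hxX, ⟨hx1, hx1'⟩, hx3, hxw, hxz⟩ := hx
  set σ := S.prX ⟨x, hxX⟩ with hσ
  have hw := S.prX_w hA
  constructor
  · refine x_cands σ ?_ ?_ ?_ ?_ ?_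
    · intro h
      exact hx1 (congrArg Subtype.val (S.prX_inj (h.trans (map_one _).symm)))
    · intro h
      rw [hσ, ← S.prX_z, ← map_mul] at h
      exact hx1' (congrArg Subtype.val (S.prX_inj (h.trans (map_one _).symm)))
    · rw [hσ, ← map_mul, ← map_mul,
        show (⟨x, hxX⟩ : S.X 4) * ⟨x, hxX⟩ * ⟨x, hxX⟩ = 1 from Subtype.ext hx3, map_one]
    · rw [hσ, ← hw, ← map_mul, ← map_mul,
        show S.wX * (⟨x, hxX⟩ : S.X 4) * S.wX = (⟨x, hxX⟩ : S.X 4)⁻¹ from Subtype.ext hxw, map_inv]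
    · rw [hσ, ← S.prX_z, ← map_mul, ← map_mul,
        show S.zX * (⟨x, hxX⟩ : S.X 4) * (S.zX * ⟨x, hxX⟩) = 1 from Subtype.ext hxz, map_one]
  · obtain ⟨i, hi⟩ := S.prX_spec ⟨x, hxX⟩
    rw [← hσ] at hi
    change x = S.r ^ (i : ℕ) * S.φ σ at hi
    have h1 : S.w * x * S.w = S.r ^ (i : ℕ) * S.φ (uu * σ * uu) := by
      rw [hi]
      calc S.w * (S.r ^ (i : ℕ) * S.φ σ) * S.w = S.w * S.r ^ (i : ℕ) * S.φ σ * S.w := by group
        _ = S.r ^ (i : ℕ) * (S.w * S.φ σ * S.w) := by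
          rw [(S.wr.pow_right (i : ℕ)).eq]; group
        _ = _ := by rw [hA, ← map_mul, ← map_mul]
    have h2 : x⁻¹ = S.r ^ ((2 * (i : ℕ)) % 3) * S.φ σ⁻¹ := by
      rw [← pow_eq_pow_mod _ S.r_pow3, hi, mul_inv_rev, map_inv,
        ((S.r_φ σ).pow_left (2 * (i : ℕ))).inv_right.eq]
      congr 1
      rw [inv_eq_iff_mul_eq_one, ← pow_add, show (i : ℕ) + 2 * i = 3 * i by ring, pow_mul, S.r_pow3,
        one_pow]
    rw [hxw, h2] at h1
    obtain ⟨e, -⟩ := S.sep_r (i := ⟨(2 * (i : ℕ)) % 3, Nat.mod_lt _ three_pos⟩) (j := i) h1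
    have h0 : (2 * (i : ℕ)) % 3 = i := congrArg Fin.val e
    rw [hi, show (i : ℕ) = 0 by omega, pow_zero, one_mul]

theorem isX_unique (hA : S.TypeA) {x y : G} (hx : S.IsX 4 x) (hy : S.IsX 4 y) : x = y := by
  obtain ⟨hσ, -⟩ := S.isX_image hA hx
  obtain ⟨hρ, -⟩ := S.isX_image hA hy
  by_contra hne
  have hne' : S.prX ⟨x, hx.1⟩ ≠ S.prX ⟨y, hy.1⟩ := fun h =>
    hne (congrArg Subtype.val (S.prX_inj h))
  -- the transposition centralising `c3` would lie in the image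
  have hin : ∀ a b : S.X 4, S.prX a = swap 1 2 * swap 2 3 → S.prX b = swap 1 2 * swap 2 4 →
      False := by
    intro a b ha hb
    set g := S.wX * (a * (a * b) * a⁻¹) with hg
    have hgτ : S.prX g = tau := by
      rw [hg, map_mul, map_mul, map_mul, map_mul, map_inv, S.prX_w hA]
      exact tau_word _ _ ⟨ha, hb⟩
    have hgz : g * S.zX = S.zX * g := S.prX_inj (by
      rw [map_mul S.prX g, map_mul S.prX _ g, hgτ, S.prX_z]; exact tau_c3)
    obtain ⟨i, σ, hiσ⟩ := S.cz (g : G) (congrArg Subtype.val hgz)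
    have hmem := S.mem_X.mp g.2
    have hσ1 : σ = 1 := by
      have key : ∀ τ, τ 4 = 4 → Perm.sign τ = 1 → σ * τ = τ * σ := by
        intro τ h1 h2
        have h := hmem τ h1 h2
        rw [hiσ] at h
        have h' := (((S.z_comm τ).pow_left (i : ℕ)).inv_left).mul_left h
        rw [inv_mul_cancel_left] at h'
        exact S.inj (by rw [map_mul, map_mul]; exact h'.eq)
      have hc := key c3 c3_perms.2.1 c3_perms.2.2.2
      have hv := key va va_facts.2.2.2.1 va_facts.2.2.2.2.2.1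
      exact cent_c3_va σ hc hv
    have e : g = S.zX ^ (i : ℕ) := Subtype.ext (by simpa [hσ1, zX] using hiσ)
    rw [e, map_pow, S.prX_z] at hgτ
    exact pow_c3_ne_tau i hgτ
  rcases hσ with h1 | h1 <;> rcases hρ with h2 | h2
  · exact hne' (h1.trans h2.symm)
  · exact hin _ _ h1 h2
  · exact hin _ _ h2 h1
  · exact hne' (h1.trans h2.symm)

theorem isX_conj {k : Fin 5} {x : G} (g : Perm (Fin 5)) (hx : S.IsX k x) :
    S.IsX (g k) (S.ψ g * x * (S.ψ g)⁻¹) := by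
  obtain ⟨h0, ⟨h1, h1'⟩, h3, hw, hz⟩ := hx
  set a := S.ψ g with ha
  have hca : ∀ b : G, Commute a b → ∀ y : G, a * (b * y) * a⁻¹ = b * (a * y * a⁻¹) := fun b hb y => by
    rw [← mul_assoc, ← mul_assoc, ← mul_assoc, hb.eq]
  refine ⟨S.conj_X k g h0, ⟨fun h => h1 (conj_eq_one_iff.mp h), fun h => h1' ?_⟩, ?_, ?_, ?_⟩
  · rw [← hca _ (S.z_comm g).symm] at h
    exact conj_eq_one_iff.mp h
  · rw [show a * x * a⁻¹ * (a * x * a⁻¹) * (a * x * a⁻¹) = a * (x * x * x) * a⁻¹ by group, h3,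
      mul_one, mul_inv_cancel]
  · calc S.w * (a * x * a⁻¹) * S.w = (S.w * a) * x * (a⁻¹ * S.w) := by group
      _ = (a * S.w) * x * (S.w * a⁻¹) := by
          rw [(S.w_comm g).eq, ((S.w_comm g).inv_right).symm.eq]
      _ = a * (S.w * x * S.w) * a⁻¹ := by group
      _ = _ := by rw [hw]; group
  · calc S.z * (a * x * a⁻¹) * (S.z * (a * x * a⁻¹))
        = (a * (S.z * x) * a⁻¹) * (a * (S.z * x) * a⁻¹) := by rw [hca _ (S.z_comm g).symm]
      _ = a * ((S.z * x) * (S.z * x)) * a⁻¹ := by group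
      _ = _ := by rw [hz, mul_one, mul_inv_cancel]

/-- The structure of the first type: an embedded symmetric group of degree eight. -/
theorem exists_model (hA : S.TypeA) (hx : ∃ x, S.IsX 4 x) :
    ∃ F : Perm (Fin 8) →* G, Function.Injective F ∧ F zz = S.z ∧ F ww = S.w ∧
      (∀ σ, S.ψ σ = F (e5 σ)) ∧
      (∀ g, Commute g S.z → g ∈ F.range) := by
  classical
  obtain ⟨x0, hx0⟩ := hx
  let x : Fin 5 → G := fun k => S.ψ (swap k 4) * x0 * (S.ψ (swap k 4))⁻¹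
  have hxk : ∀ k, S.IsX k (x k) := fun k => by
    have h := S.isX_conj (swap k 4) hx0
    rwa [swap_apply_right] at h
  have huniq : ∀ k a b, S.IsX k a → S.IsX k b → a = b := by
    intro k a b ha hb
    have h1 := S.isX_conj (swap k 4) ha
    have h2 := S.isX_conj (swap k 4) hb
    rw [swap_apply_left] at h1 h2
    exact mul_left_cancel (mul_right_cancel (S.isX_unique hA h1 h2))
  have hequiv : ∀ g k, S.ψ g * x k * (S.ψ g)⁻¹ = x (g k) := fun g k =>
    huniq _ _ _ (S.isX_conj g (hxk k)) (hxk _)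
  have h34 : (x 3 * x 4) * (x 3 * x 4) = 1 := by
    obtain ⟨hσ4, he4⟩ := S.isX_image hA (hxk 4)
    set σ4 := S.prX ⟨x 4, (hxk 4).1⟩
    have hc : Commute (x 3) S.r := S.mem_X.mp (hxk 3).1 c3 c3_perms.1 c3_perms.2.2.2
    obtain ⟨a, σ3, h3⟩ := S.cr _ hc
    have h34c : x 3 = S.τ0 * x 4 * S.τ0⁻¹ := by
      have h := hequiv tau 4
      rw [c3_perms.2.2.1] at h
      exact h.symm
    have hφ : x 3 = S.φ (tau * σ4 * tau⁻¹) := by
      rw [h34c, he4, map_mul, map_mul, map_inv, S.φ_tau]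
    set σ' := tau * σ4 * tau⁻¹ with hσ'
    have hσ'c : σ' = swap 1 2 * swap 2 3 ∨ σ' = swap 1 2 * swap 2 4 := by
      rw [hσ']
      rcases hσ4 with h | h <;> rw [h] <;> decide +kernel
    have hne : σ' ≠ σ4 := by
      intro h
      refine (x_pair σ4 σ4 hσ4 hσ4).2.1 ?_
      rw [hσ'] at h
      exact (mul_inv_eq_iff_eq_mul.mp h).symm
    rw [hφ, he4, ← map_mul, ← map_mul, (x_pair σ' σ4 hσ'c hσ4).1 hne, map_one]
  let gen : Option (Fin 5) → G := fun i => i.elim S.z x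
  have hg3 : ∀ i, gen i ^ 3 = 1 := by
    rintro (_ | k)
    · exact S.z_pow3
    · show x k ^ 3 = 1
      rw [pow_succ, pow_two]; exact (hxk k).2.2.1
  have hg2 : ∀ i j, i ≠ j → (gen i * gen j) ^ 2 = 1 := by
    rintro (_ | i) (_ | j) hij
    · exact absurd rfl hij
    · show (S.z * x j) ^ 2 = 1
      rw [pow_two]; exact (hxk j).2.2.2.2
    · show (x i * S.z) ^ 2 = 1
      rw [pow_two, show x i * S.z * (x i * S.z) = S.z⁻¹ * (S.z * x i * (S.z * x i)) * S.z by group,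
        (hxk i).2.2.2.2, mul_one, inv_mul_cancel]
    · show (x i * x j) ^ 2 = 1
      obtain ⟨g, rfl, rfl⟩ := two_trans i j fun h => hij (by rw [h])
      rw [pow_two, ← hequiv g 3, ← hequiv g 4,
        show S.ψ g * x 3 * (S.ψ g)⁻¹ * (S.ψ g * x 4 * (S.ψ g)⁻¹) *
          (S.ψ g * x 3 * (S.ψ g)⁻¹ * (S.ψ g * x 4 * (S.ψ g)⁻¹))
          = S.ψ g * (x 3 * x 4 * (x 3 * x 4)) * (S.ψ g)⁻¹ by group, h34, mul_one, mul_inv_cancel]
  have hinv : ∀ i, S.w * gen i * S.w = (gen i)⁻¹ := by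
    rintro (_ | k)
    · exact S.wz
    · exact (hxk k).2.2.2.1
  obtain ⟨F0, hF0, hFw⟩ := exists_perm_hom gen S.w hg3 hg2 S.w2 hinv
  have hF0inj : Function.Injective F0 :=
    perm_hom_injective F0 none (by rw [hF0]; exact S.z_ne) (by simp)
  set F : Perm (Fin 8) →* G := F0.comp e8.permCongrHom.symm.toMonoidHom with hF
  have hFz : F zz = S.z := by
    show F0 (e8.permCongrHom.symm zz) = S.z
    rw [show e8.permCongrHom.symm zz = zPerm (none : Option (Fin 5)) by decide +kernel, hF0]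
    rfl
  have hFw' : F ww = S.w := by
    show F0 (e8.permCongrHom.symm ww) = S.w
    rw [show e8.permCongrHom.symm ww = (sab : Perm (Fin 2 ⊕ Option (Fin 5))) by decide +kernel, hFw]
  have hFx : ∀ k, F (xp k) = x k := by
    intro k
    show F0 (e8.permCongrHom.symm (xp k)) = x k
    have h : ∀ k, e8.permCongrHom.symm (xp k) = zPerm (some k : Option (Fin 5)) := by decide +kernel
    rw [h, hF0]
    rfl
  have hFinj : Function.Injective F := hF0inj.comp e8.permCongrHom.symm.injective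
  have hxinj : Function.Injective x := fun i j h => xp_inj (hFinj (by rw [hFx, hFx, h]))
  have hψ : ∀ σ, S.ψ σ = F (e5 σ) := by
    intro σ
    set q := (F (e5 σ))⁻¹ * S.ψ σ with hq
    have hconj : ∀ a b : G, S.ψ σ * a * (S.ψ σ)⁻¹ = b → F (e5 σ) * a * (F (e5 σ))⁻¹ = b →
        q * a * q⁻¹ = a := by
      intro a b h1 h2
      calc q * a * q⁻¹ = (F (e5 σ))⁻¹ * (S.ψ σ * a * (S.ψ σ)⁻¹) * F (e5 σ) := by rw [hq]; group
        _ = (F (e5 σ))⁻¹ * (F (e5 σ) * a * (F (e5 σ))⁻¹) * F (e5 σ) := by rw [h1, h2]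
        _ = a := by group
    have hqz : q * S.z * q⁻¹ = S.z := hconj _ S.z
      (by rw [(S.z_comm σ).symm.eq, mul_inv_cancel_right])
      (by rw [← hFz, ← map_inv, ← map_mul, ← map_mul, (e5_zz σ).1])
    have hqw : q * S.w * q⁻¹ = S.w := hconj _ S.w
      (by rw [(S.w_comm σ).symm.eq, mul_inv_cancel_right])
      (by rw [← hFw', ← map_inv, ← map_mul, ← map_mul, (e5_zz σ).2])
    have hqx : ∀ k, q * x k * q⁻¹ = x k := fun k => hconj _ (x (σ k)) (hequiv σ k)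
      (by rw [← hFx, ← hFx, ← map_inv, ← map_mul, ← map_mul, e5_xp])
    obtain ⟨i, ρ, hiρ⟩ := S.cz q (mul_inv_eq_iff_eq_mul.mp hqz)
    have hi0 : i = 0 := by
      have h : Commute S.w (S.z ^ (i : ℕ) * S.ψ ρ) := hiρ ▸ (mul_inv_eq_iff_eq_mul.mp hqw).symm
      have h' := h.mul_right (S.w_comm ρ).inv_right
      rw [mul_inv_cancel_right] at h'
      have hwzi : S.w * S.z ^ (i : ℕ) * S.w⁻¹ = (S.z ^ (i : ℕ))⁻¹ := by
        rw [← conj_pow, S.w_inv, S.wz, inv_pow]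
      rw [h'.eq, mul_inv_cancel_right] at hwzi
      have hsq : S.z ^ ((i : ℕ) + i) = 1 := by
        rw [pow_add]; nth_rw 2 [hwzi]; exact mul_inv_cancel _
      rw [pow_eq_pow_mod _ S.z_pow3] at hsq
      obtain ⟨e, -⟩ := S.sep (i := ⟨((i : ℕ) + i) % 3, Nat.mod_lt _ three_pos⟩) (j := 0) (σ := 1)
        (ρ := 1) (by simpa using hsq)
      have h0 : ((i : ℕ) + i) % 3 = 0 := congrArg Fin.val e
      exact Fin.ext (show (i : ℕ) = 0 by omega)
    subst hi0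
    rw [Fin.val_zero, pow_zero, one_mul] at hiρ
    have hρ : ρ = 1 := Equiv.ext fun k => hxinj (by
      rw [← hequiv ρ k, ← hiρ, hqx]; rfl)
    rw [hρ, map_one, hq, inv_mul_eq_one] at hiρ
    exact hiρ.symm
  refine ⟨F, hFinj, hFz, hFw', hψ, fun g hg => ?_⟩
  obtain ⟨i, σ, rfl⟩ := S.cz g hg
  exact ⟨zz ^ (i : ℕ) * e5 σ, by rw [map_mul, map_pow, hFz, hψ]⟩

end Setting

end Cfsg.Agent.H86.SymEight
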