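import Cfsg.Agent.H86.SymEight.TauSix

/-!
The second type: two commuting alternating groups of degree five.
-/

set_option autoImplicit false
set_option synthInstance.maxSize 4000
set_option linter.style.haveILetI false

namespace Cfsg.Agent.H86.SymEight

open Equiv

/-- The three-cycle `(0 3 4)`. -/
def d3 : Perm (Fin 5) := swap 0 3 * swap 3 4

/-- The even permutations. -/
theorem alt_word : ∀ σ : Perm (Fin 5), Perm.sign σ = 1 → ∃ a b c d e f : Fin 3,
    σ = c3 ^ (a : ℕ) * d3 ^ (b : ℕ) * c3 ^ (c : ℕ) * d3 ^ (d : ℕ) * c3 ^ (e : ℕ) * d3 ^ (f : ℕ) := by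
  decide +kernel

theorem cent_uu_inv : ∀ σ : Perm (Fin 5), σ * σ = 1 → σ * uu = uu * σ → σ * d3 * σ = d3⁻¹ →
    ∃ k : Fin 2, ∃ l : Fin 3, σ = uu ^ (k : ℕ) * d3 ^ (l : ℕ) * tau * (d3 ^ (l : ℕ))⁻¹ := by
  decide +kernel

theorem d3_pow_fix : ∀ l : Fin 3, ∀ k : Fin 2,
    uu ^ (k : ℕ) * (d3 ^ (l : ℕ) * (uu ^ (k : ℕ) * d3 ^ (l : ℕ) * tau * (d3 ^ (l : ℕ))⁻¹) *
      (d3 ^ (l : ℕ))⁻¹) = tau → l = 0 := by
  decide +kernel

theorem d3_facts : aa * c3 * aa = d3 ∧ aa * d3 * aa = c3 ∧ uu * d3 = d3 * uu ∧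
    tau * d3 * tau = d3⁻¹ ∧ d3 * d3 * d3 = 1 ∧ aa * (uu * tau) = (uu * tau) * aa ∧
    Perm.sign c3 = 1 ∧ Perm.sign d3 = 1 ∧ Perm.sign aa = 1 ∧
    aa * tau * c3 * tau * aa = d3 := by
  decide +kernel

theorem tau_swap_word : (uu * tau) * c3 * (uu * tau) = c3⁻¹ := by
  decide +kernel

theorem cent_alt : ∀ σ : Perm (Fin 5), σ * c3 = c3 * σ → σ * d3 = d3 * σ → σ = 1 := by
  decide +kernel

namespace Setting

variable {G : Type*} [Group G] (S : Setting G)

theorem w_notin : S.w ∉ S.ψ.range := by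
  rintro ⟨σ, hσ⟩
  have h : Commute S.z S.w := hσ ▸ S.z_comm σ
  have h2 := S.wz
  rw [← h.eq, mul_assoc, S.w2, mul_one] at h2
  have h3 : S.z * S.z = 1 := by nth_rw 2 [h2]; exact mul_inv_cancel _
  have h4 := S.z3
  rw [h3, one_mul] at h4
  exact S.z_ne h4

/-- Uniqueness in the product of `w` with the component. -/
theorem sep_w {i j : Fin 2} {σ ρ : Perm (Fin 5)}
    (h : S.w ^ (i : ℕ) * S.ψ σ = S.w ^ (j : ℕ) * S.ψ ρ) : i = j ∧ σ = ρ := by
  fin_cases i <;> fin_cases j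
  · exact ⟨rfl, S.inj (by simpa using h)⟩
  · exfalso
    refine S.w_notin ⟨σ * ρ⁻¹, ?_⟩
    have h' : S.ψ σ = S.w * S.ψ ρ := by simpa using h
    rw [map_mul, map_inv, h', mul_inv_cancel_right]
  · exfalso
    refine S.w_notin ⟨ρ * σ⁻¹, ?_⟩
    have h' : S.w * S.ψ σ = S.ψ ρ := by simpa using h
    rw [map_mul, map_inv, ← h', mul_inv_cancel_right]
  · exact ⟨rfl, S.inj (mul_left_cancel h)⟩

variable [Finite G]
  (hN : Subgroup.centralizer ({S.τ0} : Set G) = Subgroup.normalizer (S.D : Set G))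

include hN

theorem cent_tau_w {g : G} (h1 : Commute g S.τ0) (h2 : Commute g S.w) :
    ∃ i : Fin 2, ∃ σ : Perm (Fin 5), g = S.w ^ (i : ℕ) * S.ψ σ ∧ σ * tau = tau * σ := by
  have hg : g ∈ Subgroup.normalizer (S.D : Set G) := by
    rw [← hN, Subgroup.mem_centralizer_singleton_iff]; exact h1.eq
  have hd := S.normalizer_iff.mp hg S.z S.z_mem_D
  have hinv : S.w * (g * S.z * g⁻¹) * S.w = (g * S.z * g⁻¹)⁻¹ := by
    rw [show S.w * (g * S.z * g⁻¹) * S.w = (S.w * g) * S.z * (g⁻¹ * S.w) by group, ← h2.eq,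
      (h2.inv_left).eq, show g * S.w * S.z * (S.w * g⁻¹) = g * (S.w * S.z * S.w) * g⁻¹ by group, S.wz]
    group
  have hform : ∃ i : Fin 3, ∃ a : Fin 2, ∃ σ, g = S.z ^ (i : ℕ) * S.w ^ (a : ℕ) * S.ψ σ := by
    rcases S.conj_z_cases hd with h | h | h | h
    · obtain ⟨i, σ, hi⟩ := S.cz g (mul_inv_eq_iff_eq_mul.mp h)
      exact ⟨i, 0, σ, by simpa using hi⟩
    · have hwg : (S.w * g) * S.z * (S.w * g)⁻¹ = S.z := by
        rw [mul_inv_rev, S.w_inv, show S.w * g * S.z * (g⁻¹ * S.w) = S.w * (g * S.z * g⁻¹) * S.w by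
          group, h, show S.w * S.z⁻¹ * S.w = (S.w⁻¹ * S.z * S.w⁻¹)⁻¹ by group, S.w_inv, S.wz, inv_inv]
      obtain ⟨i, σ, hi⟩ := S.cz _ (mul_inv_eq_iff_eq_mul.mp hwg)
      refine ⟨⟨2 * (i : ℕ) % 3, Nat.mod_lt _ three_pos⟩, 1, σ, ?_⟩
      have e : g = S.w * (S.z ^ (i : ℕ) * S.ψ σ) := by rw [← hi, ← mul_assoc, S.w2, one_mul]
      rw [e]
      show _ = S.z ^ (2 * (i : ℕ) % 3) * S.w ^ (1 : ℕ) * S.ψ σ
      rw [← pow_eq_pow_mod _ S.z_pow3, pow_one, ← mul_assoc]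
      congr 1
      rw [pow_mul, pow_two, ← S.z_inv, ← S.wz,
        show (S.w * S.z * S.w) ^ (i : ℕ) = S.w * S.z ^ (i : ℕ) * S.w by
          nth_rw 2 [← S.w_inv]; nth_rw 4 [← S.w_inv]; rw [conj_pow],
        mul_assoc, S.w2, mul_one]
    all_goals
      exfalso
      rw [h] at hinv
      first
        | rw [S.wr.eq, mul_assoc, S.w2, mul_one] at hinv
        | rw [S.wr.inv_right.eq, mul_assoc, S.w2, mul_one] at hinv
      have h4 := S.r3
      have h3 : S.r * S.r = 1 := by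
        first
          | (nth_rw 2 [hinv]; exact mul_inv_cancel _)
          | (rw [inv_inv] at hinv; nth_rw 1 [← hinv]; exact inv_mul_cancel _)
      rw [h3, one_mul] at h4
      exact S.r_ne h4
  obtain ⟨i, a, σ, rfl⟩ := hform
  have hi : i = 0 := by
    have h : Commute (S.z ^ (i : ℕ)) S.w := by
      have h' := h2.mul_left ((((Commute.refl S.w).pow_left (a : ℕ)).mul_left
        (S.w_comm σ).symm).inv_left)
      rwa [show S.z ^ (i : ℕ) * S.w ^ (a : ℕ) * S.ψ σ * (S.w ^ (a : ℕ) * S.ψ σ)⁻¹ = S.z ^ (i : ℕ) by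
        group] at h'
    have hwzi : S.w * S.z ^ (i : ℕ) * S.w⁻¹ = (S.z ^ (i : ℕ))⁻¹ := by
      rw [← conj_pow, S.w_inv, S.wz, inv_pow]
    rw [← h.eq, mul_inv_cancel_right] at hwzi
    have hsq : S.z ^ ((i : ℕ) + i) = 1 := by
      rw [pow_add]; nth_rw 2 [hwzi]; exact mul_inv_cancel _
    rw [pow_eq_pow_mod _ S.z_pow3] at hsq
    obtain ⟨e, -⟩ := S.sep (i := ⟨((i : ℕ) + i) % 3, Nat.mod_lt _ three_pos⟩) (j := 0) (σ := 1)
      (ρ := 1) (by simpa using hsq)
    have h0 : ((i : ℕ) + i) % 3 = 0 := congrArg Fin.val e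
    exact Fin.ext (show (i : ℕ) = 0 by omega)
  subst hi
  rw [Fin.val_zero, pow_zero, one_mul] at h1 ⊢
  refine ⟨a, σ, rfl, ?_⟩
  have h' := (((S.wτ).pow_left (a : ℕ)).inv_left).mul_left h1
  rw [inv_mul_cancel_left] at h'
  exact S.inj (by rw [map_mul, map_mul]; exact h'.eq)

theorem cent_u_w {g : G} (h1 : Commute g (S.ψ uu)) (h2 : Commute g S.w) :
    ∃ i : Fin 2, ∃ σ : Perm (Fin 5), g = S.w ^ (i : ℕ) * S.ψ σ ∧ σ * uu = uu * σ := by
  set a := S.ψ aa with ha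
  have haa : a * a = 1 := by rw [ha, ← map_mul, aa_facts.1, map_one]
  have hai : a⁻¹ = a := inv_eq_of_mul_eq_one_right haa
  have k1 := h1.map (MulAut.conj a).toMonoidHom
  have k2 := h2.map (MulAut.conj a).toMonoidHom
  simp only [MulEquiv.coe_toMonoidHom, MulAut.conj_apply, hai] at k1 k2
  rw [show a * S.ψ uu * a = S.τ0 by rw [ha, ← map_mul, ← map_mul, aa_facts.2.2.1]; rfl] at k1
  rw [show a * S.w * a = S.w by rw [ha, ← (S.w_comm aa).eq, mul_assoc, ← ha, haa, mul_one]] at k2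
  obtain ⟨i, σ, hi, hσ⟩ := S.cent_tau_w hN k1 k2
  refine ⟨i, aa * σ * aa, ?_, ?_⟩
  · have e : g = a * (a * g * a) * a := by
      rw [show a * (a * g * a) * a = (a * a) * g * (a * a) by group, haa, one_mul, mul_one]
    rw [e, hi, show a * (S.w ^ (i : ℕ) * S.ψ σ) * a = (a * S.w ^ (i : ℕ)) * S.ψ σ * a by group, ha,
      ← ((S.w_comm aa).pow_left (i : ℕ)).eq, map_mul S.ψ, map_mul S.ψ]
    group
  · have hs := aa_facts.1
    have h3 := aa_facts.2.1
    calc aa * σ * aa * uu = aa * σ * aa * (aa * tau * aa) := by rw [h3]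
      _ = aa * σ * (aa * aa) * tau * aa := by group
      _ = aa * (σ * tau) * aa := by rw [hs, mul_one]; group
      _ = aa * (tau * σ) * aa := by rw [hσ]
      _ = (aa * tau * aa) * (aa * σ * aa) := by
        rw [show (aa * tau * aa) * (aa * σ * aa) = aa * tau * (aa * aa) * σ * aa by group, hs,
          mul_one]
        group
      _ = _ := by rw [h3]

/-- The two alternating groups commute. -/
theorem comm_components (hB : S.TypeB) :
    ∀ α β : Perm (Fin 5), Perm.sign α = 1 → Perm.sign β = 1 → Commute (S.φ α) (S.ψ β) := by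
  set a := S.ψ aa with ha
  have haa : a * a = 1 := by rw [ha, ← map_mul, aa_facts.1, map_one]
  set b := S.φ aa with hb
  have hbb : b * b = 1 := by rw [hb, ← map_mul, aa_facts.1, map_one]
  have hbr : Commute b S.r := (S.r_φ aa).symm
  have hbw : Commute b S.w := by
    rw [hB]
    exact (show Commute aa (uu * tau) from d3_facts.2.2.2.2.2.1).map S.φ
  have hbτ : b * S.τ0 * b = S.w * S.τ0 := by
    rw [hb, ← S.φ_tau, hB, ← map_mul, ← map_mul, ← map_mul, aa_facts.2.1,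
      show uu * tau * tau = uu by rw [mul_assoc, tau_sq, mul_one]]
  set u := S.ψ uu with hu
  have huτ : Commute u S.τ0 := (show Commute uu tau from uu_tau).map S.ψ
  have huu : u * u = 1 := by rw [hu, ← map_mul, uu_sq, map_one]
  have haτ : a * S.τ0 * a = u := by
    show S.ψ aa * S.ψ tau * S.ψ aa = S.ψ uu
    rw [← map_mul, ← map_mul, aa_facts.2.1]
  have hau : a * u * a = S.τ0 := by
    show S.ψ aa * S.ψ uu * S.ψ aa = S.ψ tau
    rw [← map_mul, ← map_mul, aa_facts.2.2.1]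
  have haw : Commute a S.w := (S.w_comm aa).symm
  set r' := S.ψ d3 with hr'
  have har : a * S.r * a = r' := by
    show S.ψ aa * S.ψ c3 * S.ψ aa = S.ψ d3
    rw [← map_mul, ← map_mul, d3_facts.1]
  set g := a * b * a with hg
  have hgg : g * g = 1 := by
    rw [hg, show a * b * a * (a * b * a) = a * b * (a * a) * b * a by group, haa, mul_one,
      mul_assoc a, hbb, mul_one, haa]
  have hgw : Commute g S.w := (haw.mul_left hbw).mul_left haw
  have hgu : g * u * g = u * S.w := by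
    calc g * u * g = a * (b * (a * u * a) * b) * a := by rw [hg]; group
      _ = a * (S.w * S.τ0) * a := by rw [hau, hbτ]
      _ = S.w * (a * S.τ0 * a) := by
        rw [← mul_assoc, haw.eq]; group
      _ = _ := by rw [haτ]; exact S.w_comm uu
  have hgr : Commute g r' := by
    have h : Commute (a * b * a⁻¹) (a * S.r * a⁻¹) := by
      simpa using hbr.map (MulAut.conj a).toMonoidHom
    rwa [inv_eq_of_mul_eq_one_right haa, har] at h
  set x := g * S.τ0 * g with hx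
  have hgconj : ∀ p q : G, g * (p * q) * g = (g * p * g) * (g * q * g) := fun p q => by
    rw [show g * p * g * (g * q * g) = g * p * (g * g) * q * g by group, hgg, mul_one]; group
  have hgfix : ∀ p, Commute g p → g * p * g = p := fun p h => by
    rw [h.eq, mul_assoc, hgg, mul_one]
  have hgx : g * x * g = S.τ0 := by
    rw [hx, show g * (g * S.τ0 * g) * g = (g * g) * S.τ0 * (g * g) by group, hgg, one_mul, mul_one]
  have hxuw : Commute x (u * S.w) := by
    rw [hx, ← hgu]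
    show g * S.τ0 * g * (g * u * g) = g * u * g * (g * S.τ0 * g)
    rw [← hgconj, ← hgconj, huτ.eq]
  have hxw : Commute x S.w := by
    rw [hx]; exact (hgw.mul_left S.wτ.symm).mul_left hgw
  have hxu : Commute x u := by
    have h := hxuw.mul_right hxw
    rwa [mul_assoc, S.w2, mul_one] at h
  obtain ⟨e, σ, hxe, hσu⟩ := S.cent_u_w hN hxu hxw
  have hσσ : σ * σ = 1 := by
    have h : x * x = 1 := by rw [hx, ← hgconj, S.τ0_sq, mul_one, hgg]
    rw [hxe, show S.w ^ (e : ℕ) * S.ψ σ * (S.w ^ (e : ℕ) * S.ψ σ) =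
      S.w ^ (e : ℕ) * (S.ψ σ * S.w ^ (e : ℕ)) * S.ψ σ by group, ← ((S.w_comm σ).pow_left _).eq,
      ← mul_assoc, ← pow_add, mul_assoc, ← map_mul] at h
    have he : S.w ^ ((e : ℕ) + e) = 1 := by
      rw [← two_mul, pow_mul, pow_two, S.w2, one_pow]
    rw [he, one_mul] at h
    exact S.inj (h.trans (map_one S.ψ).symm)
  have hσd : σ * d3 * σ = d3⁻¹ := by
    refine S.inj ?_
    rw [map_mul, map_mul, map_inv, ← hr']
    have h1 : x * r' * x = r'⁻¹ := by
      rw [hx, show g * S.τ0 * g * r' * (g * S.τ0 * g) = g * (S.τ0 * (g * r' * g) * S.τ0) * g by group,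
        hgfix r' hgr]
      have h2 : S.τ0 * r' * S.τ0 = r'⁻¹ := by
        show S.ψ tau * S.ψ d3 * S.ψ tau = _
        rw [← map_mul, ← map_mul, d3_facts.2.2.2.1, map_inv]
      rw [h2]
      exact hgfix _ hgr.inv_right
    have hwr : Commute (S.w ^ (e : ℕ)) r' := (S.w_comm d3).pow_left _
    rw [hxe, show S.w ^ (e : ℕ) * S.ψ σ * r' * (S.w ^ (e : ℕ) * S.ψ σ) =
      S.w ^ (e : ℕ) * (S.ψ σ * r') * S.w ^ (e : ℕ) * S.ψ σ by group,
      mul_assoc (S.w ^ (e : ℕ)) _ (S.w ^ (e : ℕ)),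
      ← (((S.w_comm σ).pow_left (e : ℕ)).mul_right hwr).eq, ← mul_assoc (S.w ^ (e : ℕ)),
      ← pow_add, ← two_mul, pow_mul, pow_two, S.w2, one_pow, one_mul] at h1
    exact h1
  obtain ⟨k, l, rfl⟩ := cent_uu_inv σ hσσ hσu hσd
  -- applying `g` again
  have hr'3 : r' * r' * r' = 1 := by
    rw [hr', ← map_mul, ← map_mul, d3_facts.2.2.2.2.1, map_one]
  have happ : g * x * g = S.w ^ (k : ℕ) *
      S.ψ (uu ^ (k : ℕ) * (d3 ^ (l : ℕ) * (uu ^ (k : ℕ) * d3 ^ (l : ℕ) * tau * (d3 ^ (l : ℕ))⁻¹) *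
        (d3 ^ (l : ℕ))⁻¹)) := by
    set σ := uu ^ (k : ℕ) * d3 ^ (l : ℕ) * tau * (d3 ^ (l : ℕ))⁻¹ with hσdef
    have hpw : ∀ n : ℕ, g * S.w ^ n * g = S.w ^ n := fun n => hgfix _ (hgw.pow_right n)
    have hpu : g * u ^ (k : ℕ) * g = u ^ (k : ℕ) * S.w ^ (k : ℕ) := by
      fin_cases k
      · simp [hgg]
      · simpa using hgu
    have hpr : ∀ n : ℕ, g * r' ^ n * g = r' ^ n := fun n => hgfix _ (hgr.pow_right n)
    have hpri : g * (r' ^ (l : ℕ))⁻¹ * g = (r' ^ (l : ℕ))⁻¹ := hgfix _ (hgr.pow_right _).inv_right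
    have hψ : S.ψ σ = u ^ (k : ℕ) * r' ^ (l : ℕ) * S.τ0 * (r' ^ (l : ℕ))⁻¹ := by
      rw [hσdef, map_mul, map_mul, map_mul, map_pow, map_pow, map_inv, map_pow]; rfl
    calc g * x * g = g * (S.w ^ (e : ℕ) * (u ^ (k : ℕ) * r' ^ (l : ℕ) * S.τ0 *
          (r' ^ (l : ℕ))⁻¹)) * g := by rw [hxe, hψ]
      _ = S.w ^ (e : ℕ) * (u ^ (k : ℕ) * S.w ^ (k : ℕ)) *
          (r' ^ (l : ℕ) * x * (r' ^ (l : ℕ))⁻¹) := by
        simp only [hgconj, hpw, hpu, hpr, hpri, ← hx, mul_assoc]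
      _ = S.w ^ (e : ℕ) * (u ^ (k : ℕ) * S.w ^ (k : ℕ)) *
          (r' ^ (l : ℕ) * S.w ^ (e : ℕ) * S.ψ σ * (r' ^ (l : ℕ))⁻¹) := by
        rw [hxe]; group
      _ = S.w ^ (e : ℕ) * S.w ^ (k : ℕ) * S.w ^ (e : ℕ) *
          S.ψ (uu ^ (k : ℕ) * (d3 ^ (l : ℕ) * σ * (d3 ^ (l : ℕ))⁻¹)) := by
        have c1 : Commute (S.w ^ (k : ℕ)) (u ^ (k : ℕ)) := ((S.w_comm uu).pow_left _).pow_right _
        have c2 : Commute (S.w ^ (e : ℕ)) (r' ^ (l : ℕ)) := ((S.w_comm d3).pow_left _).pow_right _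
        have c3' : Commute (S.w ^ (e : ℕ)) (u ^ (k : ℕ)) := ((S.w_comm uu).pow_left _).pow_right _
        rw [map_mul S.ψ (uu ^ (k : ℕ)), map_mul S.ψ (d3 ^ (l : ℕ) * σ), map_mul S.ψ (d3 ^ (l : ℕ)),
          map_pow, map_inv, map_pow, ← hr', ← hu, ← c1.eq, ← c2.eq]
        calc S.w ^ (e : ℕ) * (S.w ^ (k : ℕ) * u ^ (k : ℕ)) *
              (S.w ^ (e : ℕ) * r' ^ (l : ℕ) * S.ψ σ * (r' ^ (l : ℕ))⁻¹)
            = S.w ^ (e : ℕ) * S.w ^ (k : ℕ) * (u ^ (k : ℕ) * S.w ^ (e : ℕ)) *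
              (r' ^ (l : ℕ) * S.ψ σ * (r' ^ (l : ℕ))⁻¹) := by group
          _ = _ := by rw [← c3'.eq]; group
      _ = _ := by
        congr 1
        rw [← pow_add, ← pow_add, show (e : ℕ) + k + e = 2 * e + k by ring, pow_add, pow_mul,
          pow_two, S.w2, one_pow, one_mul]
  rw [hgx] at happ
  obtain ⟨e1, e2⟩ := S.sep_w (i := 0) (j := k) (σ := tau)
    (ρ := uu ^ (k : ℕ) * (d3 ^ (l : ℕ) * (uu ^ (k : ℕ) * d3 ^ (l : ℕ) * tau * (d3 ^ (l : ℕ))⁻¹) *
      (d3 ^ (l : ℕ))⁻¹)) (by simpa [τ0] using happ)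
  subst e1
  obtain rfl := d3_pow_fix l 0 e2.symm
  have hxe' : x = S.w ^ (e : ℕ) * S.τ0 := by
    simpa [τ0] using hxe
  -- `g` does not centralise `τ0`
  have he1 : e = 1 := by
    fin_cases e
    · exfalso
      have hx0 : g * S.τ0 * g = S.τ0 := by simpa [← hx] using hxe'
      have hgτ : Commute g S.τ0 := by
        show g * S.τ0 = S.τ0 * g
        calc g * S.τ0 = (g * S.τ0 * g) * g := by rw [mul_assoc _ g g, hgg, mul_one]
          _ = _ := by rw [hx0]
      obtain ⟨i, ρ, hgi, hρ⟩ := S.cent_tau_w hN hgτ hgw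
      have h1 : u * S.w = S.ψ (ρ * uu * ρ⁻¹) := by
        have hgi' : g⁻¹ = g := inv_eq_of_mul_eq_one_right hgg
        rw [← hgu]
        nth_rw 2 [← hgi']
        rw [hgi]
        have hc := (S.w_comm (ρ * uu * ρ⁻¹)).pow_left (i : ℕ)
        calc S.w ^ (i : ℕ) * S.ψ ρ * u * (S.w ^ (i : ℕ) * S.ψ ρ)⁻¹
            = S.w ^ (i : ℕ) * S.ψ (ρ * uu * ρ⁻¹) * (S.w ^ (i : ℕ))⁻¹ := by
              rw [map_mul, map_mul, map_inv, hu]; group
          _ = _ := by rw [hc.eq, mul_inv_cancel_right]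
      refine S.w_notin ⟨uu⁻¹ * (ρ * uu * ρ⁻¹), ?_⟩
      rw [map_mul, ← h1, map_inv, ← hu, inv_mul_cancel_left]
    · rfl
  subst he1
  have hgτ : g * S.τ0 * g = S.w * S.τ0 := by simpa [← hx] using hxe'
  -- `b` and `g` act in the same way
  have hbu : b * u * b = u * S.w := by
    calc b * u * b = a * (g * (a * u * a) * g) * a := by
          rw [hg]
          simp only [mul_assoc, ← mul_assoc a a, haa, one_mul, mul_one]
      _ = a * (S.w * S.τ0) * a := by rw [hau, hgτ]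
      _ = S.w * (a * S.τ0 * a) := by rw [← mul_assoc, haw.eq]; group
      _ = _ := by rw [haτ]; exact S.w_comm uu
  set q := b * g with hq
  have hqw : Commute q S.w := hbw.mul_left hgw
  have hqτ : Commute q S.τ0 := by
    show b * g * S.τ0 = S.τ0 * (b * g)
    calc b * g * S.τ0 = b * (g * S.τ0 * g) * g := by
          simp only [mul_assoc, hgg, mul_one]
      _ = b * (b * S.τ0 * b) * g := by rw [hgτ, hbτ]
      _ = _ := by simp only [← mul_assoc, hbb, one_mul]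
  have hqu : Commute q u := by
    show b * g * u = u * (b * g)
    calc b * g * u = b * (g * u * g) * g := by simp only [mul_assoc, hgg, mul_one]
      _ = b * (b * u * b) * g := by rw [hgu, hbu]
      _ = _ := by simp only [← mul_assoc, hbb, one_mul]
  obtain ⟨i, ρ, hqi, hρτ⟩ := S.cent_tau_w hN hqτ hqw
  have hρu : ρ * uu = uu * ρ := by
    have h := ((S.w_comm uu).pow_left (i : ℕ)).inv_left.mul_left (hqi ▸ hqu)
    rw [inv_mul_cancel_left] at h
    exact S.inj (by rw [map_mul, map_mul]; exact h.eq)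
  obtain ⟨j, k, hρ⟩ : ∃ j k : Fin 2, S.ψ ρ = u ^ (j : ℕ) * S.τ0 ^ (k : ℕ) := by
    rcases cent_uu_tau ρ hρu hρτ with rfl | rfl | rfl | rfl
    · exact ⟨0, 0, by simp⟩
    · exact ⟨1, 0, by simp [hu]⟩
    · exact ⟨0, 1, by simp [τ0]⟩
    · exact ⟨1, 1, by simp [hu, τ0]⟩
  -- an element centralising `r` and `r'`
  set η := aa * (uu * tau) ^ (i : ℕ) * tau ^ (k : ℕ) with hη
  have hηg : S.φ η = g * (u ^ (j : ℕ))⁻¹ := by
    have e : g = b * (S.w ^ (i : ℕ) * (u ^ (j : ℕ) * S.τ0 ^ (k : ℕ))) := by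
      rw [← hρ, ← hqi, hq, ← mul_assoc, hbb, one_mul]
    rw [e, (huτ.pow_pow (j : ℕ) (k : ℕ)).eq, hη, map_mul, map_mul, map_pow, map_pow, ← hb,
      S.φ_tau, ← show S.w = S.φ (uu * tau) from hB]
    group
  have hηd : Commute (S.φ η) r' := by
    rw [hηg]
    exact hgr.mul_left (((show Commute uu d3 from d3_facts.2.2.1).map S.ψ).pow_left _).inv_left
  have hηc : Commute (S.φ η) (S.ψ c3) := (S.r_φ η).symm
  -- the subgroup centralising the alternating group of the component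
  set K := (Subgroup.centralizer {S.ψ c3, r'}).comap S.φ with hK
  have hmemK : ∀ {p}, p ∈ K ↔ Commute (S.φ p) (S.ψ c3) ∧ Commute (S.φ p) r' := by
    intro p
    rw [hK, Subgroup.mem_comap, Subgroup.mem_centralizer_iff]
    simp only [Set.mem_insert_iff, Set.mem_singleton_iff, forall_eq_or_imp, forall_eq]
    exact ⟨fun h => ⟨h.1.symm, h.2.symm⟩, fun h => ⟨h.1.symm, h.2.symm⟩⟩
  have hcK : c3 ∈ K := hmemK.mpr (by
    rw [S.φ_c3]; exact ⟨S.z_comm c3, S.z_comm d3⟩)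
  have hsK : uu * tau ∈ K := hmemK.mpr (by
    rw [← show S.w = S.φ (uu * tau) from hB]; exact ⟨S.w_comm c3, S.w_comm d3⟩)
  have hηK : η ∈ K := hmemK.mpr ⟨hηc, hηd⟩
  have h1 : aa * tau ^ (k : ℕ) ∈ K ∨ aa * (uu * tau) * tau ^ (k : ℕ) ∈ K := by
    fin_cases i
    · left; simpa [hη] using hηK
    · right; simpa [hη] using hηK
  have hdK : d3 ∈ K := by
    have hconj : ∀ p ∈ K, p * c3 * p⁻¹ ∈ K := fun p hp => mul_mem (mul_mem hp hcK) (inv_mem hp)
    rcases h1 with h | h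
    · have := hconj _ h
      revert this
      fin_cases k
      · intro h; convert h using 1; decide +kernel
      · intro h; convert h using 1; decide +kernel
    · have := inv_mem (hconj _ h)
      revert this
      fin_cases k
      · intro h; convert h using 1; decide +kernel
      · intro h; convert h using 1; decide +kernel
  intro α β hα hβ
  have hαK : α ∈ K := by
    obtain ⟨a1, b1, c1, d1, e1, f1, rfl⟩ := alt_word α hα
    exact mul_mem (mul_mem (mul_mem (mul_mem (mul_mem (pow_mem hcK _) (pow_mem hdK _))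
      (pow_mem hcK _)) (pow_mem hdK _)) (pow_mem hcK _)) (pow_mem hdK _)
  obtain ⟨k1, k2⟩ := hmemK.mp hαK
  obtain ⟨a1, b1, c1, d1, e1, f1, rfl⟩ := alt_word β hβ
  simp only [map_mul, map_pow]
  exact ((((((k1.pow_right _).mul_right (k2.pow_right _)).mul_right (k1.pow_right _)).mul_right
    (k2.pow_right _)).mul_right (k1.pow_right _)).mul_right (k2.pow_right _))

end Setting

end Cfsg.Agent.H86.SymEight
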